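import Cfsg.Agent.H767.FusTransfer

/-!
# Characteristic bisets: convenient interface (helper767)

`exists_biset`: finite `S × S`-set, stabilizers `{(x, φ x)}`, stability as an isomorphism, `|X| = |S| m` with `p ∤ m`.
`card_orbits_full`: the number of orbits with stabilizer of order `|S|` is prime to `p`.
-/

set_option autoImplicit false

namespace Cfsg.Agent.H767.FusTransfer

open Cfsg Cfsg.FusionSystem Cfsg.Agent.H802 Cfsg.Agent.H767.GSet Cfsg.Agent.H767.Biset
  Cfsg.Agent.H767.Transfer MulAction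

universe u

variable {Ω : Type u} [Group Ω] {S : Subgroup Ω}

/-- Stability as an isomorphism: `e ((g, s) • x) = (φ g, s) • e x`. -/
theorem exists_stability_equiv [Finite S] {F : FusionSystem S} {X : Type*} [MulAction (S × S) X] [Finite X]
    (hX : Gen F X) (hs : Stab F X 0) {P : Subgroup Ω} {φ : P →* Ω} (hφ : φ ∈ F.Hom P) :
    ∃ e : X ≃ X, ∀ (g : P) (s : S) (x : X),
      e (((⟨g, hom_le hφ g.2⟩, s) : S × S) • x) = ((⟨φ g, hom_apply_mem hφ g⟩, s) : S × S) • e x := by
  obtain ⟨e, he⟩ := exists_equiv_of_homs X (fstIn S P).subtype (twist φ (fun x => hom_apply_mem hφ x))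
    (fun D => nf_twist hX hs hφ D (Nat.zero_le _))
  refine ⟨e, fun g s x => ?_⟩
  have h1 : ((⟨g, hom_le hφ g.2⟩, s) : S × S) ∈ fstIn S P := g.2
  exact he ⟨_, h1⟩ x

/-- **Characteristic bisets**, interface form. -/
theorem exists_biset {p : ℕ} [Fact p.Prime] [Finite S] (hS : IsPGroup p S) {F : FusionSystem S}
    (hF : F.IsSaturated p) :
    ∃ (X : Type u) (_ : MulAction (S × S) X) (_ : Finite X) (m : ℕ), ¬ p ∣ m ∧ Nat.card X = Nat.card S * m ∧
      (∀ x : X, ∃ (P : Subgroup Ω) (φ : P →* Ω), φ ∈ F.Hom P ∧ stabilizer (S × S) x = tdiag S P φ) ∧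
      (∀ (r : S) (x : X), ((1, r) : S × S) • x = x → r = 1) ∧
      (∀ (r : S) (x : X), ((r, 1) : S × S) • x = x → r = 1) ∧
      ∀ (P : Subgroup Ω) (φ : P →* Ω) (hφ : φ ∈ F.Hom P), ∃ e : X ≃ X, ∀ (g : P) (s : S) (x : X),
        e (((⟨g, hom_le hφ g.2⟩, s) : S × S) • x) = ((⟨φ g, hom_apply_mem hφ g⟩, s) : S × S) • e x := by
  obtain ⟨X, _, _, m, hX, hs, hm, hpm⟩ := exists_char_biset hS hF
  refine ⟨X, inferInstance, inferInstance, m, hpm, hm, hX, fun r x h => gen_free hX r x h, ?_,
    fun P φ hφ => exists_stability_equiv hX hs hφ⟩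
  intro r x h
  obtain ⟨P, φ, hφ, he⟩ := hX x
  have h1 : ((r, 1) : S × S) ∈ tdiag S P φ := by rw [← he]; exact h
  obtain ⟨h2, h3⟩ := h1
  have h4 : (⟨(r : Ω), h2⟩ : P) = 1 := by
    apply F.injective_of_mem hφ
    rw [map_one]
    exact h3
  exact Subtype.ext (Subtype.mk.inj h4)

/-- The number of orbits whose stabilizers have order `|S|` is prime to `p`. -/
theorem not_dvd_card_orbits_full {p : ℕ} [Fact p.Prime] [Finite S] (hS : IsPGroup p S) {F : FusionSystem S}
    {X : Type*} [MulAction (S × S) X] [Finite X] (hX : Gen F X) {m : ℕ} (hm : Nat.card X = Nat.card S * m)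
    (hpm : ¬ p ∣ m) :
    ¬ p ∣ Nat.card {ω : Quotient (orbitRel (S × S) X) // Nat.card (stabilizer (S × S) ω.out) = Nat.card S} := by
  classical
  have hSpos : 0 < Nat.card S := Nat.card_pos
  intro hdvd
  apply hpm
  have h1 := Nat.card_congr (selfEquivSigmaOrbitsQuotientStabilizer (S × S) X)
  have : Fintype (Quotient (orbitRel (S × S) X)) := Fintype.ofFinite _
  rw [Nat.card_sigma, hm] at h1
  -- split the sum
  have h2 : ∀ ω : Quotient (orbitRel (S × S) X), ∃ k : ℕ,
      Nat.card ((S × S) ⧸ stabilizer (S × S) ω.out) =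
        Nat.card S * ((if Nat.card (stabilizer (S × S) ω.out) = Nat.card S then 1 else 0) + p * k) := by
    intro ω
    have hFD := hX ω.out
    by_cases h : Nat.card (stabilizer (S × S) ω.out) = Nat.card S
    · refine ⟨0, ?_⟩
      have h3 := Subgroup.card_eq_card_quotient_mul_card_subgroup (stabilizer (S × S) ω.out)
      rw [h, Nat.card_prod] at h3
      rw [if_pos h, mul_zero, add_zero, mul_one]
      exact (Nat.eq_of_mul_eq_mul_right hSpos h3).symm
    · have hlt : Nat.card (stabilizer (S × S) ω.out) < Nat.card S := by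
        refine lt_of_le_of_ne ?_ h
        rw [← hFD.card_map_snd]
        exact Subgroup.card_le_card_group _
      obtain ⟨k, hk⟩ := card_quot_dvd hS hFD hlt
      refine ⟨k, ?_⟩
      rw [if_neg h, zero_add, hk]
      ring
  choose k hk using h2
  rw [Finset.sum_congr rfl (fun ω _ => hk ω), ← Finset.mul_sum, Finset.sum_add_distrib, ← Finset.mul_sum,
    Finset.sum_boole] at h1
  have h3 := Nat.eq_of_mul_eq_mul_left hSpos h1
  rw [h3]
  refine dvd_add ?_ (Dvd.intro _ rfl)
  rw [Nat.card_eq_fintype_card, Fintype.card_subtype] at hdvd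
  exact_mod_cast hdvd

end Cfsg.Agent.H767.FusTransfer
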