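import Cfsg.Agent.H767.SprHeis
import Cfsg.Agent.H58.HSOdd
import Cfsg.Agent.HN.Classes
import Cfsg.Agent.KFacts.HS.Base

/-!
# S3938: the row `HS` (helper767)

Explicit generation in the permutation group `Q` on 100 points: for every element `g` of prime order (up to conjugacy and powers) a
word `w` and three words in `w`, `g` whose values are the generators `X, Y, Z Y Z` of `Q`; for the involutory automorphisms
`a ∈ {φ a, X, Z, φ d}` the pair `w, a w a⁻¹`.
-/

set_option autoImplicit false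
set_option maxRecDepth 100000

namespace Cfsg.Agent.H767.SprHS

open Cfsg.Agent.SporadicA.PermTab Cfsg.Agent.HN.HS100 Cfsg.Agent.HN.Pres
open Cfsg.Agent.HN.P1408 (hw hw_x hw_z)
open Cfsg.Agent.HN.H0Basic (τ)
open Cfsg.Agent.HN.Syl (sq_cases hw_a)
open Cfsg.Agent.KFacts.HS
open Cfsg.Agent.H609.TH Cfsg.Agent.H424.Spr Equiv Subgroup
open Cfsg.Agent.H58.HSOdd (wd app x3 y3 x5 y5 pw cm app_spec wd_app wd_pw wd_cm eq_of_chk ne_of_pt wd_nil')
open scoped commutatorElement

/-! ### generation -/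

section card

variable {H : Subgroup (Perm (Fin 100))}

theorem card_ge (iX : InG H tX) (iY : InG H tY) (iW : InG H tW) : 44352000 ≤ Nat.card H := by
  have i3 : InG (ps H 0) s3 := InG.ps (word_of (L := [tX, tW, tX, tW, tX, tY]) (mem3 iX iY iW)
    (by simp) (by decide +kernel)) (by decide +kernel)
  have i4 : InG (ps H 0) s4 := InG.ps (word_of (L := [tW, tY, tW, tY, tY, tY, tX]) (mem3 iX iY iW)
    (by simp) (by decide +kernel)) (by decide +kernel)
  have i5 : InG (ps (ps H 0) 1) s5 := InG.ps (word_of (L := [s3, s3, s4, s3, s4, s4, s3, s3, s3]) (mem2 i3 i4)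
    (by simp) (by decide +kernel)) (by decide +kernel)
  have i6 : InG (ps (ps H 0) 1) s6 := InG.ps (word_of (L := [s3, s4, s3, s4, s4]) (mem2 i3 i4)
    (by simp) (by decide +kernel)) (by decide +kernel)
  have i7 : InG (ps (ps (ps H 0) 1) 3) s7 := InG.ps (word_of (L := [s6, s5, s5, s5, s5, s6]) (mem2 i5 i6)
    (by simp) (by decide +kernel)) (by decide +kernel)
  have i8 : InG (ps (ps (ps H 0) 1) 3) s8 := InG.ps (word_of (L := [s5, s5, s5, s6, s6, s5, s6]) (mem2 i5 i6)
    (by simp) (by decide +kernel)) (by decide +kernel)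
  have i9 : InG (ps (ps (ps H 0) 1) 3) s9 := InG.ps (word_of (L := [s5, s5, s6, s5, s5, s6, s5, s6, s5, s6])
    (mem2 i5 i6) (by simp) (by decide +kernel)) (by decide +kernel)
  have i10 : InG (ps (ps (ps (ps H 0) 1) 3) 8) s10 := InG.ps (word_of (L := [s9, s8, s9, s9]) (mem3 i7 i8 i9)
    (by simp) (by decide +kernel)) (by decide +kernel)
  have h5 : 1 ≤ Nat.card (ps (ps (ps (ps (ps H 0) 1) 3) 8) 2) := Nat.card_pos
  have h4 : 3 * 1 ≤ Nat.card (ps (ps (ps (ps H 0) 1) 3) 8) :=
    card_ge_of_chk (x := 2) (L := [s10]) i10 (by intro P hP; rw [List.mem_singleton.1 hP]; exact i10)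
      (C := oc4) (by decide +kernel) (by decide +kernel) h5
  have h3 : 32 * (3 * 1) ≤ Nat.card (ps (ps (ps H 0) 1) 3) :=
    card_ge_of_chk (x := 8) (L := [s7, s8, s9]) i7 (mem3 i7 i8 i9) (C := oc3) (by decide +kernel)
      (by decide +kernel) h4
  have h2 : 60 * (32 * (3 * 1)) ≤ Nat.card (ps (ps H 0) 1) :=
    card_ge_of_chk (x := 3) (L := [s5, s6]) i5 (mem2 i5 i6) (C := oc2) (by decide +kernel)
      (by decide +kernel) h3
  have h1 : 77 * (60 * (32 * (3 * 1))) ≤ Nat.card (ps H 0) :=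
    card_ge_of_chk (x := 1) (L := [s3, s4]) i3 (mem2 i3 i4) (C := oc1) (by decide +kernel)
      (by decide +kernel) h2
  have h0 : 100 * (77 * (60 * (32 * (3 * 1)))) ≤ Nat.card H :=
    card_ge_of_chk (x := 0) (L := [tX, tY, tW]) iX (mem3 iX iY iW) (C := oc0) (by decide +kernel)
      (by decide +kernel) h1
  exact h0

end card

theorem card_Q : Nat.card Q = 44352000 := Cfsg.Agent.HN.AutBound.card_Q

/-- the word in the two tables -/
noncomputable def sel (A B : ℕ) (w : List ℕ) : List ℕ :=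
  List.rec [] (fun b _ ih => (Nat.rec A (fun _ _ => B) b : ℕ) :: ih) w

theorem sel_mem {A B : ℕ} {w : List ℕ} {P : ℕ} (h : P ∈ sel A B w) : P = A ∨ P = B := by
  induction w with
  | nil => exact absurd h List.not_mem_nil
  | cons b w ih =>
    rcases List.mem_cons.1 (h : P ∈ (Nat.rec A (fun _ _ => B) b : ℕ) :: sel A B w) with h | h
    · cases b with
      | zero => exact Or.inl h
      | succ n => exact Or.inr h
    · exact ih h

/-- **two elements with tables `A`, `B`** -/
theorem top_of_words {K : Subgroup Q} {q r : Q} (hq : q ∈ K) (hr : r ∈ K) {A B : ℕ}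
    (hA : ∀ i : Fin 100, ((q.1 i : Fin 100) : ℕ) = lk A i) (hB : ∀ i : Fin 100, ((r.1 i : Fin 100) : ℕ) = lk B i)
    {u1 u2 u3 : List ℕ}
    (h1 : chkWord 100 tX (sel A B u1) = true) (h2 : chkWord 100 tY (sel A B u2) = true)
    (h3 : chkWord 100 tW (sel A B u3) = true) : K = ⊤ := by
  have iA : InG (K.map Q.subtype) A := ⟨q.1, ⟨q, hq, rfl⟩, hA⟩
  have iB : InG (K.map Q.subtype) B := ⟨r.1, ⟨r, hr, rfl⟩, hB⟩
  have hw : ∀ {u : List ℕ}, ∀ P ∈ sel A B u, InG (K.map Q.subtype) P := by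
    intro u P hP
    rcases sel_mem hP with rfl | rfl
    · exact iA
    · exact iB
  have h := card_ge (InG.word hw h1) (InG.word hw h2) (InG.word hw h3)
  rw [Subgroup.card_map_of_injective Q.subtype_injective] at h
  apply Subgroup.eq_top_of_le_card
  rw [card_Q]
  exact h

/-- the check of the table of a word -/
noncomputable def chkT (w : List ℕ) (A : ℕ) : Bool := allB (fun i => Nat.beq (app w i) (lk A i)) 100

theorem tab_of_chk {w : List ℕ} {A : ℕ} (h : chkT w A = true) (i : Fin 100) :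
    (((wd w).1 i : Fin 100) : ℕ) = lk A i := by
  rw [app_spec]
  exact Nat.eq_of_beq_eq_true ((allB_iff _ _).1 h i i.2)

/-- the check of the table of a conjugate -/
noncomputable def chkC (v w : List ℕ) (B : ℕ) : Bool :=
  allB (fun i => Nat.beq (Cfsg.Agent.HN.Classes.t1 v (app w i)) (lk B (Cfsg.Agent.HN.Classes.t1 v i))) 100

theorem tab_of_chkC {v w : List ℕ} {B : ℕ} (h : chkC v w B = true) (i : Fin 100) :
    (((auQ (hw v) (wd w)).1 i : Fin 100) : ℕ) = lk B i := by
  obtain ⟨j, rfl⟩ := (φ (hw v)).surjective i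
  have h1 : (auQ (hw v) (wd w)).1 (φ (hw v) j) = φ (hw v) ((wd w).1 j) := by
    rw [auQ_apply, Perm.mul_apply, Perm.mul_apply]
    congr 2
    exact (φ (hw v)).symm_apply_apply j
  rw [h1, Cfsg.Agent.HN.Classes.φ_hw_apply, Cfsg.Agent.HN.Classes.φ_hw_apply, app_spec]
  exact Nat.eq_of_beq_eq_true ((allB_iff _ _).1 h j j.2)

theorem goodI_cert {g w : List ℕ} {A B : ℕ} {u1 u2 u3 : List ℕ} (hA : chkT w A = true) (hB : chkT g B = true)
    (h1 : chkWord 100 tX (sel A B u1) = true) (h2 : chkWord 100 tY (sel A B u2) = true)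
    (h3 : chkWord 100 tW (sel A B u3) = true) : GoodI (wd g) :=
  ⟨wd w, top_of_words (q := wd w) (r := wd g) (Subgroup.subset_closure (Or.inl rfl))
    (Subgroup.subset_closure (Or.inr rfl)) (tab_of_chk hA) (tab_of_chk hB) h1 h2 h3⟩

theorem goodA_cert {v w : List ℕ} {A B : ℕ} {u1 u2 u3 : List ℕ} (hA : chkT w A = true) (hB : chkC v w B = true)
    (h1 : chkWord 100 tX (sel A B u1) = true) (h2 : chkWord 100 tY (sel A B u2) = true)
    (h3 : chkWord 100 tW (sel A B u3) = true) : GoodA (auQ (hw v)) :=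
  goodA_of_pair (x := wd w) (top_of_words (q := wd w) (r := auQ (hw v) (wd w))
    (Subgroup.subset_closure (Or.inl rfl)) (Subgroup.subset_closure (Or.inr rfl)) (tab_of_chk hA) (tab_of_chkC hB)
    h1 h2 h3)

/-- an element of order 7 -/
def w7 : List ℕ := [0, 2, 2, 4]
/-- an element of order 11 -/
def w11 : List ℕ := [0, 2, 2, 2, 4]

/-! ### certificates -/

theorem good_a : GoodA (auQ (hw [2, 2, 2])) :=
  goodA_cert (w := [5, 5, 0])
    (A := 0x6e1601a0120aa1441d02e0a01801d8630c20f82180d018178128450b812c2904e07015c1a8490500580a8030381582782b020174030540801682d81900004c0382407a1281302f0840c81f8590420600d8620980a41c84108c0d8188470be110298140580040f03c03a088268480120c00402a05a03c0700404e05c0d02003e028118020160cc02811)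
    (B := 0x2e1801b84c0300902c82d0aa0e8230440c20282180d0c40042083105203c1f83404415c1084b0240440200900618c278200bc1341f0050041602f83c0a21080580c08a1382a02304e0542e85a07016c2b00005c0681801302001c0c8080a014c0d8360a40ec2383d0920cc1601d072070158260501200a04004a1281781e0540582e03201c0d40f806)
    (u1 := [1, 0, 0, 1, 0, 0, 1, 1, 1, 1, 0, 1, 0, 0, 1, 1, 0, 1, 0, 1, 0, 0, 0])
    (u2 := [0, 1, 0, 1, 1, 0, 1, 1, 0, 1, 0, 0, 1, 0, 0, 0, 1, 0, 0, 1, 1, 0, 1, 0, 0])
    (u3 := [0, 0, 0, 1, 0, 1, 0, 0, 1, 1, 0, 0, 0, 0, 1, 0, 1, 0, 1, 1, 0, 0, 1, 1, 1, 1])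
    (by decide +kernel) (by decide +kernel) (by decide +kernel) (by decide +kernel) (by decide +kernel)

theorem good_x : GoodA (auQ (hw [0])) :=
  goodA_cert (w := [5, 3, 3])
    (A := 0x7c1383085905e1742301a0b80e82d06009007c2f84404e0ec1c02909e0881f8400ae0d40e84907213406811086058170260bc0941e0450201600403309403806024000010188200a00541505208e1042a8630a8028010620300d01b81e0640702580909808c1e85b0a2018168070ac1082980101e0500c82106c06c18003016014090130560a016017)
    (B := 0x641581a02f0aa1342604204c0501b05a0ae1440f82a05218c270540660a00881707a0b0118160c2008008240260400603703414c0783c05a174278090b81140684a0300ec1383008c1042904707c0d40306209217c2c80a02a00c108600b61102f0390960b80701c008160188480240640004000e10c2803f03c02c110080360ac1c03a00a0801281d)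
    (u1 := [0, 1, 0, 1, 0, 1, 0])
    (u2 := [0, 1, 0, 1, 1, 0, 1, 1, 0, 1, 0, 0, 0, 1, 1, 0, 1, 1, 1, 0, 0, 0, 0, 1, 0, 0])
    (u3 := [1, 0, 0, 1, 1, 1, 1, 0, 0, 1, 0, 0, 0, 1, 1, 0, 1, 1, 0, 1, 1, 0, 1, 0, 1, 1])
    (by decide +kernel) (by decide +kernel) (by decide +kernel) (by decide +kernel) (by decide +kernel)

theorem good_z : GoodA (auQ (hw [4])) :=
  goodA_cert (w := [2, 2, 0, 2])
    (A := 0x500e82403e0520b02f05b05e1880b8240440d409027098044300410781642904608e12c2506103e074198550121500c03f09a06c1580c0c6108200530160d02b81a07a140278430be0a80a80508a0780c8210b41742700206e0b8080070ac1240180f0021102e00a0261442c00000c08c1c82d0760c81000e0600501b00d0100980202502c0701c031)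
    (B := 0x500dc2484c03c0202905005c1443003a0440d41e81607e0740602f0781603182b058064308340b60c82785400617c0e03e07612c0d0170bc1102e84000c1282b84601e07c108430aa034128090020400d8330b214c3100b0481041480e0ac08c028120621702102000e1382d0000041200c04d05a044020130600541382608e0a80501406c0e41c045)
    (u1 := [1, 1, 0, 1, 0, 0, 0, 0, 0, 0, 1, 0, 0, 0, 0, 1, 1, 0, 1, 1, 0, 0, 1, 0, 1, 1])
    (u2 := [0, 0, 0, 0, 1, 0, 1, 1, 1, 1, 0, 1, 0, 0, 1, 1, 0, 0, 1, 0, 1, 1, 1, 1, 0, 1])
    (u3 := [0, 0, 1, 1, 0, 0, 1, 0, 1, 1, 1, 1, 0, 1, 0, 0, 0, 0, 0, 1, 0, 0, 0, 0, 1, 0])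
    (by decide +kernel) (by decide +kernel) (by decide +kernel) (by decide +kernel) (by decide +kernel)

theorem good_d : GoodA (auQ (hw [1, 3, 1, 2, 1, 4, 3, 4, 2, 4])) :=
  goodA_cert (w := [2, 2, 0])
    (A := 0x7c0e82404205e1482c04f0520a0160620c21682f83c03a1342f05b0301300b82405c0882b84b06a04c1581e02407c1383b022180198410b21181e81408e0c80584a08a138050550121501f81b0800d8060630920c429805068068280380860a80a8070720c004019042174010370201580180f0021102e0510000181182d0400940702601a0100b01c)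
    (B := 0xb00d82402705e034268000b80e00c06200a04015801080130298370480ec0a05908a0d42b0490960541984208807c1703e05a0942d80802c0982b85d0940a41183d03c0842081b0601181500f02200810060072138188630681680701a00c1482a03f044064278120bc02c2885f05011c1d043038024060030141540b8040641841e01300e07416050)
    (u1 := [0, 0, 0, 1, 0, 1, 0, 1, 0, 0, 1, 0, 0, 0, 0, 0, 1, 1, 0, 1, 1, 1])
    (u2 := [0, 0, 1, 0, 1, 1, 1, 1, 0, 1, 1, 0, 0, 1, 0, 0, 0, 1, 0, 0, 1, 1, 0, 1, 0])
    (u3 := [0, 0, 1, 1, 0, 1, 1, 0, 1, 1, 1, 0, 0, 1, 1, 0, 0, 1, 1, 1, 0, 1, 1])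
    (by decide +kernel) (by decide +kernel) (by decide +kernel) (by decide +kernel) (by decide +kernel)

theorem good_t1 : GoodI (wd (x3)) :=
  goodI_cert (w := [5, 5, 0, 4])
    (A := 0x961741a0370380401d8500a8148270630481282283207e0942004301a160310530560d83085707a1041704f0840bc180600a2168070060bc0482604d0721182483501200c0d85f0aa1702c8200540b41300403a0b01d0070900581481808802c000560620f00f80f0460f8140270040880d00c0100040a83803c0cc028210260440501902805c2385b)
    (B := 0xb40a0308250b60e82983601a104220110ae0202a82605605c238500121582c85e096144010420941202284d01c1183182d0200fc0c8430481300184f02c0c4150340720dc2e035052054060620ba0c01182c00c07c0e80405e084028520a809c3001c01e050038180400c80080b0360480003e0260f02f8400341241c04e07a0781103b06602817058)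
    (u1 := [1, 0, 0, 0, 1, 1, 0, 1, 0, 0, 0, 1, 0, 0, 1, 1, 0, 0, 1, 1, 0, 0, 0, 0, 1])
    (u2 := [0, 0, 1, 1, 0, 0, 1, 0, 1, 0, 0, 1, 1, 0, 0, 0, 0, 1, 1, 0, 1, 1, 0, 1, 1, 0])
    (u3 := [0, 0, 0, 0, 1, 0, 1, 0, 0, 0, 0, 1, 1, 0, 0, 0, 0, 1, 0, 0, 0, 1])
    (by decide +kernel) (by decide +kernel) (by decide +kernel) (by decide +kernel) (by decide +kernel)

theorem good_t2 : GoodI (wd (y3)) :=
  goodI_cert (w := [3])
    (A := 0xc01883083a0b61340a8310be18c2f05a09009c1784f08c0fc2e85c08214c2c85804415c1a84a0ac05c1e82a0aa11c2a00f0a41442285009c1301980a0960381b8490560940c0440861082003e0720241e03b03c0001c02c06c0d0190010600b81682002202c038290500981202304207c0e81c0360680c81602804c0901001a0100600601001401802)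
    (B := 0x920b02583f05e0e8318080520080b84d0c200c2a8430b4160108450be0e42905e0ae0882e84800a1180e02004e108050350480ec1681e03a1301b00d06e138038340b80c82b01909e054150280820f4048620a80380806007002c0d00007807c1f050026144060180220580084701e0482c804036018118300940ac2d8330800980a02506214c17044)
    (u1 := [0, 0, 0, 1, 0, 1, 0, 0, 0, 0, 1, 0, 1, 0, 0, 0, 0, 1, 0, 1, 0])
    (u2 := [0, 0, 0, 0, 0])
    (u3 := [0, 1, 1, 0, 0, 0, 0, 1, 0, 0, 0, 1, 0, 1, 0, 0, 0, 0, 1, 0, 1, 0, 1, 0, 0, 1])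
    (by decide +kernel) (by decide +kernel) (by decide +kernel) (by decide +kernel) (by decide +kernel)

theorem good_t3 : GoodI (wd (x3 ++ y3)) :=
  goodI_cert (w := [2, 0])
    (A := 0xa2130250470860fc2d0410780ec1f0620c218c2d85005a1642685f0521601402c0840d02402206e0841c82e03e0c00f04e03a0e8158540bc05c228230ac0940a05707a14c0982f02413c2901101e0380b06006a0602300c09202c2e00a0aa0241200d066110080070640540284b03809c0401b0060a81885d0040101b0400020e00d00003201813020)
    (B := 0x4188258100521302d04e046028100590c20cc2a80e082044028450b600c0b83a0ae084298420441200e05200c1182482a008090060270c01781885f02c1581e83406c0dc040070120041802c0c60641c02804c0f01f02509e0680a0580861501f85003611c200180000c81704a0260482203b01e078178350a21740683905a07c0581d0b80ac0a84d)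
    (u1 := [1, 1, 0, 0, 1, 1, 0, 1, 1, 0, 0, 0, 1, 0, 1, 1, 0, 1, 0, 0, 0, 1, 0])
    (u2 := [1, 1, 0, 0, 1, 1, 0, 1, 1, 0, 0, 0, 1, 0, 1, 1, 0, 1, 0, 0, 0, 1, 0, 0])
    (u3 := [1, 1, 0, 0, 0, 0, 0, 0, 1, 1, 0, 1, 0, 0, 0, 1, 1, 0, 1, 0, 0, 1, 1, 0, 1])
    (by decide +kernel) (by decide +kernel) (by decide +kernel) (by decide +kernel) (by decide +kernel)

theorem good_t4 : GoodI (wd (pw x3 2 ++ y3)) :=
  goodI_cert (w := [0, 2, 0, 2, 0])
    (A := 0x760742402705e0b0268120b81481403e092164278550bc1301d0300481602b0100861840a0050c01501983c0be07c0706202c0940405b05a1181e84a0ba0c8238570360fc0c81e06e0982880f00e0680604b04400c18863068010170020a00e00a8210721041580008002c1504403008c298450380241004e0140040b85a0520d4210130220d806806)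
    (B := 0x140a02583e0461782085605e124290440c20e42a83c0c60001104501a0cc1004c0ae014158460421080e01703c120010300760102000604a0e82e05b0640200c8340620582703d0700b81a8620b401c2782c03e10c1f81d0120500581101c0980805001e128168180b00dc0a8510360482682402609c1482a08e14c2f8030181500d06006c17400859)
    (u1 := [1, 0, 0, 1, 0, 1, 0, 1, 0, 1, 1, 0, 1, 0, 0, 1, 1, 0, 0, 0, 0, 0, 0, 1, 0])
    (u2 := [0, 1, 0, 1, 0, 0, 1, 0, 0, 1, 0, 1, 0, 0, 0, 1, 0, 0, 1, 1, 0, 1, 0, 1, 0])
    (u3 := [0, 0, 1, 0, 1, 0, 1, 1, 0, 1, 1, 0, 0, 1, 1, 0, 1, 0, 1, 0, 1, 1, 0, 0, 0, 0])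
    (by decide +kernel) (by decide +kernel) (by decide +kernel) (by decide +kernel) (by decide +kernel)

theorem good_f0 : GoodI (wd (cm x5 y5)) :=
  goodI_cert (w := [0, 2])
    (A := 0x9c1602b85d0a01442c85b0aa1881d83e09212c1802e0b40b42604f0b81342902804e0d0240610881001c84303e1041e03f0bc074198260741580d8170460d42501407a0c42a02f0be0481601608a108068250c00902300c04411c1001903c0dc080110100240c0210640543180500c0381580f0a60e00180b0540d80d0070380080200a00000409829)
    (B := 0x180cc2780906c1881d00f0160d41c8300c20102181909c0080180e0aa0a82080006e1501a02b0840c81d8110ae0542504702c11023052014088178180701742d82101a1801f8450900181285a0b20680e81707c0a41001c02017c2802e04609c260310260042681403e0900904b0101000f0280c6124038050581601e8560bc0b42e01b07814429826)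
    (u1 := [0, 0, 0, 1, 1, 0, 1, 1, 0, 0, 1, 0, 0, 1, 0, 1, 1, 1, 0, 1, 1, 1, 1, 0, 0, 0])
    (u2 := [1, 1, 1, 0, 1, 0, 1, 1, 0, 1, 1, 1, 1, 0, 0, 1, 0, 1, 0, 0, 1, 0, 0, 0, 0])
    (u3 := [0, 1, 1, 0, 0, 0, 0, 1, 0, 0, 0, 0, 0, 1, 1, 0, 1, 0, 1, 0, 1, 0])
    (by decide +kernel) (by decide +kernel) (by decide +kernel) (by decide +kernel) (by decide +kernel)

theorem good_f1 : GoodI (wd (x5)) :=
  goodI_cert (w := [3, 0])
    (A := 0x2a1682402705e0fc3004f0b814c2e8620c20e82d83101e1342f05f0a018c270510ac0d42b849044094158470880a821046080160198410b20ec2280e03c0281b04a07a05c190550601502902d02202c0004c0960f01402606e08c0c02108607c1f007072024100190700b00b0340020b80e01d020048148240180100d01b01004c0a00501a01801003)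
    (B := 0x8a188040290ba178110580b402c298600260f80205c03807c080210ac0c43184d06e0140701a04a0001e8120360800602d0a40542601708c17c270180700e8160490660981e00905413c2185b0020fc2a0590841282b8510900d81a06105e11c0c803022058078140720081704b03c0182002b0601400683b06a0c80e82700e1540504405008c12041)
    (u1 := [0, 0, 0, 1, 0, 0, 0, 1, 1, 0, 1, 0, 0, 1, 0, 1, 1, 1, 0, 1, 1, 1, 1])
    (u2 := [0, 0, 1, 0, 0, 0, 1, 1, 0, 1, 0, 0, 1, 0, 1, 1, 1, 0, 1, 1, 1, 1])
    (u3 := [1, 0, 0, 1, 0, 1, 0, 1, 0, 0, 0, 0, 1, 0, 1, 1, 1, 0, 1, 0, 1, 1, 0])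
    (by decide +kernel) (by decide +kernel) (by decide +kernel) (by decide +kernel) (by decide +kernel)

theorem good_g0 : GoodI (wd (y5)) :=
  goodI_cert (w := [0, 3])
    (A := 0xac1602b8280a00ec060210aa1742904e0680dc0f83c0640b43185405c10028862028184118490c00941c81a0be12c2e0080bc1641985b0b40f82280608e0241384a03605c068420601102984c07a0382784d0240041b01d070120230000861041f813020014018260740a40b0350620bc160190560a80e0240440800f0110300080a80a01e02c03804)
    (B := 0x980dc3080c0b612c160290a00d01204a0ae0202a8090041202c80d09e1442300a0ba1802f03f02a03c0c827086048190420200782e02f09a1680e02207402c1086207018c118540620181284902c00c228530220c0100170340d41982e0541101d81f0080f01e85f09c0a02003603611c1f00103a01c0c00001c104028130280b4130560720ac29058)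
    (u1 := [1, 0, 1, 1, 0, 1, 0, 0, 1, 1, 0, 0, 1, 1, 0, 1, 1, 0, 1, 0, 1, 1])
    (u2 := [1, 1, 0, 0, 0, 1, 0, 0, 0, 0, 1, 1, 1, 1, 0, 0, 0, 0, 1, 1, 0, 1, 1, 0, 0])
    (u3 := [0, 0, 0, 1, 0, 1, 1, 0, 0, 0, 1, 0, 0, 0, 1, 1, 0, 1, 0, 1, 1, 0, 0, 0, 0])
    (by decide +kernel) (by decide +kernel) (by decide +kernel) (by decide +kernel) (by decide +kernel)

theorem good_g1 : GoodI (wd (x5 ++ y5)) :=
  goodI_cert (w := [3])
    (A := 0xc01883083a0b61340a8310be18c2f05a09009c1784f08c0fc2e85c08214c2c85804415c1a84a0ac05c1e82a0aa11c2a00f0a41442285009c1301980a0960381b8490560940c0440861082003e0720241e03b03c0001c02c06c0d0190010600b81682002202c038290500981202304207c0e81c0360680c81602804c0901001a0100600601001401802)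
    (B := 0x9a0e00403b0b40dc2d8540421242880502609c0201d0460682980d0ac040000320440a42f05205c0c0078420360181302005611c2c02a0c602c018360be0d41a0620301142405c0781542b80e0040a01e81c0800243083902c0b01984f07e0482302f08805c2605d0621641683a0220940a82403201c0a0410a00300501e09610c2503e09c0040f860)
    (u1 := [0, 1, 0, 0, 1, 0, 0, 1, 1, 1, 0, 0, 1, 1, 0, 1, 0, 0, 0, 0, 1, 0, 1, 1, 1, 1])
    (u2 := [0, 0, 0, 0, 0])
    (u3 := [1, 0, 0, 0, 1, 1, 1, 1, 0, 1, 0, 1, 1, 0, 0, 0, 0, 1, 0, 1, 0, 0, 1, 0])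
    (by decide +kernel) (by decide +kernel) (by decide +kernel) (by decide +kernel) (by decide +kernel)

theorem good_g2 : GoodI (wd (pw x5 2 ++ y5)) :=
  goodI_cert (w := [3])
    (A := 0xc01883083a0b61340a8310be18c2f05a09009c1784f08c0fc2e85c08214c2c85804415c1a84a0ac05c1e82a0aa11c2a00f0a41442285009c1301980a0960381b8490560940c0440861082003e0720241e03b03c0001c02c06c0d0190010600b81682002202c038290500981202304207c0e81c0360680c81602804c0901001a0100600601001401802)
    (B := 0xc6060138460160e02d05c0680380800a03c108220190900580e00d07c0ac2082606c1502f01f09e02418020022154250610020943003f08a0d41403a0ba0b0248620280f40d05802e010098500461642600305a0740404e00416c198560a40180002a0240e42682207814c2185f08015c1705101e01c2580c0420ec1904706e06c0281506209017829)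
    (u1 := [0, 0, 0, 1, 0, 1, 1, 0, 0, 0, 0, 1, 0, 1, 0, 1, 1, 1, 1, 0, 0, 0])
    (u2 := [0, 0, 0, 0, 0])
    (u3 := [0, 1, 0, 0, 0, 1, 1, 0, 1, 0, 1, 0, 0, 0, 0, 0, 1, 1, 0, 0, 1, 1, 1, 1, 0, 0])
    (by decide +kernel) (by decide +kernel) (by decide +kernel) (by decide +kernel) (by decide +kernel)

theorem good_g3 : GoodI (wd (pw x5 3 ++ y5)) :=
  goodI_cert (w := [3])
    (A := 0xc01883083a0b61340a8310be18c2f05a09009c1784f08c0fc2e85c08214c2c85804415c1a84a0ac05c1e82a0aa11c2a00f0a41442285009c1301980a0960381b8490560940c0440861082003e0720241e03b03c0001c02c06c0d0190010600b81682002202c038290500981202304207c0e81c0360680c81602804c0901001a0100600601001401802)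
    (B := 0x8a0502100006a060058580921401583208e0800900f0340080180d02a0040604a0741702f02f0ac074048610800100280804815c1485207a0b02c85f04416c070620961300b0600721100f02109014c26828086064138310461681983e03e1542083f00c1383183602e0700d85d05a04c2781006001c1b83b068118130250700440502e07814415054)
    (u1 := [1, 1, 1, 0, 1, 1, 1, 0, 1, 1, 0, 0, 1, 1, 0, 1, 0, 0, 0, 1, 0, 1, 1, 0])
    (u2 := [0, 0, 0, 0, 0])
    (u3 := [0, 1, 0, 0, 1, 1, 1, 1, 0, 1, 0, 0, 0, 1, 1, 1, 1, 0, 1, 0, 1, 0, 0])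
    (by decide +kernel) (by decide +kernel) (by decide +kernel) (by decide +kernel) (by decide +kernel)

theorem good_g4 : GoodI (wd (pw x5 4 ++ y5)) :=
  goodI_cert (w := [3])
    (A := 0xc01883083a0b61340a8310be18c2f05a09009c1784f08c0fc2e85c08214c2c85804415c1a84a0ac05c1e82a0aa11c2a00f0a41442285009c1301980a0960381b8490560940c0440861082003e0720241e03b03c0001c02c06c0d0190010600b81682002202c038290500981202304207c0e81c0360680c81602804c0901001a0100600601001401802)
    (B := 0x7a12c100410580501a86001c0840082604a1840303002c08c1400d05c0901d8050be1602f02a07c0640e80805a110050270a204c2a01f09816c2985d06c1682806206e1340102909c048238340340703185903603c2103c09002c1981505e010060520aa0c42283a07200c088220860782b02b01201c1c046092000250570301001904f02e0401f85c)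
    (u1 := [1, 0, 1, 1, 0, 1, 1, 0, 1, 0, 1, 1, 0, 1, 0, 1, 0, 1, 1, 0, 1, 1, 1, 1])
    (u2 := [0, 0, 0, 0, 0])
    (u3 := [1, 1, 0, 0, 1, 0, 0, 1, 0, 1, 0, 0, 1, 0, 1, 0, 1, 1, 1, 0, 1, 0, 0, 1, 1, 0])
    (by decide +kernel) (by decide +kernel) (by decide +kernel) (by decide +kernel) (by decide +kernel)

theorem good_s7 : GoodI (wd (w7)) :=
  goodI_cert (w := [2])
    (A := 0xb4188308630b6164288500be1602684c09411c2184109c0fc1f03c0a80ec2f03a06e1201a05708414c1e83005e0b82782d0a40b0228290501801582506a08c248220720842e01f0aa0780e8240661100c0170ac0581901502812c0981c02409c0881001e0380683108c0302e80b0140240d8080800d8038050340e0150030320100100600200010026)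
    (B := 0x740582b8620be0b42905001a1442b02808e080130370200741281f0781601902b05809c1a06103618c2785c0600780d03e0761740e0390bc138258590620142481406c0bc1080e0aa0b80600000e0fc2d80408014c260480541680a8430c004c2501200c1500c0350021102080900402c2104d0100e0198230060a40c83d0440900504601e05c08845)
    (u1 := [0, 0, 1, 0, 1, 0, 1, 1, 0, 1, 1, 1, 1, 1, 1, 0, 1, 0, 1, 1, 0, 0, 1, 1, 1, 0])
    (u2 := [0])
    (u3 := [0, 1, 0, 1, 0, 1, 0, 1, 1, 1, 1, 0, 0, 0, 1, 1, 1, 1, 0, 0, 1, 1, 1, 0, 0, 1])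
    (by decide +kernel) (by decide +kernel) (by decide +kernel) (by decide +kernel) (by decide +kernel)

theorem good_e11 : GoodI (wd (w11)) :=
  goodI_cert (w := [2])
    (A := 0xb4188308630b6164288500be1602684c09411c2184109c0fc1f03c0a80ec2f03a06e1201a05708414c1e83005e0b82782d0a40b0228290501801582506a08c248220720842e01f0aa0780e8240661100c0170ac0581901502812c0981c02409c0881001e0380683108c0302e80b0140240d8080800d8038050340e0150030320100100600200010026)
    (B := 0x4a0302b83e060178288550420ec2e85604e018068600560581905f0b81602000802008c3084908a1641302e03e038210280a41380c03305a1882204c0400a81a04702e0782a01a0a00f0318130000b0278010b40fc0e8140121340582f0960642403706c16c01822052104090380140102183a0a60d41c84a0380900881b00a0540103100e1180783d)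
    (u1 := [0, 1, 0, 1, 0, 1, 1, 0, 1, 0, 0, 0, 0, 1, 0, 1, 0, 0, 1, 1, 1, 0, 1, 0, 0])
    (u2 := [0])
    (u3 := [1, 1, 1, 1, 0, 0, 0, 0, 0, 1, 0, 1, 0, 0, 0, 0, 1, 1, 0, 1, 0, 0, 1])
    (by decide +kernel) (by decide +kernel) (by decide +kernel) (by decide +kernel) (by decide +kernel)

/-! ### the odd primes -/

theorem goodI_three (g : Q) (hg : orderOf g = 3) : GoodI g := by
  have h := Cfsg.Agent.H58.HSOdd.c3
  simp only [Bool.and_eq_true, Bool.not_eq_true'] at h
  obtain ⟨⟨⟨⟨⟨⟨⟨⟨h1, h2⟩, h3⟩, -⟩, -⟩, n1⟩, n2⟩, n3⟩, n4⟩ := h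
  have e1 : wd x3 ^ 3 = 1 := by rw [← wd_pw]; exact eq_of_chk h1
  have e2 : wd y3 ^ 3 = 1 := by rw [← wd_pw]; exact eq_of_chk h2
  have e3 : wd x3 * wd y3 = wd y3 * wd x3 := by
    rw [← wd_app, ← wd_app]; exact eq_of_chk h3
  have m1 : wd x3 ≠ 1 := by rw [← wd_nil']; exact ne_of_pt (by norm_num) n1
  have m2 : wd y3 ≠ 1 := by rw [← wd_nil']; exact ne_of_pt (by norm_num) n2
  have m3 : wd y3 ≠ wd x3 := ne_of_pt (by norm_num) n3
  have m4 : wd y3 ≠ wd x3 ^ 2 := by rw [← wd_pw]; exact ne_of_pt (by norm_num) n4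
  have hyx : wd y3 ∉ Subgroup.zpowers (wd x3) := by
    intro hm
    obtain ⟨n, hn⟩ := Subgroup.mem_zpowers_iff.1 hm
    have h6 : wd x3 ^ (n % 3) = wd y3 := by
      rw [← hn]
      conv_rhs => rw [← Int.emod_add_mul_ediv n 3, zpow_add, zpow_mul]
      rw [show (wd x3 : Q) ^ (3 : ℤ) = wd x3 ^ 3 from rfl, e1, one_zpow, mul_one]
    have h7 : 0 ≤ n % 3 := Int.emod_nonneg _ (by norm_num)
    have h8 : n % 3 < 3 := Int.emod_lt_of_pos _ (by norm_num)
    have h9 : n % 3 = 0 ∨ n % 3 = 1 ∨ n % 3 = 2 := by omega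
    rcases h9 with h9 | h9 | h9 <;> rw [h9] at h6
    · rw [zpow_zero] at h6; exact m2 h6.symm
    · rw [zpow_one] at h6; exact m3 h6.symm
    · exact m4 h6.symm
  refine SprHeis.goodI_of_pair_sq (by norm_num) e1 e2 e3 m1 hyx (by rw [card_Q]; norm_num) good_t1 (fun r hr => ?_) g hg
  rcases (by omega : r = 0 ∨ r = 1 ∨ r = 2) with rfl | rfl | rfl
  · rw [pow_zero, one_mul]; exact good_t2
  · rw [pow_one, ← wd_app]; exact good_t3
  · rw [← wd_pw, ← wd_app]; exact good_t4

theorem goodI_five (g : Q) (hg : orderOf g = 5) : GoodI g := by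
  have h := Cfsg.Agent.H58.HSOdd.c5
  simp only [Bool.and_eq_true, Bool.not_eq_true'] at h
  obtain ⟨⟨⟨⟨⟨⟨h1, h2⟩, h3⟩, h4⟩, -⟩, -⟩, h7⟩ := h
  have e1 : wd x5 ^ 5 = 1 := by rw [← wd_pw]; exact eq_of_chk h1
  have e2 : wd y5 ^ 5 = 1 := by rw [← wd_pw]; exact eq_of_chk h2
  have e3 : ⁅wd x5, wd y5⁆ * wd x5 = wd x5 * ⁅wd x5, wd y5⁆ := by
    rw [← wd_cm, ← wd_app, ← wd_app]; exact eq_of_chk h3
  have e4 : ⁅wd x5, wd y5⁆ * wd y5 = wd y5 * ⁅wd x5, wd y5⁆ := by
    rw [← wd_cm, ← wd_app, ← wd_app]; exact eq_of_chk h4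
  have e7 : ⁅wd x5, wd y5⁆ ≠ 1 := by
    rw [← wd_cm, ← wd_nil']; exact ne_of_pt (by norm_num) h7
  refine SprHeis.goodI_of_pair_cube (by norm_num) e1 e2 e3 e4 e7 (by rw [card_Q]; norm_num)
    (by rw [← wd_cm]; exact good_f0) good_f1 (fun r hr => ?_) g hg
  rcases (by omega : r = 0 ∨ r = 1 ∨ r = 2 ∨ r = 3 ∨ r = 4) with rfl | rfl | rfl | rfl | rfl
  · rw [pow_zero, one_mul]; exact good_g0
  · rw [pow_one, ← wd_app]; exact good_g1
  · rw [← wd_pw, ← wd_app]; exact good_g2
  · rw [← wd_pw, ← wd_app]; exact good_g3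
  · rw [← wd_pw, ← wd_app]; exact good_g4

theorem c7 : (Cfsg.Agent.H58.HSOdd.chk (pw w7 7) [] && !(Nat.beq (app w7 0) (app [] 0))) = true := by decide +kernel
theorem c11 : (Cfsg.Agent.H58.HSOdd.chk (pw w11 11) [] && !(Nat.beq (app w11 0) (app [] 0))) = true := by decide +kernel

theorem ord_of {w : List ℕ} {p : ℕ} (hp : p.Prime)
    (h : (Cfsg.Agent.H58.HSOdd.chk (pw w p) [] && !(Nat.beq (app w 0) (app [] 0))) = true) : orderOf (wd w) = p := by
  rw [Bool.and_eq_true, Bool.not_eq_true'] at h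
  have : Fact p.Prime := ⟨hp⟩
  refine orderOf_eq_prime ?_ ?_
  · rw [← wd_pw]; exact eq_of_chk h.1
  · rw [← wd_nil']; exact ne_of_pt (by norm_num) h.2

theorem goodI_seven (g : Q) (hg : orderOf g = 7) : GoodI g :=
  goodI_of_sq (by norm_num) (by rw [card_Q]; norm_num) (ord_of (by norm_num) c7) good_s7 g hg

theorem goodI_eleven (g : Q) (hg : orderOf g = 11) : GoodI g :=
  goodI_of_sq (by norm_num) (by rw [card_Q]; norm_num) (ord_of (by norm_num) c11) good_e11 g hg

theorem goodI_odd (g : Q) {p : ℕ} (hp : p.Prime) (hp2 : p ≠ 2) (hg : orderOf g = p) : GoodI g := by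
  have h1 : p ∣ 44352000 := by
    rw [← card_Q, ← hg]
    exact orderOf_dvd_natCard g
  have h2 : (44352000 : ℕ) = 2 ^ 9 * (3 ^ 2 * (5 ^ 3 * (7 * 11))) := by norm_num
  rw [h2] at h1
  have h3 : p = 2 ∨ p = 3 ∨ p = 5 ∨ p = 7 ∨ p = 11 := by
    have e : ∀ {q : ℕ}, q.Prime → p ∣ q → p = q := fun hq h => (Nat.prime_dvd_prime_iff_eq hp hq).1 h
    rcases (hp.dvd_mul).1 h1 with h | h
    · exact Or.inl (e (by norm_num) (hp.dvd_of_dvd_pow h))
    rcases (hp.dvd_mul).1 h with h | h
    · exact Or.inr (Or.inl (e (by norm_num) (hp.dvd_of_dvd_pow h)))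
    rcases (hp.dvd_mul).1 h with h | h
    · exact Or.inr (Or.inr (Or.inl (e (by norm_num) (hp.dvd_of_dvd_pow h))))
    rcases (hp.dvd_mul).1 h with h | h
    · exact Or.inr (Or.inr (Or.inr (Or.inl (e (by norm_num) h))))
    · exact Or.inr (Or.inr (Or.inr (Or.inr (e (by norm_num) h))))
  rcases h3 with rfl | rfl | rfl | rfl | rfl
  · exact absurd rfl hp2
  · exact goodI_three g hg
  · exact goodI_five g hg
  · exact goodI_seven g hg
  · exact goodI_eleven g hg

/-! ### the involutory automorphisms -/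

theorem goodA_of_isConj {r g : H0} (h : IsConj r g) (hr : GoodA (auQ r)) : GoodA (auQ g) := by
  rw [isConj_iff] at h
  obtain ⟨c, rfl⟩ := h
  refine GoodA.of_conj (auQ c)⁻¹ ?_
  have h1 : (auQ c)⁻¹ * auQ (c * r * c⁻¹) * (auQ c)⁻¹⁻¹ = auQ r := by
    rw [map_mul, map_mul, map_inv]
    group
  rw [h1]
  exact hr

theorem auQ_τ : auQ τ = 1 := (modQ.au_ker τ).2 (Or.inr rfl)

theorem goodA_two (α : MulAut Q) (h : orderOf α = 2) : GoodA α := by
  obtain ⟨g, rfl⟩ := modQ.au_surj α
  have h1 : modQ.au (g ^ 2) = 1 := by rw [map_pow, ← h, pow_orderOf_eq_one]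
  have hne : modQ.au g ≠ 1 := by
    intro h2
    rw [h2, orderOf_one] at h
    exact absurd h (by norm_num)
  change GoodA (auQ g)
  rcases sq_cases ((modQ.au_ker _).1 h1) with h | h | h | h | h | h | h
  · exact absurd ((modQ.au_ker g).2 (Or.inl h)) hne
  · exact absurd ((modQ.au_ker g).2 (Or.inr h)) hne
  · exact goodA_of_isConj h (by rw [← hw_a]; exact good_a)
  · exact goodA_of_isConj h (by rw [map_mul, auQ_τ, mul_one, ← hw_a]; exact good_a)
  · exact goodA_of_isConj h (by rw [← hw_x]; exact good_x)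
  · exact goodA_of_isConj h (by rw [← hw_z]; exact good_z)
  · exact goodA_of_isConj h good_d

/-- the square of an automorphism is inner -/
theorem sq_inner (α : MulAut Q) : ∃ g : Q, α * α = MulAut.conj g := by
  obtain ⟨p, hp, h⟩ := Cfsg.Agent.HN.AutHS.exists_perm α
  have hpp : p * p ∈ Q := Cfsg.Agent.HN.AutBound.mem_Q_iff.2 ⟨mul_mem hp hp, by rw [map_mul, Int.units_mul_self]⟩
  refine ⟨⟨p * p, hpp⟩, ?_⟩
  ext1 x
  apply Subtype.ext
  change (((α * α) x : Q) : Perm (Fin 100)) = p * p * (x : Perm (Fin 100)) * (p * p)⁻¹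
  rw [MulAut.mul_apply, h, h]
  group

theorem spr_Q : Spr Q := by
  have hs : IsSimpleGroup Q := Cfsg.Agent.HN.AutHS.nonempty_Q.2
  refine spr_of_prime fun α hα => ?_
  by_cases h2 : orderOf α = 2
  · exact goodA_two α h2
  · have hna := exists_not_comm (T := Q) card_Q (by norm_num)
    obtain ⟨k, hk⟩ := hα.odd_of_ne_two h2
    obtain ⟨q, hq⟩ := sq_inner α
    have h1 := pow_orderOf_eq_one α
    rw [hk] at h1
    have h3 : α = MulAut.conj (q ^ (k + 1)) := by
      rw [map_pow, ← hq]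
      calc α = α ^ (2 * k + 1) * α := by rw [h1, one_mul]
        _ = (α * α) ^ (k + 1) := by
          rw [← pow_two, ← pow_mul, ← pow_succ]
          congr 1
    have hinj : Function.Injective (MulAut.conj : Q →* MulAut Q) := by
      rw [injective_iff_map_eq_one]
      intro z hz
      have hz' : z ∈ center Q := by
        rw [mem_center_iff]
        intro y
        have h1 : MulAut.conj z y = y := by rw [hz]; rfl
        rw [MulAut.conj_apply] at h1
        calc y * z = z * y * z⁻¹ * z := by rw [h1]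
          _ = z * y := by group
      rcases hs.eq_bot_or_eq_top_of_normal (center Q) inferInstance with h1 | h1
      · rwa [h1, mem_bot] at hz'
      · obtain ⟨x, y, hxy⟩ := hna
        have h2 : y ∈ center Q := by rw [h1]; exact mem_top _
        exact absurd (mem_center_iff.1 h2 x) hxy
    rw [h3]
    refine goodA_of_goodI hna (goodI_odd _ hα h2 ?_)
    rw [h3, orderOf_injective _ hinj]

/-- **The row `HS` of S3938.** -/
theorem spr_hs (_known : Cfsg.Agent.H257.El.Known.{0}) {T : Type} [Group T] [Finite T] (h : Cfsg.Spor.IsoHS T) :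
    Cfsg.Agent.H424.Spr.Spr T := by
  obtain ⟨e⟩ := h
  obtain ⟨f⟩ := Cfsg.Agent.HN.AutHS.nonempty_Q.1
  exact Spr.congr (f.trans e.symm) spr_Q

end Cfsg.Agent.H767.SprHS
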