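import Cfsg.Agent.H744.EssRad
import Mathlib.GroupTheory.Frattini

/-!
# Automizers of essential subgroups act without flags above the Frattini subgroup (helper767)

* `eq_one_of_mod_frattini`: an automorphism of order prime to `p` of a finite `p`-group `H` acting trivially on
  `H/Φ(H)` is trivial;
* `flag`: if `A ≤ Aut(H)` stabilises a chain from a subgroup of `Φ(H)` to `H` with factors of order `1` or `p`, then the
  `p`-elements of `A` form a normal `p`-subgroup of `A`;
* `not_flag_of_isEssential`: an essential subgroup has no such chain of `Aut_F(H)`-invariant subgroups.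
-/

set_option autoImplicit false

namespace Cfsg.Agent.H767.EssFrat

open Cfsg Cfsg.FusionSystem Cfsg.Agent.H802 Cfsg.Agent.H744 MulAction

section abstract

variable {H : Type*} [Group H] [Finite H] {p : ℕ} [Fact p.Prime]

/-- An automorphism of order `q ≠ p` acting trivially modulo the Frattini subgroup is trivial. -/
theorem eq_one_of_prime (hH : IsPGroup p H) {q : ℕ} [Fact q.Prime] (hqp : q ≠ p) (φ : MulAut H)
    (hφ : φ ^ q = 1) (h : ∀ x : H, x⁻¹ * φ x ∈ frattini H) : φ = 1 := by
  classical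
  -- the fixed points of φ
  let C : Subgroup H :=
    { carrier := {x | φ x = x}
      mul_mem' := fun {a b} ha hb => by
        show φ (a * b) = a * b
        rw [map_mul, ha, hb]
      one_mem' := map_one φ
      inv_mem' := fun {a} ha => by
        show φ a⁻¹ = a⁻¹
        rw [map_inv, ha] }
  have hC : ∀ x, x ∈ C ↔ φ x = x := fun x => Iff.rfl
  have hfp : ∀ x : H, ∃ y ∈ frattini H, φ (x * y) = x * y := by
    intro x
    -- ⟨φ⟩ acts on the coset
    let K := {y : H // y ∈ frattini H}
    have hstab : ∀ (k : Subgroup.zpowers φ) (y : H), y ∈ frattini H → x⁻¹ * (k : MulAut H) (x * y) ∈ frattini H := by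
      have hch : (frattini H).Characteristic := inferInstance
      have hmap : ∀ (ψ : MulAut H) (y : H), y ∈ frattini H → ψ y ∈ frattini H := by
        intro ψ y hy
        have h1 := Subgroup.characteristic_iff_map_le.1 hch ψ
        exact h1 ⟨y, hy, rfl⟩
      have hgen : ∀ k ∈ Subgroup.zpowers φ, ∀ z : H, z⁻¹ * k z ∈ frattini H := by
        have hsub : Subgroup.zpowers φ ≤
            { carrier := {k : MulAut H | ∀ z : H, z⁻¹ * k z ∈ frattini H}
              mul_mem' := fun {a b} ha hb z => by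
                have h1 := hb z
                have h2 := ha (b z)
                have h3 : z⁻¹ * (a * b) z = (z⁻¹ * b z) * ((b z)⁻¹ * a (b z)) := by
                  rw [MulAut.mul_apply]
                  group
                rw [h3]
                exact (frattini H).mul_mem h1 h2
              one_mem' := fun z => by
                show z⁻¹ * z ∈ frattini H
                rw [inv_mul_cancel]
                exact (frattini H).one_mem
              inv_mem' := fun {a} ha z => by
                have h1 := ha (a⁻¹ z)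
                rw [MulAut.apply_inv_self] at h1
                have h2 := (frattini H).inv_mem h1
                rw [mul_inv_rev, inv_inv] at h2
                exact h2 } := by
          rw [Subgroup.zpowers_le]
          exact h
        intro k hk z
        exact hsub hk z
      intro k y hy
      have h1 : x⁻¹ * (k : MulAut H) (x * y) = (x⁻¹ * (k : MulAut H) x) * (k : MulAut H) y := by
        rw [map_mul]
        group
      rw [h1]
      exact (frattini H).mul_mem (hgen k k.2 x) (hmap k y hy)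
    let _ : MulAction (Subgroup.zpowers φ) K :=
      { smul := fun k y => ⟨x⁻¹ * (k : MulAut H) (x * y.1), hstab k y.1 y.2⟩
        one_smul := fun y => Subtype.ext (by
          show x⁻¹ * ((1 : MulAut H) (x * y.1)) = y.1
          rw [MulAut.one_apply]
          group)
        mul_smul := fun k l y => Subtype.ext (by
          show x⁻¹ * ((k : MulAut H) * (l : MulAut H)) (x * y.1) =
            x⁻¹ * (k : MulAut H) (x * (x⁻¹ * (l : MulAut H) (x * y.1)))
          rw [MulAut.mul_apply]
          congr 2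
          group) }
    have hq : IsPGroup q (Subgroup.zpowers φ) := by
      refine IsPGroup.iff_card.2 ?_
      rw [Nat.card_zpowers]
      have h1 : orderOf φ ∣ q := orderOf_dvd_of_pow_eq_one hφ
      rcases (Nat.dvd_prime Fact.out).1 h1 with h2 | h2
      · exact ⟨0, by rw [h2, pow_zero]⟩
      · exact ⟨1, by rw [h2, pow_one]⟩
    have hK : ¬ q ∣ Nat.card K := by
      obtain ⟨a, ha⟩ := IsPGroup.iff_card.1 (hH.to_subgroup (frattini H))
      have h1 : Nat.card K = p ^ a := ha
      rw [h1]
      intro h2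
      have h3 := (Fact.out : q.Prime).dvd_of_dvd_pow h2
      exact hqp ((Nat.prime_dvd_prime_iff_eq Fact.out Fact.out).1 h3)
    obtain ⟨y, hy⟩ := hq.nonempty_fixed_point_of_prime_not_dvd_card K hK
    refine ⟨y.1, y.2, ?_⟩
    have h1 := congrArg Subtype.val (hy ⟨φ, Subgroup.mem_zpowers φ⟩)
    have h2 : x⁻¹ * φ (x * y.1) = y.1 := h1
    rw [inv_mul_eq_iff_eq_mul] at h2
    exact h2
  have hCtop : C = ⊤ := by
    apply frattini_nongenerating
    rw [eq_top_iff]
    intro x _
    obtain ⟨y, hy, hxy⟩ := hfp x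
    have h1 : x = (x * y) * y⁻¹ := by group
    rw [h1]
    exact Subgroup.mul_mem_sup ((hC _).2 hxy) ((frattini H).inv_mem hy)
  ext x
  have : x ∈ C := hCtop ▸ Subgroup.mem_top x
  exact this

/-- An automorphism of order prime to `p` acting trivially modulo the Frattini subgroup is trivial. -/
theorem eq_one_of_mod_frattini (hH : IsPGroup p H) (φ : MulAut H) (hc : (orderOf φ).Coprime p)
    (h : ∀ x : H, x⁻¹ * φ x ∈ frattini H) : φ = 1 := by
  by_contra hne
  have h1 : orderOf φ ≠ 1 := fun h1 => hne (orderOf_eq_one_iff.1 h1)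
  obtain ⟨q, hq, hqd⟩ := Nat.exists_prime_and_dvd h1
  have : Fact q.Prime := ⟨hq⟩
  have hpos : 0 < orderOf φ := orderOf_pos φ
  have hqp : q ≠ p := by
    rintro rfl
    exact (Nat.Prime.coprime_iff_not_dvd hq).1 hc.symm hqd
  have hpow : ∀ (k : ℕ) (x : H), x⁻¹ * (φ ^ k) x ∈ frattini H := by
    intro k
    induction k with
    | zero =>
      intro x
      rw [pow_zero, MulAut.one_apply, inv_mul_cancel]
      exact (frattini H).one_mem
    | succ k ih =>
      intro x
      have h2 : x⁻¹ * (φ ^ (k + 1)) x = (x⁻¹ * φ x) * ((φ x)⁻¹ * (φ ^ k) (φ x)) := by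
        rw [pow_succ, MulAut.mul_apply]
        group
      rw [h2]
      exact (frattini H).mul_mem (h x) (ih (φ x))
  have h2 := eq_one_of_prime hH hqp (φ ^ (orderOf φ / q)) (by
    rw [← pow_mul, Nat.div_mul_cancel hqd, pow_orderOf_eq_one]) (fun x => hpow _ x)
  have h3 : orderOf φ ∣ orderOf φ / q := orderOf_dvd_of_pow_eq_one h2
  have h4 : 0 < orderOf φ / q := Nat.div_pos (Nat.le_of_dvd hpos hqd) hq.pos
  have h5 := Nat.le_of_dvd h4 h3
  have h6 : orderOf φ / q < orderOf φ := Nat.div_lt_self hpos hq.one_lt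
  omega

/-- One step down a chain for an automorphism of order prime to `p`. -/
theorem step_down (hH : IsPGroup p H) {N M : Subgroup H} (hN : N.Normal) (φ : MulAut H)
    (hc : (orderOf φ).Coprime p) (hφN : ∀ x ∈ N, φ x ∈ N) (hM : ∀ x, x⁻¹ * φ x ∈ M)
    (hMN : ∀ x ∈ M, x⁻¹ * φ x ∈ N) (x : H) : x⁻¹ * φ x ∈ N := by
  set m := x⁻¹ * φ x with hm
  have hφx : φ x = x * m := by rw [hm]; group
  have hmM : m ∈ M := hM x
  -- work modulo N
  have hmod : ∀ k : ℕ, (QuotientGroup.mk ((φ ^ k) x) : H ⧸ N) = QuotientGroup.mk (x * m ^ k) := by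
    intro k
    induction k with
    | zero => simp
    | succ k ih =>
      have h1 : (φ ^ (k + 1)) x = φ ((φ ^ k) x) := by rw [pow_succ', MulAut.mul_apply]
      rw [h1]
      rw [QuotientGroup.eq] at ih ⊢
      -- φ(φ^k x) = φ(x m^k n⁻¹)
      have h2 := hφN _ ih
      rw [map_mul, map_inv, map_mul, map_pow, hφx] at h2
      -- h2 : (φ (φ^k x))⁻¹ * (x * m * (φ m)^k) ∈ N
      have h3 : ((φ m) ^ k)⁻¹ * m ^ k ∈ N := by
        rw [← QuotientGroup.eq, QuotientGroup.mk_pow, QuotientGroup.mk_pow]
        have h4 : (QuotientGroup.mk (φ m) : H ⧸ N) = QuotientGroup.mk m := by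
          rw [eq_comm, QuotientGroup.eq]
          exact hMN m hmM
        rw [h4]
      have h5 : (φ ((φ ^ k) x))⁻¹ * (x * m ^ (k + 1)) =
          ((φ ((φ ^ k) x))⁻¹ * (x * m * (φ m) ^ k)) * (((φ m) ^ k)⁻¹ * m ^ k) := by
        rw [pow_succ']
        group
      rw [h5]
      exact N.mul_mem h2 h3
  have h1 := hmod (orderOf φ)
  rw [pow_orderOf_eq_one, MulAut.one_apply, QuotientGroup.eq] at h1
  have h2 : m ^ orderOf φ ∈ N := by
    have : x⁻¹ * (x * m ^ orderOf φ) = m ^ orderOf φ := by group
    rwa [this] at h1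
  -- m is a p-element
  obtain ⟨k, hk⟩ := hH m
  have hcop : (orderOf φ).Coprime (p ^ k) := hc.pow_right k
  have h3 : m ∈ N := by
    have h4 : ((p ^ k : ℕ) : ℤ) * (Nat.gcdB (orderOf φ) (p ^ k)) +
        ((orderOf φ : ℕ) : ℤ) * (Nat.gcdA (orderOf φ) (p ^ k)) = 1 := by
      have h5 := Nat.gcd_eq_gcd_ab (orderOf φ) (p ^ k)
      rw [hcop.gcd_eq_one] at h5
      push_cast at h5 ⊢
      linarith
    have h6 : m = m ^ (1 : ℤ) := (zpow_one m).symm
    rw [h6, ← h4, zpow_add, zpow_mul, zpow_mul, zpow_natCast, zpow_natCast, hk, one_zpow, one_mul]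
    exact N.zpow_mem h2 _
  exact h3

/-- A `p`-element stabilising `N ≤ M` with `|M : N|` dividing `p` acts trivially on `M/N`. -/
theorem trivial_of_pElement {N M : Subgroup H} (hNM : N ≤ M) (hidx : N.relIndex M ∣ p) (φ : MulAut H)
    {k : ℕ} (hk : φ ^ p ^ k = 1) (hφN : ∀ x ∈ N, φ x ∈ N) (hφM : ∀ x ∈ M, φ x ∈ M) :
    ∀ x ∈ M, x⁻¹ * φ x ∈ N := by
  classical
  have hmapN : ∀ (ψ : MulAut H), ψ ∈ Subgroup.zpowers φ → (∀ x ∈ N, ψ x ∈ N) ∧ (∀ x ∈ M, ψ x ∈ M) := by
    intro ψ hψ
    rw [mem_zpowers_iff_mem_range_orderOf] at hψ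
    simp only [Finset.mem_image, Finset.mem_range] at hψ
    obtain ⟨j, -, rfl⟩ := hψ
    clear hk
    induction j with
    | zero => simp
    | succ j ih =>
      constructor
      · intro x hx
        rw [pow_succ, MulAut.mul_apply]
        exact ih.1 _ (hφN x hx)
      · intro x hx
        rw [pow_succ, MulAut.mul_apply]
        exact ih.2 _ (hφM x hx)
  let Q := M ⧸ N.subgroupOf M
  let _ : MulAction (Subgroup.zpowers φ) Q :=
    { smul := fun ψ q => Quotient.map' (s₁ := QuotientGroup.leftRel (N.subgroupOf M))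
        (s₂ := QuotientGroup.leftRel (N.subgroupOf M))
        (fun x : M => (⟨(ψ : MulAut H) x, (hmapN ψ ψ.2).2 x x.2⟩ : M)) (by
          intro x y hxy
          rw [QuotientGroup.leftRel_apply] at hxy ⊢
          rw [Subgroup.mem_subgroupOf] at hxy ⊢
          have h1 := (hmapN ψ ψ.2).1 _ hxy
          have h2 : (ψ : MulAut H) (((x⁻¹ * y : M) : H)) = (((ψ : MulAut H) (x : H))⁻¹ * (ψ : MulAut H) (y : H)) := by
            rw [Subgroup.coe_mul, Subgroup.coe_inv, map_mul, map_inv]
          rw [h2] at h1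
          exact h1) q
      one_smul := fun q => by
        induction q using QuotientGroup.induction_on
        rfl
      mul_smul := fun ψ χ q => by
        induction q using QuotientGroup.induction_on
        rfl }
  have hsm : ∀ (ψ : Subgroup.zpowers φ) (x : M), ψ • (QuotientGroup.mk x : Q) =
      (QuotientGroup.mk (⟨(ψ : MulAut H) x, (hmapN ψ ψ.2).2 x x.2⟩ : M) : Q) := fun ψ x => rfl
  have hp : IsPGroup p (Subgroup.zpowers φ) := by
    rintro ⟨ψ, hψ⟩
    refine ⟨k, ?_⟩
    apply Subtype.ext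
    obtain ⟨j, rfl⟩ := hψ
    show (φ ^ j) ^ p ^ k = 1
    rw [← zpow_natCast, ← zpow_mul, mul_comm, zpow_mul, zpow_natCast, hk, one_zpow]
  have hcard : Nat.card Q ∣ p := hidx
  have hmod := hp.card_modEq_card_fixedPoints Q
  have hfix1 : (QuotientGroup.mk 1 : Q) ∈ fixedPoints (Subgroup.zpowers φ) Q := by
    intro ψ
    rw [hsm]
    congr 1
    exact Subtype.ext (map_one _)
  have hall : Nat.card (fixedPoints (Subgroup.zpowers φ) Q) = Nat.card Q := by
    rcases (Nat.dvd_prime (Fact.out : p.Prime)).1 hcard with h1 | h1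
    · have h2 : 0 < Nat.card (fixedPoints (Subgroup.zpowers φ) Q) := by
        have : Nonempty (fixedPoints (Subgroup.zpowers φ) Q) := ⟨⟨_, hfix1⟩⟩
        exact Nat.card_pos
      have h3 : Nat.card (fixedPoints (Subgroup.zpowers φ) Q) ≤ Nat.card Q :=
        Nat.card_le_card_of_injective _ Subtype.val_injective
      omega
    · have h2 : 0 < Nat.card (fixedPoints (Subgroup.zpowers φ) Q) := by
        have : Nonempty (fixedPoints (Subgroup.zpowers φ) Q) := ⟨⟨_, hfix1⟩⟩
        exact Nat.card_pos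
      have h3 : Nat.card (fixedPoints (Subgroup.zpowers φ) Q) ≤ Nat.card Q :=
        Nat.card_le_card_of_injective _ Subtype.val_injective
      rw [h1] at hmod h3 ⊢
      have h4 : p ∣ Nat.card (fixedPoints (Subgroup.zpowers φ) Q) :=
        (Nat.modEq_zero_iff_dvd.1 (hmod.symm.trans (Nat.modEq_zero_iff_dvd.2 dvd_rfl)))
      have h5 := Nat.le_of_dvd h2 h4
      omega
  intro x hx
  have hxfix : (QuotientGroup.mk (⟨x, hx⟩ : M) : Q) ∈ fixedPoints (Subgroup.zpowers φ) Q := by
    have h1 : fixedPoints (Subgroup.zpowers φ) Q = Set.univ := by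
      apply Set.eq_of_subset_of_ncard_le (Set.subset_univ _)
      rw [Set.ncard_univ]
      exact hall.ge
    rw [h1]
    trivial
  have h2 := hxfix ⟨φ, Subgroup.mem_zpowers φ⟩
  rw [hsm, eq_comm, QuotientGroup.eq, Subgroup.mem_subgroupOf] at h2
  exact h2

/-- the elements of `A` acting trivially on the factors of a chain -/
def chainStab (A : Subgroup (MulAut H)) (c : ℕ → Subgroup H) (n : ℕ)
    (hinv : ∀ i, ∀ α ∈ A, ∀ x ∈ c i, α x ∈ c i) : Subgroup A where
  carrier := {α | ∀ i < n, ∀ x ∈ c (i + 1), x⁻¹ * (α : MulAut H) x ∈ c i}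
  mul_mem' := by
    intro a b ha hb i hi x hx
    have h1 := hb i hi x hx
    have h2 := ha i hi _ (hinv (i + 1) b b.2 x hx)
    have h3 : x⁻¹ * ((a * b : A) : MulAut H) x =
        (x⁻¹ * (b : MulAut H) x) * (((b : MulAut H) x)⁻¹ * (a : MulAut H) ((b : MulAut H) x)) := by
      rw [Subgroup.coe_mul, MulAut.mul_apply]
      group
    rw [h3]
    exact (c i).mul_mem h1 h2
  one_mem' := by
    intro i hi x hx
    show x⁻¹ * x ∈ c i
    rw [inv_mul_cancel]
    exact (c i).one_mem
  inv_mem' := by
    intro a ha i hi x hx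
    have h0 : (a : MulAut H)⁻¹ x ∈ c (i + 1) := hinv (i + 1) _ (A.inv_mem a.2) x hx
    have h1 := ha i hi _ h0
    rw [MulAut.apply_inv_self] at h1
    have h2 := (c i).inv_mem h1
    rw [mul_inv_rev, inv_inv] at h2
    exact h2

theorem chainStab_normal (A : Subgroup (MulAut H)) (c : ℕ → Subgroup H) (n : ℕ)
    (hinv : ∀ i, ∀ α ∈ A, ∀ x ∈ c i, α x ∈ c i) : (chainStab A c n hinv).Normal := by
  refine ⟨fun a ha g i hi x hx => ?_⟩
  have h0 : (g : MulAut H)⁻¹ x ∈ c (i + 1) := hinv (i + 1) _ (A.inv_mem g.2) x hx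
  have h1 := hinv i g g.2 _ (ha i hi _ h0)
  rw [map_mul, map_inv, MulAut.apply_inv_self] at h1
  exact h1

theorem chainStab_isPGroup (hH : IsPGroup p H) (A : Subgroup (MulAut H)) (c : ℕ → Subgroup H) (n : ℕ)
    (hinv : ∀ i, ∀ α ∈ A, ∀ x ∈ c i, α x ∈ c i) (hnorm : ∀ i, (c i).Normal) (h0 : c 0 ≤ frattini H)
    (hn : c n = ⊤) : IsPGroup p (chainStab A c n hinv) := by
  rintro ⟨a, ha⟩
  obtain ⟨k, m, hm, hkm⟩ := Nat.exists_eq_pow_mul_and_not_dvd (orderOf_pos a).ne' p (Fact.out : p.Prime).ne_one
  refine ⟨k, ?_⟩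
  apply Subtype.ext
  show a ^ p ^ k = 1
  set b : A := a ^ p ^ k with hb
  have hbmem : b ∈ chainStab A c n hinv := (chainStab A c n hinv).pow_mem ha _
  have hbo : (orderOf (b : MulAut H)).Coprime p := by
    have h1 : orderOf (b : MulAut H) ∣ m := by
      rw [Subgroup.orderOf_coe]
      refine orderOf_dvd_of_pow_eq_one ?_
      rw [hb, ← pow_mul, ← hkm, pow_orderOf_eq_one]
    exact Nat.Coprime.coprime_dvd_left h1 ((Nat.Prime.coprime_iff_not_dvd Fact.out).2 hm).symm
  have key : ∀ j ≤ n, ∀ x : H, x⁻¹ * (b : MulAut H) x ∈ c (n - j) := by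
    intro j
    induction j with
    | zero =>
      intro _ x
      rw [Nat.sub_zero, hn]
      exact Subgroup.mem_top _
    | succ j ih =>
      intro hj x
      have h1 := ih (by omega)
      have h2 : n - j = (n - (j + 1)) + 1 := by omega
      rw [h2] at h1
      exact step_down hH (hnorm _) (b : MulAut H) hbo (hinv _ b b.2) h1 (hbmem (n - (j + 1)) (by omega)) x
  have h1 := key n le_rfl
  rw [Nat.sub_self] at h1
  exact Subtype.ext (eq_one_of_mod_frattini hH _ hbo (fun x => h0 (h1 x)))

/-- **Flag lemma**: the `p`-elements of `A` lie in a normal `p`-subgroup of `A`. -/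
theorem flag (hH : IsPGroup p H) (A : Subgroup (MulAut H)) (c : ℕ → Subgroup H) (n : ℕ)
    (hinv : ∀ i, ∀ α ∈ A, ∀ x ∈ c i, α x ∈ c i) (hnorm : ∀ i, (c i).Normal) (h0 : c 0 ≤ frattini H)
    (hn : c n = ⊤) (hmono : ∀ i < n, c i ≤ c (i + 1)) (hidx : ∀ i < n, (c i).relIndex (c (i + 1)) ∣ p) :
    ∃ B : Subgroup A, B.Normal ∧ IsPGroup p B ∧ ∀ a : A, (∃ k : ℕ, a ^ p ^ k = 1) → a ∈ B := by
  refine ⟨chainStab A c n hinv, chainStab_normal A c n hinv, chainStab_isPGroup hH A c n hinv hnorm h0 hn, ?_⟩
  rintro a ⟨k, hk⟩ i hi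
  refine trivial_of_pElement (hmono i hi) (hidx i hi) (a : MulAut H) (k := k) ?_ (hinv i a a.2) (hinv (i + 1) a a.2)
  have := congrArg Subtype.val hk
  simpa using this

end abstract

variable {Ω : Type*} [Group Ω] {S : Subgroup Ω}

/-- In the automizer of an essential subgroup the `p`-elements do not lie in a normal `p`-subgroup. -/
theorem not_pElements_le {p : ℕ} [Fact p.Prime] [Finite S] (hS : IsPGroup p S) {F : FusionSystem S}
    {H : Subgroup Ω} (hH : F.IsEssential p H) (B : Subgroup (F.autGroup H)) (hB : B.Normal) (hBp : IsPGroup p B)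
    (hall : ∀ a : F.autGroup H, (∃ k : ℕ, a ^ p ^ k = 1) → a ∈ B) : False := by
  have hHS : H ≤ S := hH.1.1
  have hfin : Finite H := finite_of_le hHS
  obtain ⟨-, -, hnorm, E, hE⟩ := hH
  have hEp := hE.1
  set q := QuotientGroup.mk' ((Inn H).subgroupOf (F.autGroup H)) with hq
  have h1 : (B.map q) = ⊥ := by
    refine eq_bot_of_normal_of_stronglyPEmbedded hE (hB.map q (QuotientGroup.mk'_surjective _)) ?_
    exact hBp.map q
  obtain ⟨x, hx⟩ := exists_prime_orderOf_dvd_card' p hEp
  obtain ⟨a, ha⟩ := QuotientGroup.mk'_surjective ((Inn H).subgroupOf (F.autGroup H)) x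
  obtain ⟨k, m, hm, hkm⟩ := Nat.exists_eq_pow_mul_and_not_dvd (orderOf_pos a).ne' p (Fact.out : p.Prime).ne_one
  have h2 : a ^ m ∈ B := hall _ ⟨k, by rw [← pow_mul, mul_comm, ← hkm, pow_orderOf_eq_one]⟩
  have h3 : q (a ^ m) = 1 := by
    have : q (a ^ m) ∈ B.map q := ⟨_, h2, rfl⟩
    rw [h1, Subgroup.mem_bot] at this
    exact this
  rw [map_pow, ha] at h3
  have h4 := orderOf_dvd_of_pow_eq_one h3
  rw [hx] at h4
  exact hm h4

/-- **An essential subgroup has no invariant flag above its Frattini subgroup.** -/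
theorem not_flag_of_isEssential {p : ℕ} [Fact p.Prime] [Finite S] (hS : IsPGroup p S) {F : FusionSystem S}
    {H : Subgroup Ω} (hH : F.IsEssential p H) (c : ℕ → Subgroup H) (n : ℕ)
    (hinv : ∀ i, ∀ α ∈ F.autGroup H, ∀ x ∈ c i, α x ∈ c i) (h0 : c 0 ≤ frattini H)
    (hn : c n = ⊤) (hmono : ∀ i < n, c i ≤ c (i + 1)) (hidx : ∀ i < n, (c i).relIndex (c (i + 1)) ∣ p) : False := by
  have hHS : H ≤ S := hH.1.1
  have hfin : Finite H := finite_of_le hHS
  have hnorm : ∀ i, (c i).Normal := by
    intro i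
    refine ⟨fun x hx g => ?_⟩
    exact hinv i (MulAut.conj g) (inn_le_autGroup F hHS ⟨g, rfl⟩) x hx
  obtain ⟨B, hB, hBp, hall⟩ := flag (hS.to_le hHS) (F.autGroup H) c n hinv hnorm h0 hn hmono hidx
  exact not_pElements_le hS hH B hB hBp hall

/-- Version for characteristic subgroups. -/
theorem not_char_flag_of_isEssential {p : ℕ} [Fact p.Prime] [Finite S] (hS : IsPGroup p S) {F : FusionSystem S}
    {H : Subgroup Ω} (hH : F.IsEssential p H) (c : ℕ → Subgroup H) (n : ℕ)
    (hchar : ∀ i, (c i).Characteristic) (h0 : c 0 ≤ frattini H)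
    (hn : c n = ⊤) (hmono : ∀ i < n, c i ≤ c (i + 1)) (hidx : ∀ i < n, (c i).relIndex (c (i + 1)) ∣ p) : False :=
  not_flag_of_isEssential hS hH c n
    (fun i α _ x hx => (Subgroup.characteristic_iff_map_le.1 (hchar i)) α ⟨x, hx, rfl⟩) h0 hn hmono hidx

/-- The Frattini quotient of an essential subgroup has order at least `p²`. -/
theorem index_frattini_not_dvd {p : ℕ} [Fact p.Prime] [Finite S] (hS : IsPGroup p S) {F : FusionSystem S}
    {H : Subgroup Ω} (hH : F.IsEssential p H) : ¬ (frattini H).index ∣ p := by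
  intro h
  refine not_char_flag_of_isEssential hS hH (fun i => if i = 0 then frattini H else ⊤) 1 ?_ ?_ ?_ ?_ ?_
  · intro i
    by_cases hi : i = 0
    · simp only [hi, if_true]
      infer_instance
    · simp only [hi, if_false]
      infer_instance
  · simp
  · simp
  · intro i hi
    simp
  · intro i hi
    have : i = 0 := by omega
    subst this
    simpa [Subgroup.relIndex_top_right] using h

/-- There is no characteristic subgroup between the Frattini subgroup and the group when `|H : Φ(H)| = p²`: every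
characteristic subgroup `M` containing `Φ(H)` with `|H : M|` and `|M : Φ(H)|` dividing `p` is excluded. -/
theorem not_char_index {p : ℕ} [Fact p.Prime] [Finite S] (hS : IsPGroup p S) {F : FusionSystem S}
    {H : Subgroup Ω} (hH : F.IsEssential p H) (M : Subgroup H) (hM : M.Characteristic) (hle : frattini H ≤ M)
    (h1 : (frattini H).relIndex M ∣ p) (h2 : M.index ∣ p) : False := by
  refine not_char_flag_of_isEssential hS hH (fun i => if i = 0 then frattini H else if i = 1 then M else ⊤) 2
    ?_ ?_ ?_ ?_ ?_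
  · intro i
    by_cases hi : i = 0
    · simp only [hi, if_true]
      infer_instance
    · by_cases hi1 : i = 1
      · subst hi1
        simpa using hM
      · simp only [hi, hi1, if_false]
        infer_instance
  · simp
  · simp
  · intro i hi
    interval_cases i
    · simpa using hle
    · simp
  · intro i hi
    interval_cases i
    · simpa using h1
    · simpa [Subgroup.relIndex_top_right] using h2

end Cfsg.Agent.H767.EssFrat
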