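import Mathlib.GroupTheory.GroupAction.Quotient
import Mathlib.GroupTheory.GroupAction.SubMulAction
import Mathlib.GroupTheory.Index
import Mathlib.GroupTheory.Sylow
import Mathlib.Data.ZMod.Basic
import Mathlib.SetTheory.Cardinal.Finite
import Mathlib.Data.Set.Finite.Lemmas

/-!
# Finite `G`-sets and numbers of fixed points (helper767)

`nf X D` is the number of points of the `G`-set `X` fixed by the subgroup `D`. Main results: the Burnside ring
congruence `nf_modEq` and Burnside's theorem `exists_equiv_of_nf_eq` (two finite `G`-sets with the same numbers of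
fixed points for all subgroups are isomorphic).
-/

set_option autoImplicit false

namespace Cfsg.Agent.H767.GSet

open MulAction

variable {G : Type*} [Group G]

/-- the number of fixed points of `D` on `X` -/
noncomputable def nf (X : Type*) [MulAction G X] (D : Subgroup G) : ℕ :=
  Nat.card {x : X // D ≤ stabilizer G x}

/-- the number of points of `X` with stabilizer `D` -/
noncomputable def nx (X : Type*) [MulAction G X] (D : Subgroup G) : ℕ :=
  Nat.card {x : X // stabilizer G x = D}

/-- splitting the fixed points of `D` by their stabilizers -/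
noncomputable def splitEquiv (X : Type*) [MulAction G X] (D : Subgroup G) :
    {x : X // D ≤ stabilizer G x} ≃
      {x : X // stabilizer G x = D} ⊕ (Σ D' : {D' : Subgroup G // D < D'}, {x : X // stabilizer G x = D'}) where
  toFun x := by
    classical
    exact if h : stabilizer G x.1 = D then Sum.inl ⟨x.1, h⟩ else
      Sum.inr ⟨⟨stabilizer G x.1, lt_of_le_of_ne x.2 (Ne.symm h)⟩, ⟨x.1, rfl⟩⟩
  invFun y := Sum.elim (fun z => ⟨z.1, z.2.ge⟩) (fun z => ⟨z.2.1, z.1.2.le.trans z.2.2.ge⟩) y
  left_inv x := by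
    by_cases h : stabilizer G x.1 = D
    · simp [h]
    · simp [h]
  right_inv y := by
    rcases y with ⟨x, hx⟩ | ⟨⟨D', hD'⟩, ⟨x, hx⟩⟩
    · simp [hx]
    · obtain rfl : stabilizer G x = D' := hx
      have : stabilizer G x ≠ D := ne_of_gt hD'
      simp [this]

theorem nf_eq [Finite G] (X : Type*) [MulAction G X] [Finite X] (D : Subgroup G) [Fintype {D' : Subgroup G // D < D'}] :
    nf X D = nx X D + ∑ D' : {D' : Subgroup G // D < D'}, nx X (D' : Subgroup G) := by
  unfold nf nx
  rw [Nat.card_congr (splitEquiv X D), Nat.card_sum, Nat.card_sigma]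

theorem nx_eq_of_nf_eq [Finite G] (X Y : Type*) [MulAction G X] [Finite X] [MulAction G Y] [Finite Y]
    (D : Subgroup G) (h : ∀ D', D ≤ D' → nf X D' = nf Y D') : nx X D = nx Y D := by
  classical
  have : Finite (Subgroup G) := inferInstance
  induction D using WellFoundedGT.induction with
  | ind D ih =>
    have : Fintype {D' : Subgroup G // D < D'} := Fintype.ofFinite _
    have h1 := nf_eq X D
    have h2 := nf_eq Y D
    have h3 : ∑ D' : {D' : Subgroup G // D < D'}, nx X (D' : Subgroup G) =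
        ∑ D' : {D' : Subgroup G // D < D'}, nx Y (D' : Subgroup G) :=
      Finset.sum_congr rfl fun D' _ => ih D'.1 D'.2 fun D'' hD'' => h D'' (D'.2.le.trans hD'')
    have h4 := h D le_rfl
    omega

theorem stabilizer_smul_eq_iff {X : Type*} [MulAction G X] {D : Subgroup G} (hD : D.Normal) (g : G) (x : X)
    (hx : stabilizer G x = D) : stabilizer G (g • x) = D := by
  ext k
  rw [mem_stabilizer_iff, smul_smul]
  constructor
  · intro h
    have h1 : g⁻¹ * k * g ∈ stabilizer G x := by
      rw [mem_stabilizer_iff, mul_assoc, mul_smul, h, inv_smul_smul]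
    rw [hx] at h1
    have h2 := hD.conj_mem _ h1 g
    simpa [mul_assoc] using h2
  · intro h
    have h1 := hD.conj_mem _ h g⁻¹
    rw [← hx, mem_stabilizer_iff] at h1
    have h2 : k * g = g * (g⁻¹ * k * g⁻¹⁻¹) := by group
    rw [h2, mul_smul, h1]

/-- For `D` normal, the points with stabilizer `D` form a `G`-set all of whose orbits have `|G : D|` points. -/
theorem index_dvd_nx (X : Type*) [MulAction G X] [Finite G] [Finite X] (D : Subgroup G) (hD : D.Normal) :
    D.index ∣ nx X D := by
  classical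
  let _ : MulAction G {x : X // stabilizer G x = D} :=
    { smul := fun g x => ⟨g • x.1, stabilizer_smul_eq_iff hD g x.1 x.2⟩
      one_smul := fun x => Subtype.ext (one_smul G x.1)
      mul_smul := fun g k x => Subtype.ext (mul_smul g k x.1) }
  have hs : ∀ x : {x : X // stabilizer G x = D}, stabilizer G x = D := by
    intro x
    conv_rhs => rw [← x.2]
    ext k
    rw [mem_stabilizer_iff, mem_stabilizer_iff]
    exact Subtype.ext_iff
  unfold nx
  rw [Nat.card_congr (selfEquivSigmaOrbitsQuotientStabilizer G {x : X // stabilizer G x = D})]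
  have : Fintype (Quotient (orbitRel G {x : X // stabilizer G x = D})) := Fintype.ofFinite _
  rw [Nat.card_sigma]
  refine Finset.dvd_sum fun ω _ => ?_
  rw [hs, Subgroup.index]

/-- The Burnside ring congruence. -/
theorem nf_modEq [Finite G] (X Y : Type*) [MulAction G X] [Finite X] [MulAction G Y] [Finite Y]
    (D : Subgroup G) (hD : D.Normal) (h : ∀ D', D < D' → nf X D' = nf Y D') :
    nf X D ≡ nf Y D [MOD D.index] := by
  classical
  have : Fintype {D' : Subgroup G // D < D'} := Fintype.ofFinite _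
  rw [nf_eq X D, nf_eq Y D]
  have h3 : ∑ D' : {D' : Subgroup G // D < D'}, nx X (D' : Subgroup G) =
      ∑ D' : {D' : Subgroup G // D < D'}, nx Y (D' : Subgroup G) :=
    Finset.sum_congr rfl fun D' _ => nx_eq_of_nf_eq X Y D'.1 fun D'' hD'' => h D'' (D'.2.trans_le hD'')
  rw [h3]
  refine Nat.ModEq.add_right _ ?_
  exact ((Nat.modEq_zero_iff_dvd.2 (index_dvd_nx X D hD)).trans
    (Nat.modEq_zero_iff_dvd.2 (index_dvd_nx Y D hD)).symm)

theorem nf_conj (X : Type*) [MulAction G X] (D : Subgroup G) (g : G) :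
    nf X (D.map (MulAut.conj g).toMonoidHom) = nf X D := by
  unfold nf
  refine Nat.card_congr ⟨fun x => ⟨g⁻¹ • x.1, ?_⟩, fun x => ⟨g • x.1, ?_⟩, fun x => ?_, fun x => ?_⟩
  · intro d hd
    have h1 : g * d * g⁻¹ ∈ stabilizer G x.1 := x.2 ⟨d, hd, rfl⟩
    rw [mem_stabilizer_iff] at h1 ⊢
    rw [smul_smul]
    conv_rhs => rw [← h1]
    rw [smul_smul]
    congr 1
    group
  · rintro _ ⟨d, hd, rfl⟩
    have h1 : d ∈ stabilizer G x.1 := x.2 hd
    rw [mem_stabilizer_iff] at h1 ⊢
    show (g * d * g⁻¹) • g • x.1 = g • x.1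
    rw [smul_smul]
    have : g * d * g⁻¹ * g = g * d := by group
    rw [this, mul_smul, h1]
  · exact Subtype.ext (smul_inv_smul g x.1)
  · exact Subtype.ext (inv_smul_smul g x.1)

theorem nf_sum (X Y : Type*) [MulAction G X] [MulAction G Y] [MulAction G (X ⊕ Y)] [Finite X] [Finite Y]
    (hl : ∀ (g : G) (x : X), g • (Sum.inl x : X ⊕ Y) = Sum.inl (g • x))
    (hr : ∀ (g : G) (y : Y), g • (Sum.inr y : X ⊕ Y) = Sum.inr (g • y)) (D : Subgroup G) :
    nf (X ⊕ Y) D = nf X D + nf Y D := by
  unfold nf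
  rw [← Nat.card_sum]
  have h1 : ∀ x : X, stabilizer G (Sum.inl x : X ⊕ Y) = stabilizer G x := by
    intro x
    ext g
    rw [mem_stabilizer_iff, mem_stabilizer_iff, hl, Sum.inl.injEq]
  have h2 : ∀ y : Y, stabilizer G (Sum.inr y : X ⊕ Y) = stabilizer G y := by
    intro y
    ext g
    rw [mem_stabilizer_iff, mem_stabilizer_iff, hr, Sum.inr.injEq]
  refine Nat.card_congr ⟨fun z => ?_, fun z => ?_, fun z => ?_, fun z => ?_⟩
  · exact match z with
      | ⟨Sum.inl x, h⟩ => Sum.inl ⟨x, (h1 x) ▸ h⟩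
      | ⟨Sum.inr y, h⟩ => Sum.inr ⟨y, (h2 y) ▸ h⟩
  · exact match z with
      | Sum.inl x => ⟨Sum.inl x.1, (h1 x.1).symm ▸ x.2⟩
      | Sum.inr y => ⟨Sum.inr y.1, (h2 y.1).symm ▸ y.2⟩
  · rcases z with ⟨x | y, h⟩ <;> rfl
  · rcases z with ⟨x, h⟩ | ⟨y, h⟩ <;> rfl

theorem nf_sigma {ι : Type*} [Finite ι] (X : ι → Type*) [∀ i, MulAction G (X i)] [MulAction G (Σ i, X i)]
    [∀ i, Finite (X i)] [Fintype ι]
    (h : ∀ (g : G) (i : ι) (x : X i), g • (⟨i, x⟩ : Σ i, X i) = ⟨i, g • x⟩) (D : Subgroup G) :
    nf (Σ i, X i) D = ∑ i, nf (X i) D := by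
  unfold nf
  rw [← Nat.card_sigma]
  have h1 : ∀ (i : ι) (x : X i), stabilizer G (⟨i, x⟩ : Σ i, X i) = stabilizer G x := by
    intro i x
    ext g
    rw [mem_stabilizer_iff, mem_stabilizer_iff, h, Sigma.mk.injEq]
    simp
  exact Nat.card_congr ⟨fun z => ⟨z.1.1, ⟨z.1.2, (h1 z.1.1 z.1.2) ▸ z.2⟩⟩,
    fun z => ⟨⟨z.1, z.2.1⟩, (h1 z.1 z.2.1).symm ▸ z.2.2⟩, fun z => rfl, fun z => rfl⟩

/-- conjugate subgroup -/
theorem stabilizer_mk (D : Subgroup G) (g : G) :
    stabilizer G (QuotientGroup.mk g : G ⧸ D) = D.map (MulAut.conj g).toMonoidHom := by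
  have h : (QuotientGroup.mk g : G ⧸ D) = g • (QuotientGroup.mk 1 : G ⧸ D) := by
    rw [MulAction.Quotient.smul_mk, smul_eq_mul, mul_one]
  rw [h, stabilizer_smul_eq_stabilizer_map_conj, stabilizer_quotient]

theorem eq_of_le_map_conj [Finite G] {D D' : Subgroup G} {g : G} (hc : Nat.card D ≤ Nat.card D')
    (h : D' ≤ D.map (MulAut.conj g).toMonoidHom) : D' = D.map (MulAut.conj g).toMonoidHom := by
  refine Subgroup.eq_of_le_of_card_ge h ?_
  rw [Subgroup.card_map_of_injective (MulAut.conj g).injective]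
  exact hc

theorem nf_quot_self [Finite G] (D : Subgroup G) :
    nf (G ⧸ D) D = D.relIndex (Subgroup.normalizer (D : Set G)) := by
  rw [Subgroup.relIndex, Subgroup.index]
  have h := Nat.card_congr (Sylow.fixedPointsMulLeftCosetsEquivQuotient D)
  rw [Subgroup.subgroupOf, ← h]
  refine Nat.card_congr (Equiv.subtypeEquivRight fun x => ?_)
  constructor
  · intro hx d
    exact hx d.2
  · intro hx d hd
    exact hx ⟨d, hd⟩

theorem nf_quot_eq_zero [Finite G] {D D' : Subgroup G} (hc : Nat.card D ≤ Nat.card D')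
    (h : ∀ g : G, D' ≠ D.map (MulAut.conj g).toMonoidHom) : nf (G ⧸ D) D' = 0 := by
  unfold nf
  rw [Nat.card_eq_zero]
  left
  refine ⟨fun ⟨x, hx⟩ => ?_⟩
  obtain ⟨g, rfl⟩ := QuotientGroup.mk_surjective x
  rw [stabilizer_mk] at hx
  exact h g (eq_of_le_map_conj hc hx)

theorem nf_quot_conj [Finite G] {D D' : Subgroup G} {g : G} (h : D' = D.map (MulAut.conj g).toMonoidHom) :
    nf (G ⧸ D) D' = D.relIndex (Subgroup.normalizer (D : Set G)) := by
  rw [h, nf_conj, nf_quot_self]

/-! ### Burnside's theorem -/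

/-- the orbit map `g x ↦ g y` when `Stab(x) ≤ Stab(y)` -/
theorem exists_orbit_map {X Y : Type*} [MulAction G X] [MulAction G Y] {x : X} {y : Y}
    (h : stabilizer G x ≤ stabilizer G y) : ∃ q : X → Y, ∀ g : G, q (g • x) = g • y := by
  classical
  refine ⟨fun z => if hz : ∃ g : G, g • x = z then hz.choose • y else y, fun g => ?_⟩
  have hz : ∃ k : G, k • x = g • x := ⟨g, rfl⟩
  show (if hz : ∃ k : G, k • x = g • x then hz.choose • y else y) = g • y
  rw [dif_pos hz]
  have h1 : g⁻¹ * hz.choose ∈ stabilizer G x := by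
    rw [mem_stabilizer_iff, mul_smul, hz.choose_spec, inv_smul_smul]
  have h2 := h h1
  rw [mem_stabilizer_iff, mul_smul, inv_smul_eq_iff] at h2
  exact h2

theorem exists_equivariant_bijOn [Finite G] {X Y : Type*} [MulAction G X] [MulAction G Y] [Finite X] [Finite Y]
    [Nonempty Y] : ∀ (n : ℕ) (A : Set X) (B : Set Y), A.ncard = n → (∀ (g : G), ∀ x ∈ A, g • x ∈ A) →
      (∀ (g : G), ∀ y ∈ B, g • y ∈ B) →
      (∀ D : Subgroup G, {x | x ∈ A ∧ D ≤ stabilizer G x}.ncard = {y | y ∈ B ∧ D ≤ stabilizer G y}.ncard) →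
      ∃ f : X → Y, Set.BijOn f A B ∧ ∀ (g : G), ∀ x ∈ A, f (g • x) = g • f x := by
  classical
  intro n
  induction n using Nat.strong_induction_on with
  | _ n ih =>
    intro A B hn hA hB hD
    rcases A.eq_empty_or_nonempty with hAe | hAne
    · subst hAe
      have h1 := hD ⊥
      simp only [Set.mem_empty_iff_false, Set.ofPred_false, Set.ncard_empty, bot_le, and_true,
        Set.ofPred_mem_eq] at h1
      rw [eq_comm, Set.ncard_eq_zero] at h1
      subst h1
      exact ⟨fun _ => Classical.arbitrary Y, Set.bijOn_empty _, fun g x hx => hx.elim⟩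
    · -- choose x in A with maximal stabilizer
      obtain ⟨x, hxA, hxmax⟩ := Set.exists_max_image A (fun x => Nat.card (stabilizer G x)) (Set.toFinite A) hAne
      have hfin : ∀ D : Subgroup G, {y | y ∈ B ∧ D ≤ stabilizer G y}.Finite := fun D => Set.toFinite _
      have hfin' : ∀ D : Subgroup G, {x | x ∈ A ∧ D ≤ stabilizer G x}.Finite := fun D => Set.toFinite _
      have hy : ∃ y, y ∈ B ∧ stabilizer G x ≤ stabilizer G y := by
        have h1 := hD (stabilizer G x)
        have h2 : 0 < {z | z ∈ A ∧ stabilizer G x ≤ stabilizer G z}.ncard :=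
          (Set.ncard_pos (hfin' _)).2 ⟨x, hxA, le_rfl⟩
        rw [h1] at h2
        exact (Set.ncard_pos (hfin _)).1 h2
      obtain ⟨y, hyB, hxy⟩ := hy
      have hx' : ∃ x', x' ∈ A ∧ stabilizer G y ≤ stabilizer G x' := by
        have h1 := hD (stabilizer G y)
        have h2 : 0 < {z | z ∈ B ∧ stabilizer G y ≤ stabilizer G z}.ncard :=
          (Set.ncard_pos (hfin _)).2 ⟨y, hyB, le_rfl⟩
        rw [← h1] at h2
        exact (Set.ncard_pos (hfin' _)).1 h2
      obtain ⟨x', hx'A, hyx'⟩ := hx'
      have hst : stabilizer G x = stabilizer G y := by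
        refine Subgroup.eq_of_le_of_card_ge hxy ?_
        calc Nat.card (stabilizer G y) ≤ Nat.card (stabilizer G x') :=
              Nat.card_le_card_of_injective _ (Subgroup.inclusion_injective hyx')
          _ ≤ Nat.card (stabilizer G x) := hxmax x' hx'A
      obtain ⟨q, hq⟩ := exists_orbit_map (G := G) hst.le
      have hqinj : Set.InjOn q (orbit G x) := by
        rintro _ ⟨g, rfl⟩ _ ⟨k, rfl⟩ h
        simp only [hq] at h
        have h1 : k⁻¹ * g ∈ stabilizer G y := by
          rw [mem_stabilizer_iff, mul_smul, h, inv_smul_smul]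
        rw [← hst, mem_stabilizer_iff, mul_smul, inv_smul_eq_iff] at h1
        exact h1
      have hqst : ∀ z ∈ orbit G x, stabilizer G (q z) = stabilizer G z := by
        rintro _ ⟨g, rfl⟩
        simp only [hq]
        rw [stabilizer_smul_eq_stabilizer_map_conj, stabilizer_smul_eq_stabilizer_map_conj, hst]
      have hqor : q '' (orbit G x) = orbit G y := by
        ext z
        constructor
        · rintro ⟨_, ⟨g, rfl⟩, rfl⟩
          simp only [hq]
          exact ⟨g, rfl⟩
        · rintro ⟨g, rfl⟩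
          exact ⟨g • x, ⟨g, rfl⟩, hq g⟩
      have hOA : orbit G x ⊆ A := by
        rintro _ ⟨g, rfl⟩
        exact hA g x hxA
      have hOB : orbit G y ⊆ B := by
        rintro _ ⟨g, rfl⟩
        exact hB g y hyB
      have hcount : ∀ D : Subgroup G, {z | z ∈ orbit G x ∧ D ≤ stabilizer G z}.ncard =
          {z | z ∈ orbit G y ∧ D ≤ stabilizer G z}.ncard := by
        intro D
        have h1 : {z | z ∈ orbit G y ∧ D ≤ stabilizer G z} = q '' {z | z ∈ orbit G x ∧ D ≤ stabilizer G z} := by
          ext z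
          constructor
          · rintro ⟨hz, hz'⟩
            rw [← hqor] at hz
            obtain ⟨w, hw, rfl⟩ := hz
            exact ⟨w, ⟨hw, by rw [← hqst w hw]; exact hz'⟩, rfl⟩
          · rintro ⟨w, ⟨hw, hw'⟩, rfl⟩
            refine ⟨?_, by rw [hqst w hw]; exact hw'⟩
            rw [← hqor]
            exact ⟨w, hw, rfl⟩
        rw [h1, Set.InjOn.ncard_image]
        exact hqinj.mono fun z hz => hz.1
      have hsplitA : ∀ D : Subgroup G, {z | z ∈ A ∧ D ≤ stabilizer G z}.ncard =
          {z | z ∈ A \ orbit G x ∧ D ≤ stabilizer G z}.ncard +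
            {z | z ∈ orbit G x ∧ D ≤ stabilizer G z}.ncard := by
        intro D
        rw [← Set.ncard_union_eq]
        · congr 1
          ext z
          simp only [Set.mem_ofPred_eq, Set.mem_union, Set.mem_sdiff]
          constructor
          · rintro ⟨h1, h2⟩
            by_cases hz : z ∈ orbit G x
            · exact Or.inr ⟨hz, h2⟩
            · exact Or.inl ⟨⟨h1, hz⟩, h2⟩
          · rintro (⟨⟨h1, -⟩, h2⟩ | ⟨h1, h2⟩)
            · exact ⟨h1, h2⟩
            · exact ⟨hOA h1, h2⟩
        · rw [Set.disjoint_left]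
          rintro z ⟨⟨-, h1⟩, -⟩ ⟨h2, -⟩
          exact h1 h2
      have hsplitB : ∀ D : Subgroup G, {z | z ∈ B ∧ D ≤ stabilizer G z}.ncard =
          {z | z ∈ B \ orbit G y ∧ D ≤ stabilizer G z}.ncard +
            {z | z ∈ orbit G y ∧ D ≤ stabilizer G z}.ncard := by
        intro D
        rw [← Set.ncard_union_eq]
        · congr 1
          ext z
          simp only [Set.mem_ofPred_eq, Set.mem_union, Set.mem_sdiff]
          constructor
          · rintro ⟨h1, h2⟩
            by_cases hz : z ∈ orbit G y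
            · exact Or.inr ⟨hz, h2⟩
            · exact Or.inl ⟨⟨h1, hz⟩, h2⟩
          · rintro (⟨⟨h1, -⟩, h2⟩ | ⟨h1, h2⟩)
            · exact ⟨h1, h2⟩
            · exact ⟨hOB h1, h2⟩
        · rw [Set.disjoint_left]
          rintro z ⟨⟨-, h1⟩, -⟩ ⟨h2, -⟩
          exact h1 h2
      have hlt : (A \ orbit G x).ncard < n := by
        rw [← hn]
        refine Set.ncard_lt_ncard ⟨Set.sdiff_subset, fun h => ?_⟩ (Set.toFinite A)
        exact (h hxA).2 (mem_orbit_self x)
      have hnot : ∀ (g : G) (z : X), z ∉ orbit G x → g • z ∉ orbit G x := by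
        intro g z hz h
        apply hz
        rw [← inv_smul_smul g z]
        obtain ⟨k, hk⟩ := h
        exact ⟨g⁻¹ * k, by simp only at hk ⊢; rw [mul_smul, hk]⟩
      have hnot' : ∀ (g : G) (z : Y), z ∉ orbit G y → g • z ∉ orbit G y := by
        intro g z hz h
        apply hz
        rw [← inv_smul_smul g z]
        obtain ⟨k, hk⟩ := h
        exact ⟨g⁻¹ * k, by simp only at hk ⊢; rw [mul_smul, hk]⟩
      obtain ⟨f, hf, hfe⟩ := ih _ hlt (A \ orbit G x) (B \ orbit G y) rfl
        (fun g z hz => ⟨hA g z hz.1, hnot g z hz.2⟩) (fun g z hz => ⟨hB g z hz.1, hnot' g z hz.2⟩)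
        (fun D => by
          have h1 := hD D
          rw [hsplitA D, hsplitB D, hcount D] at h1
          exact Nat.add_right_cancel h1)
      refine ⟨fun z => if z ∈ orbit G x then q z else f z, ⟨?_, ?_, ?_⟩, ?_⟩
      · intro z hz
        by_cases hzo : z ∈ orbit G x
        · simp only [hzo, if_true]
          exact hOB (hqor ▸ ⟨z, hzo, rfl⟩)
        · simp only [hzo, if_false]
          exact (hf.1 ⟨hz, hzo⟩).1
      · intro z hz w hw h
        by_cases hzo : z ∈ orbit G x <;> by_cases hwo : w ∈ orbit G x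
        · simp only [hzo, hwo, if_true] at h
          exact hqinj hzo hwo h
        · simp only [hzo, hwo, if_true, if_false] at h
          exfalso
          have h1 := (hf.1 ⟨hw, hwo⟩).2
          rw [← h] at h1
          exact h1 (hqor ▸ ⟨z, hzo, rfl⟩)
        · simp only [hzo, hwo, if_true, if_false] at h
          exfalso
          have h1 := (hf.1 ⟨hz, hzo⟩).2
          rw [h] at h1
          exact h1 (hqor ▸ ⟨w, hwo, rfl⟩)
        · simp only [hzo, hwo, if_false] at h
          exact hf.2.1 ⟨hz, hzo⟩ ⟨hw, hwo⟩ h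
      · intro w hw
        by_cases hwo : w ∈ orbit G y
        · rw [← hqor] at hwo
          obtain ⟨z, hz, rfl⟩ := hwo
          exact ⟨z, hOA hz, by simp only [hz, if_true]⟩
        · obtain ⟨z, hz, rfl⟩ := hf.2.2 ⟨hw, hwo⟩
          exact ⟨z, hz.1, by simp only [hz.2, if_false]⟩
      · intro g z hz
        by_cases hzo : z ∈ orbit G x
        · have h2 : g • z ∈ orbit G x := by
            obtain ⟨k, rfl⟩ := hzo
            exact ⟨g * k, mul_smul g k x⟩
          simp only [hzo, h2, if_true]
          obtain ⟨k, rfl⟩ := hzo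
          simp only [hq]
          rw [smul_smul, hq, mul_smul]
        · have h2 : g • z ∉ orbit G x := hnot g z hzo
          simp only [hzo, h2, if_false]
          exact hfe g z ⟨hz, hzo⟩

/-- **Burnside's theorem**: finite `G`-sets with the same numbers of fixed points are isomorphic. -/
theorem exists_equiv_of_nf_eq [Finite G] (X Y : Type*) [MulAction G X] [MulAction G Y] [Finite X] [Finite Y]
    (h : ∀ D : Subgroup G, nf X D = nf Y D) : ∃ e : X ≃ Y, ∀ (g : G) (x : X), e (g • x) = g • e x := by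
  classical
  rcases isEmpty_or_nonempty Y with hY | hY
  · have h1 := h ⊥
    unfold nf at h1
    have h2 : Nat.card {y : Y // (⊥ : Subgroup G) ≤ stabilizer G y} = 0 := by
      rw [Nat.card_eq_zero]
      left
      exact ⟨fun y => hY.elim y.1⟩
    rw [h2, Nat.card_eq_zero] at h1
    have hX : IsEmpty X := by
      rcases h1 with h1 | h1
      · exact ⟨fun x => h1.elim ⟨x, bot_le⟩⟩
      · exact (h1.not_finite inferInstance).elim
    exact ⟨Equiv.equivOfIsEmpty X Y, fun g x => hX.elim x⟩
  · obtain ⟨f, hf, hfe⟩ := exists_equivariant_bijOn (G := G) (X := X) (Y := Y) _ Set.univ Set.univ rfl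
      (fun g x _ => Set.mem_univ _) (fun g x _ => Set.mem_univ _) (fun D => by
        have h1 := h D
        unfold nf at h1
        simp only [Set.mem_univ, true_and]
        exact h1)
    exact ⟨Equiv.ofBijective f (Set.bijOn_univ.1 hf), fun g x => hfe g x (Set.mem_univ x)⟩

end Cfsg.Agent.H767.GSet
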