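import Cfsg.Agent.H802.FusNorm
import Cfsg.Agent.H767.GSet
import Mathlib.Algebra.Group.Action.Sum
import Mathlib.Algebra.Group.Action.Sigma

/-!
# Characteristic bisets of saturated fusion systems (helper767): twisted diagonal subgroups

`tdiag S P φ` is the subgroup `{(x, φ x) : x ∈ P}` of `S × S`; `IsFD F D` says that `D` is one of these for a map
of the fusion system `F`.
-/

set_option autoImplicit false

namespace Cfsg.Agent.H767.Biset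

open Cfsg Cfsg.FusionSystem Cfsg.Agent.H802 Cfsg.Agent.H767.GSet MulAction

universe u

variable {Ω : Type u} [Group Ω] {S : Subgroup Ω}

/-- the twisted diagonal subgroup of `S × S` attached to a homomorphism from `P` -/
def tdiag (S P : Subgroup Ω) (φ : P →* Ω) : Subgroup (S × S) where
  carrier := {x | ∃ h : (x.1 : Ω) ∈ P, φ ⟨x.1, h⟩ = x.2}
  mul_mem' := by
    rintro x y ⟨hx, hx'⟩ ⟨hy, hy'⟩
    refine ⟨P.mul_mem hx hy, ?_⟩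
    show φ (⟨x.1, hx⟩ * ⟨y.1, hy⟩) = _
    rw [map_mul, hx', hy']
    rfl
  one_mem' := ⟨P.one_mem, map_one φ⟩
  inv_mem' := by
    rintro x ⟨hx, hx'⟩
    refine ⟨P.inv_mem hx, ?_⟩
    show φ (⟨x.1, hx⟩⁻¹) = _
    rw [map_inv, hx']
    rfl

theorem mem_tdiag {P : Subgroup Ω} {φ : P →* Ω} {x : S × S} :
    x ∈ tdiag S P φ ↔ ∃ h : (x.1 : Ω) ∈ P, φ ⟨x.1, h⟩ = x.2 := Iff.rfl

/-- the `F`-diagonal subgroups of `S × S` -/
def IsFD (F : FusionSystem S) (D : Subgroup (S × S)) : Prop :=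
  ∃ (P : Subgroup Ω) (φ : P →* Ω), φ ∈ F.Hom P ∧ D = tdiag S P φ

theorem IsFD.of_le {F : FusionSystem S} {D D' : Subgroup (S × S)} (h : IsFD F D) (hD : D' ≤ D) : IsFD F D' := by
  obtain ⟨P, φ, hφ, rfl⟩ := h
  set P' : Subgroup Ω := D'.map (S.subtype.comp (MonoidHom.fst S S)) with hP'
  have hle : P' ≤ P := by
    rintro _ ⟨x, hx, rfl⟩
    exact (mem_tdiag.1 (hD hx)).1
  refine ⟨P', φ.comp (Subgroup.inclusion hle), restrict_mem hφ hle, ?_⟩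
  ext x
  rw [mem_tdiag]
  constructor
  · intro hx
    exact ⟨⟨x, hx, rfl⟩, (mem_tdiag.1 (hD hx)).2⟩
  · rintro ⟨⟨y, hy, hyx⟩, hx⟩
    obtain ⟨h1, h2⟩ := mem_tdiag.1 (hD hy)
    have h3 : y.1 = x.1 := Subtype.ext hyx
    have h4 : y.2 = x.2 := by
      apply Subtype.ext
      rw [← h2, ← hx]
      show φ _ = φ _
      congr 1
      exact Subtype.ext hyx
    have h5 : y = x := Prod.ext h3 h4
    rwa [← h5]

theorem IsFD.injOn_snd {F : FusionSystem S} {D : Subgroup (S × S)} (h : IsFD F D) {x y : S × S} (hx : x ∈ D)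
    (hy : y ∈ D) (he : x.2 = y.2) : x = y := by
  obtain ⟨P, φ, hφ, rfl⟩ := h
  obtain ⟨h1, h2⟩ := mem_tdiag.1 hx
  obtain ⟨h3, h4⟩ := mem_tdiag.1 hy
  refine Prod.ext (Subtype.ext ?_) he
  have h5 : φ ⟨x.1, h1⟩ = φ ⟨y.1, h3⟩ := by rw [h2, h4, he]
  exact Subtype.mk.inj (F.injective_of_mem hφ h5)

theorem IsFD.injOn_fst {F : FusionSystem S} {D : Subgroup (S × S)} (h : IsFD F D) {x y : S × S} (hx : x ∈ D)
    (hy : y ∈ D) (he : x.1 = y.1) : x = y := by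
  obtain ⟨P, φ, hφ, rfl⟩ := h
  obtain ⟨h1, h2⟩ := mem_tdiag.1 hx
  obtain ⟨h3, h4⟩ := mem_tdiag.1 hy
  refine Prod.ext he (Subtype.ext ?_)
  rw [← h2, ← h4]
  congr 1
  exact Subtype.ext (congrArg (fun z : S => (z : Ω)) he)

theorem card_tdiag {P : Subgroup Ω} (hP : P ≤ S) {φ : P →* Ω} (hφ : ∀ x : P, φ x ∈ S) :
    Nat.card (tdiag S P φ) = Nat.card P := by
  refine Nat.card_congr ⟨fun x => ⟨x.1.1, x.2.1⟩, fun x => ⟨(⟨x, hP x.2⟩, ⟨φ x, hφ x⟩), x.2, rfl⟩, ?_, ?_⟩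
  · rintro ⟨⟨x, y⟩, h, h'⟩
    refine Subtype.ext (Prod.ext rfl (Subtype.ext h'))
  · intro x
    rfl

theorem map_snd_tdiag {P : Subgroup Ω} (hP : P ≤ S) {φ : P →* Ω} (hφ : ∀ x : P, φ x ∈ S) :
    ((tdiag S P φ).map (MonoidHom.snd S S)).map S.subtype = φ.range := by
  ext z
  constructor
  · rintro ⟨_, ⟨⟨x, y⟩, ⟨h1, h2⟩, rfl⟩, rfl⟩
    exact ⟨_, h2⟩
  · rintro ⟨x, rfl⟩
    exact ⟨⟨φ x, hφ x⟩, ⟨(⟨x, hP x.2⟩, ⟨φ x, hφ x⟩), ⟨x.2, rfl⟩, rfl⟩, rfl⟩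

theorem map_fst_tdiag {P : Subgroup Ω} (hP : P ≤ S) {φ : P →* Ω} (hφ : ∀ x : P, φ x ∈ S) :
    ((tdiag S P φ).map (MonoidHom.fst S S)).map S.subtype = P := by
  ext z
  constructor
  · rintro ⟨_, ⟨⟨x, y⟩, ⟨h1, h2⟩, rfl⟩, rfl⟩
    exact h1
  · intro hz
    exact ⟨⟨z, hP hz⟩, ⟨(⟨z, hP hz⟩, ⟨φ ⟨z, hz⟩, hφ _⟩), ⟨hz, rfl⟩, rfl⟩, rfl⟩

theorem IsFD.card_map_snd {F : FusionSystem S} {D : Subgroup (S × S)} (h : IsFD F D) :
    Nat.card (D.map (MonoidHom.snd S S)) = Nat.card D := by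
  refine Nat.card_congr (Equiv.ofBijective (fun x : D => ⟨x.1.2, x.1, x.2, rfl⟩) ⟨?_, ?_⟩).symm
  · intro x y hxy
    exact Subtype.ext (h.injOn_snd x.2 y.2 (congrArg Subtype.val hxy))
  · rintro ⟨_, x, hx, rfl⟩
    exact ⟨⟨x, hx⟩, rfl⟩

/-- The image of `D` under `(x, y) ↦ (ψ x, y)`. -/
theorem IsFD.conj {F : FusionSystem S} {D : Subgroup (S × S)} (h : IsFD F D) (g : S × S) :
    IsFD F (D.map (MulAut.conj g).toMonoidHom) := by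
  obtain ⟨P, φ, hφ, rfl⟩ := h
  obtain ⟨a, b⟩ := g
  -- conjugation by a⁻¹ on a P a⁻¹
  set P' : Subgroup Ω := P.map (MulAut.conj (a : Ω)).toMonoidHom with hP'
  have hPS : P ≤ S := hom_le hφ
  have hP'S : P' ≤ S := by
    rintro _ ⟨x, hx, rfl⟩
    exact S.mul_mem (S.mul_mem a.2 (hPS hx)) (S.inv_mem a.2)
  have h1 : conjHom P' (a : Ω)⁻¹ ∈ F.Hom P' := F.conj_mem hP'S (S.inv_mem a.2)
  have h1' : ∀ x : P', conjHom P' (a : Ω)⁻¹ x ∈ P := by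
    rintro ⟨_, x, hx, rfl⟩
    show (a : Ω)⁻¹ * (a * x * (a : Ω)⁻¹) * ((a : Ω)⁻¹)⁻¹ ∈ P
    have : (a : Ω)⁻¹ * (a * x * (a : Ω)⁻¹) * ((a : Ω)⁻¹)⁻¹ = x := by group
    rw [this]
    exact hx
  obtain ⟨χ, hχ, hχe⟩ := exists_comp h1 hφ h1'
  have h2 : conjHom S (b : Ω) ∈ F.Hom S := F.conj_mem le_rfl b.2
  obtain ⟨χ', hχ', hχ'e⟩ := exists_comp hχ h2 (fun x => hom_apply_mem hχ x)
  refine ⟨P', χ', hχ', ?_⟩
  have key : ∀ (x : Ω) (hx : x ∈ P) (hx' : (a : Ω) * x * (a : Ω)⁻¹ ∈ P'),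
      χ' ⟨a * x * (a : Ω)⁻¹, hx'⟩ = b * φ ⟨x, hx⟩ * (b : Ω)⁻¹ := by
    intro x hx hx'
    rw [hχ'e]
    show (b : Ω) * χ _ * (b : Ω)⁻¹ = _
    rw [hχe]
    congr 3
    apply Subtype.ext
    show (a : Ω)⁻¹ * (a * x * (a : Ω)⁻¹) * ((a : Ω)⁻¹)⁻¹ = x
    group
  ext x
  rw [mem_tdiag]
  constructor
  · rintro ⟨y, ⟨hy1, hy2⟩, rfl⟩
    have hx' : (a : Ω) * y.1 * (a : Ω)⁻¹ ∈ P' := ⟨y.1, hy1, rfl⟩
    refine ⟨hx', ?_⟩
    have h3 := key y.1 hy1 hx'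
    rw [hy2] at h3
    exact h3
  · rintro ⟨⟨y, hy, hyx⟩, hx⟩
    have hyx' : (a : Ω) * y * (a : Ω)⁻¹ = x.1 := hyx
    have hmem : (a : Ω) * y * (a : Ω)⁻¹ ∈ P' := ⟨y, hy, rfl⟩
    refine ⟨(⟨y, hPS hy⟩, ⟨φ ⟨y, hy⟩, hom_apply_mem hφ _⟩), ⟨hy, rfl⟩, Prod.ext (Subtype.ext hyx) (Subtype.ext ?_)⟩
    show (b : Ω) * φ ⟨y, hy⟩ * (b : Ω)⁻¹ = x.2
    rw [← key y hy hmem, ← hx]
    congr 1
    exact Subtype.ext hyx'

/-! ### Twisting the first coordinate by a map of the system -/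

/-- the subgroup of `S × S` of pairs with first coordinate in `Q` -/
def fstIn (S Q : Subgroup Ω) : Subgroup (S × S) := Q.comap (S.subtype.comp (MonoidHom.fst S S))

theorem mem_fstIn {Q : Subgroup Ω} {x : S × S} : x ∈ fstIn S Q ↔ (x.1 : Ω) ∈ Q := Iff.rfl

/-- `(x, y) ↦ (ψ x, y)` -/
def twist {Q : Subgroup Ω} (ψ : Q →* Ω) (hψ : ∀ x, ψ x ∈ S) : fstIn S Q →* S × S where
  toFun x := (⟨ψ ⟨x.1.1, x.2⟩, hψ _⟩, x.1.2)
  map_one' := Prod.ext (Subtype.ext (map_one ψ)) rfl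
  map_mul' x y := Prod.ext (Subtype.ext (map_mul ψ ⟨x.1.1, x.2⟩ ⟨y.1.1, y.2⟩)) rfl

theorem twist_injective {F : FusionSystem S} {Q : Subgroup Ω} {ψ : Q →* Ω} (hψ : ψ ∈ F.Hom Q) :
    Function.Injective (twist ψ (fun x => hom_apply_mem hψ x)) := by
  rintro ⟨⟨x1, x2⟩, hx⟩ ⟨⟨y1, y2⟩, hy⟩ h
  have h1 : ψ ⟨x1, hx⟩ = ψ ⟨y1, hy⟩ := congrArg (fun z => ((z.1 : S) : Ω)) h
  have h2 : x2 = y2 := congrArg (fun z => z.2) h
  have h3 := congrArg Subtype.val (F.injective_of_mem hψ h1)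
  exact Subtype.ext (Prod.ext (Subtype.ext h3) h2)

theorem map_snd_twist {F : FusionSystem S} {Q : Subgroup Ω} {ψ : Q →* Ω} (hψ : ψ ∈ F.Hom Q)
    (E : Subgroup (fstIn S Q)) :
    (E.map (twist ψ (fun x => hom_apply_mem hψ x))).map (MonoidHom.snd S S) =
      (E.map (fstIn S Q).subtype).map (MonoidHom.snd S S) := by
  ext z
  constructor
  · rintro ⟨_, ⟨x, hx, rfl⟩, rfl⟩
    exact ⟨x.1, ⟨x, hx, rfl⟩, rfl⟩
  · rintro ⟨_, ⟨x, hx, rfl⟩, rfl⟩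
    exact ⟨_, ⟨x, hx, rfl⟩, rfl⟩

/-- Twisting does not change whether a subgroup is `F`-diagonal. -/
theorem isFD_twist_iff {F : FusionSystem S} {Q : Subgroup Ω} {ψ : Q →* Ω} (hψ : ψ ∈ F.Hom Q)
    (E : Subgroup (fstIn S Q)) :
    IsFD F (E.map (twist ψ (fun x => hom_apply_mem hψ x))) ↔ IsFD F (E.map (fstIn S Q).subtype) := by
  constructor
  · rintro ⟨R, χ, hχ, he⟩
    -- P = first projection of E
    set P : Subgroup Ω := (E.map (fstIn S Q).subtype).map (S.subtype.comp (MonoidHom.fst S S)) with hP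
    have hPQ : P ≤ Q := by
      rintro _ ⟨_, ⟨x, hx, rfl⟩, rfl⟩
      exact x.2
    have hR : ∀ x : P, ψ (Subgroup.inclusion hPQ x) ∈ R := by
      rintro ⟨_, _, ⟨x, hx, rfl⟩, rfl⟩
      have h1 : twist ψ (fun x => hom_apply_mem hψ x) x ∈ tdiag S R χ := by
        rw [← he]
        exact ⟨x, hx, rfl⟩
      exact h1.1
    obtain ⟨χ', hχ', hχ'e⟩ := exists_comp (restrict_mem hψ hPQ) hχ hR
    refine ⟨P, χ', hχ', ?_⟩
    ext z
    rw [mem_tdiag]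
    constructor
    · rintro ⟨x, hx, rfl⟩
      refine ⟨⟨_, ⟨x, hx, rfl⟩, rfl⟩, ?_⟩
      rw [hχ'e]
      have h1 : twist ψ (fun x => hom_apply_mem hψ x) x ∈ tdiag S R χ := by
        rw [← he]
        exact ⟨x, hx, rfl⟩
      exact h1.2
    · rintro ⟨hz1, hz2⟩
      obtain ⟨_, ⟨x, hx, rfl⟩, hxz⟩ := hz1
      rw [hχ'e] at hz2
      have h1 : twist ψ (fun x => hom_apply_mem hψ x) x ∈ tdiag S R χ := by
        rw [← he]
        exact ⟨x, hx, rfl⟩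
      obtain ⟨h2, h3⟩ := h1
      refine ⟨x, hx, Prod.ext (Subtype.ext hxz) (Subtype.ext ?_)⟩
      rw [← hz2]
      refine h3.symm.trans ?_
      congr 1
      apply Subtype.ext
      show ψ _ = ψ _
      congr 1
      exact Subtype.ext hxz
  · rintro ⟨P, φ, hφ, he⟩
    have hPQ : P ≤ Q := by
      intro z hz
      have h1 : ((⟨z, hom_le hφ hz⟩, ⟨φ ⟨z, hz⟩, hom_apply_mem hφ _⟩) : S × S) ∈ E.map (fstIn S Q).subtype := by
        rw [he]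
        exact ⟨hz, rfl⟩
      obtain ⟨x, hx, hxz⟩ := h1
      have h2 : (x.1.1 : Ω) = z := congrArg (fun w => ((w.1 : S) : Ω)) hxz
      rw [← h2]
      exact x.2
    have hr := restrict_mem hψ hPQ
    obtain ⟨ρ, hρ, hρr, hρ1, hρ2⟩ := exists_inv hr rfl
    have hρP : ∀ y, ρ y ∈ P := fun y => hρr.le ⟨y, rfl⟩
    obtain ⟨χ, hχ, hχe⟩ := exists_comp hρ hφ hρP
    refine ⟨_, χ, hχ, ?_⟩
    ext z
    rw [mem_tdiag]
    constructor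
    · rintro ⟨x, hx, rfl⟩
      have h1 : x.1 ∈ tdiag S P φ := by
        rw [← he]
        exact ⟨x, hx, rfl⟩
      obtain ⟨h2, h3⟩ := h1
      refine ⟨⟨⟨x.1.1, h2⟩, rfl⟩, ?_⟩
      rw [hχe]
      refine Eq.trans ?_ h3
      congr 1
      apply Subtype.ext
      exact hρ1 ⟨x.1.1, h2⟩ ⟨⟨x.1.1, h2⟩, rfl⟩
    · rintro ⟨⟨w, hw⟩, hz2⟩
      rw [hχe] at hz2
      have h1 : ((⟨w, hom_le hφ w.2⟩, ⟨φ w, hom_apply_mem hφ _⟩) : S × S) ∈ E.map (fstIn S Q).subtype := by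
        rw [he]
        exact ⟨w.2, rfl⟩
      obtain ⟨x, hx, hxw⟩ := h1
      have hx1 : (x.1.1 : Ω) = w := congrArg (fun w => ((w.1 : S) : Ω)) hxw
      have hx2 : (x.1.2 : Ω) = φ w := congrArg (fun w => ((w.2 : S) : Ω)) hxw
      refine ⟨x, hx, Prod.ext (Subtype.ext ?_) (Subtype.ext ?_)⟩
      · show ψ ⟨x.1.1, x.2⟩ = z.1
        rw [← hw]
        show ψ _ = ψ _
        congr 1
        exact Subtype.ext hx1
      · show (x.1.2 : Ω) = z.2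
        rw [hx2, ← hz2]
        congr 1
        apply Subtype.ext
        have h4 := hρ1 w ⟨w, rfl⟩
        rw [← h4]
        congr 1
        exact Subtype.ext hw

end Cfsg.Agent.H767.Biset
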