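import Cfsg.Agent.H767.BisetMain

/-!
# Characteristic bisets of saturated fusion systems (helper767): existence

`exists_char_biset`: a saturated fusion system over a finite `p`-group `S` has a characteristic biset: a finite
`S × S`-set `X` all of whose stabilizers are `F`-diagonal, (left) stable, with `|X| = |S| m`, `p ∤ m`.
-/

set_option autoImplicit false

namespace Cfsg.Agent.H767.Biset

open Cfsg Cfsg.FusionSystem Cfsg.Agent.H802 Cfsg.Agent.H767.GSet MulAction

universe u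

variable {Ω : Type u} [Group Ω] {S : Subgroup Ω}

/-- the `S × S`-set to start with: the disjoint union of the twisted regular sets for representatives of `Out_F(S)` -/
def X0 (F : FusionSystem S) : Type u :=
  S × (F.autGroup S ⧸ (autInducedBy S S).subgroupOf (F.autGroup S))

noncomputable instance instMulActionX0 (F : FusionSystem S) : MulAction (S × S) (X0 F) where
  smul g x := (g.1 * x.1 * (((x.2.out : F.autGroup S) : MulAut S)⁻¹ g.2)⁻¹, x.2)
  one_smul x := Prod.ext (by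
    show (1 : S) * x.1 * (((x.2.out : F.autGroup S) : MulAut S)⁻¹ 1)⁻¹ = x.1
    rw [map_one, inv_one, mul_one, one_mul]) rfl
  mul_smul g k x := Prod.ext (by
    show (g.1 * k.1) * x.1 * (((x.2.out : F.autGroup S) : MulAut S)⁻¹ (g.2 * k.2))⁻¹ =
      g.1 * (k.1 * x.1 * (((x.2.out : F.autGroup S) : MulAut S)⁻¹ k.2)⁻¹) *
        (((x.2.out : F.autGroup S) : MulAut S)⁻¹ g.2)⁻¹
    rw [map_mul, mul_inv_rev]
    simp only [mul_assoc]) rfl

theorem X0_smul_def (F : FusionSystem S) (g : S × S) (x : X0 F) :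
    g • x = (g.1 * x.1 * (((x.2.out : F.autGroup S) : MulAut S)⁻¹ g.2)⁻¹, x.2) := rfl

instance instFiniteX0 [Finite S] (F : FusionSystem S) : Finite (X0 F) := by
  unfold X0
  infer_instance

/-- the automorphism attached to a point -/
noncomputable def autOf {F : FusionSystem S} (x : X0 F) : MulAut S :=
  ((x.2.out : F.autGroup S) : MulAut S) * MulAut.conj (x.1)⁻¹

theorem autOf_apply {F : FusionSystem S} (x : X0 F) (g : S) :
    autOf x g = ((x.2.out : F.autGroup S) : MulAut S) ((x.1)⁻¹ * g * x.1) := by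
  unfold autOf
  rw [MulAut.mul_apply, MulAut.conj_apply, inv_inv]

theorem mem_stabilizer_X0 {F : FusionSystem S} (x : X0 F) (g : S × S) :
    g ∈ stabilizer (S × S) x ↔ autOf x g.1 = g.2 := by
  rw [mem_stabilizer_iff, X0_smul_def, autOf_apply]
  constructor
  · intro h
    have h1 : g.1 * x.1 * (((x.2.out : F.autGroup S) : MulAut S)⁻¹ g.2)⁻¹ = x.1 := congrArg Prod.fst h
    have h2 : (x.1)⁻¹ * g.1 * x.1 = ((x.2.out : F.autGroup S) : MulAut S)⁻¹ g.2 := by
      rw [mul_inv_eq_iff_eq_mul] at h1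
      rw [mul_assoc, h1, inv_mul_cancel_left]
    rw [h2]
    exact MulAut.apply_inv_self _ _ _
  · intro h
    refine Prod.ext ?_ rfl
    show g.1 * x.1 * (((x.2.out : F.autGroup S) : MulAut S)⁻¹ g.2)⁻¹ = x.1
    rw [← h, MulAut.inv_apply_self]
    group

theorem conj_mem_autGroup (F : FusionSystem S) (s : S) : MulAut.conj s ∈ autInducedBy S S := by
  rw [mem_autInducedBy_iff]
  exact ⟨s, s.2, fun x => rfl⟩

theorem autOf_mem {F : FusionSystem S} (x : X0 F) : autOf x ∈ F.autGroup S :=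
  (F.autGroup S).mul_mem (x.2.out).2 (autInducedBy_le_autGroup F le_rfl (conj_mem_autGroup F _))

theorem gen_X0 (F : FusionSystem S) : Gen F (X0 F) := by
  intro x
  refine ⟨S, S.subtype.comp (autOf x).toMonoidHom, (mem_autGroup_iff F le_rfl _).1 (autOf_mem x), ?_⟩
  ext g
  rw [mem_stabilizer_X0, mem_tdiag]
  constructor
  · intro h
    exact ⟨g.1.2, by rw [← h]; rfl⟩
  · rintro ⟨h0, h⟩
    exact Subtype.ext h

/-- constructor for points of `X0 F` -/
def mkX0 (F : FusionSystem S) (s : S) (k : F.autGroup S ⧸ (autInducedBy S S).subgroupOf (F.autGroup S)) : X0 F :=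
  (s, k)

theorem autOf_mkX0 (F : FusionSystem S) (s : S)
    (k : F.autGroup S ⧸ (autInducedBy S S).subgroupOf (F.autGroup S)) :
    autOf (mkX0 F s k) = ((k.out : F.autGroup S) : MulAut S) * MulAut.conj s⁻¹ := rfl

theorem nf_X0 [Finite S] {F : FusionSystem S} {D : Subgroup (S × S)} (hD : IsFD F D)
    (hc : Nat.card S ≤ Nat.card D) : nf (X0 F) D = Nat.card (Subgroup.center S) := by
  obtain ⟨P, φ, hφ, rfl⟩ := hD
  rw [card_tdiag (hom_le hφ) (fun x => hom_apply_mem hφ x)] at hc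
  have hPS : P = S := Subgroup.eq_of_le_of_card_ge (hom_le hφ) hc
  subst hPS
  obtain ⟨α, hα, hαe⟩ := exists_aut hφ (range_eq_of_mapsTo hφ (fun x => hom_apply_mem hφ x))
  have hst : ∀ x : X0 F, tdiag P P φ ≤ stabilizer (P × P) x ↔ autOf x = α := by
    intro x
    constructor
    · intro h
      ext g
      have h1 : ((g, ⟨φ g, hom_apply_mem hφ g⟩) : P × P) ∈ tdiag P P φ := ⟨g.2, rfl⟩
      have h2 := (mem_stabilizer_X0 x _).1 (h h1)
      rw [hαe]
      exact congrArg Subtype.val h2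
    · rintro h g ⟨h1, h2⟩
      rw [mem_stabilizer_X0, h]
      apply Subtype.ext
      rw [hαe, ← h2]
  set k₀ : F.autGroup P ⧸ (autInducedBy P P).subgroupOf (F.autGroup P) := QuotientGroup.mk ⟨α, hα⟩ with hk₀
  have hk₀m : (k₀.out)⁻¹ * ⟨α, hα⟩ ∈ (autInducedBy P P).subgroupOf (F.autGroup P) := by
    rw [← QuotientGroup.eq, QuotientGroup.out_eq']
  rw [Subgroup.mem_subgroupOf, mem_autInducedBy_iff] at hk₀m
  obtain ⟨t, ht, hte⟩ := hk₀m
  have hα2 : α = ((k₀.out : F.autGroup P) : MulAut P) * MulAut.conj (⟨t, ht⟩ : P) := by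
    have h1 : ((k₀.out : F.autGroup P) : MulAut P)⁻¹ * α = MulAut.conj (⟨t, ht⟩ : P) := by
      ext x
      exact hte x
    rw [← h1, mul_inv_cancel_left]
  unfold nf
  symm
  refine Nat.card_congr (Equiv.ofBijective (fun z : Subgroup.center P =>
    (⟨mkX0 F ((z : P) * (⟨t, ht⟩ : P)⁻¹) k₀, ?_⟩ : {x : X0 F // tdiag P P φ ≤ stabilizer (P × P) x})) ⟨?_, ?_⟩)
  · rw [hst, hα2, autOf_mkX0]
    congr 1
    ext x
    simp only [MulAut.conj_apply, mul_inv_rev, inv_inv]
    have hz := Subgroup.mem_center_iff.1 z.2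
    congr 1
    calc (⟨t, ht⟩ : P) * (z : P)⁻¹ * x * ((z : P) * (⟨t, ht⟩ : P)⁻¹)
        = (⟨t, ht⟩ : P) * ((z : P)⁻¹ * (x * (z : P))) * (⟨t, ht⟩ : P)⁻¹ := by group
      _ = (⟨t, ht⟩ : P) * x * (⟨t, ht⟩ : P)⁻¹ := by rw [hz x, inv_mul_cancel_left]
  · intro z w h
    have h1 : (z : P) * (⟨t, ht⟩ : P)⁻¹ = (w : P) * (⟨t, ht⟩ : P)⁻¹ := congrArg (fun y => y.1.1) h
    exact Subtype.ext (mul_right_cancel h1)
  · rintro ⟨⟨s, k⟩, hx⟩
    have hx' := (hst _).1 hx
    -- k = k₀
    have hk : k = k₀ := by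
      have h1 : (⟨α, hα⟩ : F.autGroup P) = k.out * ⟨MulAut.conj s⁻¹, autInducedBy_le_autGroup F le_rfl
          (conj_mem_autGroup F _)⟩ := by
        exact Subtype.ext hx'.symm
      rw [hk₀, h1]
      conv_lhs => rw [← QuotientGroup.out_eq' k]
      rw [QuotientGroup.eq, inv_mul_cancel_left]
      exact conj_mem_autGroup F _
    subst hk
    have h2 : MulAut.conj s⁻¹ = MulAut.conj (⟨t, ht⟩ : P) := by
      have h3 : ((k₀.out : F.autGroup P) : MulAut P) * MulAut.conj s⁻¹ =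
          ((k₀.out : F.autGroup P) : MulAut P) * MulAut.conj (⟨t, ht⟩ : P) := by
        rw [← hα2]
        exact hx'
      exact mul_left_cancel h3
    refine ⟨⟨s * ⟨t, ht⟩, ?_⟩, ?_⟩
    · rw [Subgroup.mem_center_iff]
      intro g
      have h3 := congrArg (fun f : MulAut P => f g) h2
      simp only [MulAut.conj_apply, inv_inv] at h3
      have h4 : s * (s⁻¹ * g * s) = s * ((⟨t, ht⟩ : P) * g * (⟨t, ht⟩ : P)⁻¹) := by rw [h3]
      have h5 : g * s = s * ((⟨t, ht⟩ : P) * g * (⟨t, ht⟩ : P)⁻¹) := by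
        rw [← h4]
        group
      calc g * (s * ⟨t, ht⟩) = (g * s) * ⟨t, ht⟩ := by group
        _ = s * ((⟨t, ht⟩ : P) * g * (⟨t, ht⟩ : P)⁻¹) * ⟨t, ht⟩ := by rw [h5]
        _ = s * ⟨t, ht⟩ * g := by group
    · apply Subtype.ext
      show mkX0 F ((s * ⟨t, ht⟩) * (⟨t, ht⟩ : P)⁻¹) k₀ = mkX0 F s k₀
      rw [mul_inv_cancel_right]

theorem isFullyAutomized_self {p : ℕ} [Finite S] {F : FusionSystem S} (hF : F.IsSaturated p) :
    F.IsFullyAutomized p S := by
  obtain ⟨Q, hSQ, hQ, -⟩ := hF S le_rfl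
  have h1 : Q = S := Subgroup.eq_of_le_of_card_ge hQ.1 (isConj_card_eq hSQ).le
  rwa [h1] at hQ

theorem card_X0 {p : ℕ} [Fact p.Prime] [Finite S] {F : FusionSystem S} (hF : F.IsSaturated p) :
    ∃ m, Nat.card (X0 F) = Nat.card S * m ∧ ¬ p ∣ m := by
  obtain ⟨-, R, hR⟩ := isFullyAutomized_self hF
  refine ⟨_, Nat.card_prod _ _, ?_⟩
  rw [← hR]
  exact R.not_dvd_index

/-- **Existence of characteristic bisets.** -/
theorem exists_char_biset {p : ℕ} [Fact p.Prime] [Finite S] (hS : IsPGroup p S) {F : FusionSystem S}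
    (hF : F.IsSaturated p) :
    ∃ (X : Type u) (_ : MulAction (S × S) X) (_ : Finite X) (m : ℕ), Gen F X ∧ Stab F X 0 ∧
      Nat.card X = Nat.card S * m ∧ ¬ p ∣ m := by
  have key : ∀ j : ℕ, j ≤ Nat.card S →
      ∃ (X : Type u) (_ : MulAction (S × S) X) (_ : Finite X) (m : ℕ), Gen F X ∧ Stab F X (Nat.card S - j) ∧
        Nat.card X = Nat.card S * m ∧ ¬ p ∣ m := by
    intro j
    induction j with
    | zero =>
      intro _
      obtain ⟨m, hm1, hm2⟩ := card_X0 hF
      refine ⟨X0 F, inferInstance, inferInstance, m, gen_X0 F, ?_, hm1, hm2⟩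
      intro D D' hD hD' hs hc
      have hcc : Nat.card D = Nat.card D' := by rw [← hD.card_map_snd, ← hD'.card_map_snd, hs]
      rw [nf_X0 hD hc, nf_X0 hD' (hcc ▸ hc)]
    | succ j ih =>
      intro hj
      obtain ⟨X, hXa, hXf, m, hX1, hX2, hX3, hX4⟩ := ih (by omega)
      have h1 : Nat.card S - j = (Nat.card S - (j + 1)) + 1 := by omega
      rw [h1] at hX2
      obtain ⟨Y, hYa, hYf, m', h2, h3, h4, h5⟩ := exists_step hS hF hX1 hX2 (by omega) hX3 hX4
      exact ⟨Y, hYa, hYf, m', h2, h3, h4, h5⟩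
  have := key (Nat.card S) le_rfl
  rwa [Nat.sub_self] at this

end Cfsg.Agent.H767.Biset
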