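import Cfsg.Agent.H767.BisetStep

/-!
# Characteristic bisets of saturated fusion systems (helper767): existence

`exists_char_biset`: a saturated fusion system over a finite `p`-group `S` has a characteristic biset: a finite
`S × S`-set `X` all of whose stabilizers are `F`-diagonal, stable, with `|X| = |S| m`, `p ∤ m`.
-/

set_option autoImplicit false

namespace Cfsg.Agent.H767.Biset

open Cfsg Cfsg.FusionSystem Cfsg.Agent.H802 Cfsg.Agent.H767.GSet MulAction

universe u

variable {Ω : Type u} [Group Ω] {S : Subgroup Ω}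

/-- the admissible target values -/
def tgtSet (F : FusionSystem S) (X : Type*) [MulAction (S × S) X] (D : Subgroup (S × S)) : Set ℕ :=
  {c | ∀ D₁ : Subgroup (S × S), IsFD F D₁ →
    (∃ s : S, D₁.map (MonoidHom.snd S S) = (D.map (MonoidHom.snd S S)).map (MulAut.conj s).toMonoidHom) →
    nf X D₁ ≤ c ∧ nf X D₁ ≡ c [MOD D₁.relIndex (Subgroup.normalizer (D₁ : Set (S × S)))]}

/-- the target number of fixed points of `D` -/
noncomputable def tgt (F : FusionSystem S) (X : Type*) [MulAction (S × S) X] (D : Subgroup (S × S)) : ℕ :=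
  sInf (tgtSet F X D)

theorem nf_le_card (X : Type*) [MulAction (S × S) X] [Finite X] (D : Subgroup (S × S)) : nf X D ≤ Nat.card X :=
  Nat.card_le_card_of_injective _ Subtype.val_injective

theorem map_conj_conj {G : Type*} [Group G] (R : Subgroup G) (s t : G) :
    (R.map (MulAut.conj s).toMonoidHom).map (MulAut.conj t).toMonoidHom =
      R.map (MulAut.conj (t * s)).toMonoidHom := by
  rw [Subgroup.map_map]
  congr 1
  ext x
  simp [mul_assoc]

theorem map_conj_one {G : Type*} [Group G] (R : Subgroup G) : R.map (MulAut.conj (1 : G)).toMonoidHom = R := by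
  have h : (MulAut.conj (1 : G)).toMonoidHom = MonoidHom.id G := by
    ext x
    simp
  rw [h, Subgroup.map_id]

theorem map_snd_conj (D : Subgroup (S × S)) (g : S × S) :
    (D.map (MulAut.conj g).toMonoidHom).map (MonoidHom.snd S S) =
      (D.map (MonoidHom.snd S S)).map (MulAut.conj g.2).toMonoidHom := by
  rw [Subgroup.map_map, Subgroup.map_map]
  rfl

theorem mem_normalizer_conj {G : Type*} [Group G] {D : Subgroup G} {x : G} :
    x ∈ Subgroup.normalizer (D : Set G) ↔ D.map (MulAut.conj x).toMonoidHom = D :=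
  Subgroup.mem_normalizer_iff_map_conj_eq

theorem relIndex_normalizer_conj {G : Type*} [Group G] (D : Subgroup G) (g : G) :
    (D.map (MulAut.conj g).toMonoidHom).relIndex
        (Subgroup.normalizer ((D.map (MulAut.conj g).toMonoidHom : Subgroup G) : Set G)) =
      D.relIndex (Subgroup.normalizer (D : Set G)) := by
  have h1 : Subgroup.normalizer ((D.map (MulAut.conj g).toMonoidHom : Subgroup G) : Set G) =
      (Subgroup.normalizer (D : Set G)).map (MulAut.conj g).toMonoidHom := by
    ext x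
    rw [mem_normalizer_conj]
    constructor
    · intro hx
      refine ⟨g⁻¹ * x * g, ?_, by simp [mul_assoc]⟩
      show g⁻¹ * x * g ∈ Subgroup.normalizer (D : Set G)
      rw [mem_normalizer_conj]
      have h2 := congrArg (fun E : Subgroup G => E.map (MulAut.conj g⁻¹).toMonoidHom) hx
      rw [map_conj_conj, map_conj_conj, map_conj_conj, inv_mul_cancel, map_conj_one] at h2
      exact h2
    · rintro ⟨y, hy, rfl⟩
      have hy' : D.map (MulAut.conj y).toMonoidHom = D := by
        have hy'' : y ∈ Subgroup.normalizer (D : Set G) := hy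
        rwa [mem_normalizer_conj] at hy''
      show (D.map (MulAut.conj g).toMonoidHom).map (MulAut.conj (g * y * g⁻¹)).toMonoidHom = _
      rw [map_conj_conj]
      have h3 : g * y * g⁻¹ * g = g * y := by group
      rw [h3, ← map_conj_conj, hy']
  rw [h1]
  exact Subgroup.relIndex_map_map_of_injective _ _ (MulAut.conj g).injective

theorem tgtSet_nonempty {p : ℕ} [Fact p.Prime] [Finite S] (hS : IsPGroup p S) {F : FusionSystem S}
    (hF : F.IsSaturated p) {X : Type*} [MulAction (S × S) X] [Finite X] (hX : Gen F X) {n : ℕ}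
    (hn : Stab F X (n + 1)) {D : Subgroup (S × S)} (hD : IsFD F D) (hc : Nat.card D = n) :
    (tgtSet F X D).Nonempty := by
  obtain ⟨c, hc'⟩ := exists_target hS hF hX hn (D.map (MonoidHom.snd S S)) (by rw [hD.card_map_snd, hc])
  refine ⟨c + Nat.card (S × S) * Nat.card X, fun D₁ hD₁ ⟨s, hs⟩ => ⟨?_, ?_⟩⟩
  · have h1 := nf_le_card X D₁
    have h2 : 0 < Nat.card (S × S) := Nat.card_pos
    have h3 : Nat.card X ≤ Nat.card (S × S) * Nat.card X := Nat.le_mul_of_pos_left _ h2
    omega
  · set D₂ := D₁.map (MulAut.conj ((1, s⁻¹) : S × S)).toMonoidHom with hD₂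
    have h1 : IsFD F D₂ := hD₁.conj _
    have h2 : D₂.map (MonoidHom.snd S S) = D.map (MonoidHom.snd S S) := by
      rw [hD₂, map_snd_conj, hs, map_conj_conj]
      show (D.map (MonoidHom.snd S S)).map (MulAut.conj (s⁻¹ * s)).toMonoidHom = _
      rw [inv_mul_cancel, map_conj_one]
    have h3 := hc' D₂ h1 h2
    rw [hD₂, nf_conj, relIndex_normalizer_conj] at h3
    have h4 : D₁.relIndex (Subgroup.normalizer (D₁ : Set (S × S))) ∣ Nat.card (S × S) :=
      (Subgroup.relIndex_dvd_card _ _).trans (Subgroup.card_subgroup_dvd_card _)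
    have h5 : Nat.card (S × S) * Nat.card X ≡ 0 [MOD D₁.relIndex (Subgroup.normalizer (D₁ : Set (S × S)))] :=
      Nat.modEq_zero_iff_dvd.2 (h4.mul_right _)
    have h6 := h3.add h5.symm
    rwa [add_zero] at h6

theorem tgt_mem {p : ℕ} [Fact p.Prime] [Finite S] (hS : IsPGroup p S) {F : FusionSystem S}
    (hF : F.IsSaturated p) {X : Type*} [MulAction (S × S) X] [Finite X] (hX : Gen F X) {n : ℕ}
    (hn : Stab F X (n + 1)) {D : Subgroup (S × S)} (hD : IsFD F D) (hc : Nat.card D = n) :
    nf X D ≤ tgt F X D ∧ nf X D ≡ tgt F X D [MOD D.relIndex (Subgroup.normalizer (D : Set (S × S)))] :=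
  Nat.sInf_mem (tgtSet_nonempty hS hF hX hn hD hc) D hD ⟨1, (map_conj_one _).symm⟩

theorem tgt_eq (F : FusionSystem S) (X : Type*) [MulAction (S × S) X] {D D' : Subgroup (S × S)} {t : S}
    (h : D'.map (MonoidHom.snd S S) = (D.map (MonoidHom.snd S S)).map (MulAut.conj t).toMonoidHom) :
    tgt F X D' = tgt F X D := by
  unfold tgt
  congr 1
  unfold tgtSet
  ext c
  have h' : D.map (MonoidHom.snd S S) = (D'.map (MonoidHom.snd S S)).map (MulAut.conj t⁻¹).toMonoidHom := by
    rw [h, map_conj_conj, inv_mul_cancel, map_conj_one]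
  constructor
  · intro hc D₁ hD₁ ⟨s, hs⟩
    exact hc D₁ hD₁ ⟨s * t⁻¹, by rw [hs, h', map_conj_conj]⟩
  · intro hc D₁ hD₁ ⟨s, hs⟩
    exact hc D₁ hD₁ ⟨s * t, by rw [hs, h, map_conj_conj]⟩

/-- canonical representatives of conjugacy classes of subgroups -/
theorem exists_rep (G : Type*) [Group G] : ∃ rep : Subgroup G → Subgroup G,
    (∀ D, ∃ g : G, rep D = D.map (MulAut.conj g).toMonoidHom) ∧
      ∀ D (g : G), rep (D.map (MulAut.conj g).toMonoidHom) = rep D := by
  let s : Setoid (Subgroup G) :=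
    { r := fun D D' => ∃ g : G, D' = D.map (MulAut.conj g).toMonoidHom
      iseqv := ⟨fun D => ⟨1, (map_conj_one D).symm⟩,
        fun {D D'} ⟨g, hg⟩ => ⟨g⁻¹, by rw [hg, map_conj_conj, inv_mul_cancel, map_conj_one]⟩,
        fun {D D' D''} ⟨g, hg⟩ ⟨k, hk⟩ => ⟨k * g, by rw [hk, hg, map_conj_conj]⟩⟩ }
  refine ⟨fun D => (Quotient.mk s D).out, fun D => ?_, fun D g => ?_⟩
  · have h : s.r D ((Quotient.mk s D).out) := s.symm (Quotient.mk_out (s := s) D)
    exact h
  · have h : Quotient.mk s (D.map (MulAut.conj g).toMonoidHom) = Quotient.mk s D :=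
      Quotient.sound (s := s) (s.symm ⟨g, rfl⟩)
    simp only [h]

theorem isFD_conj_iff {F : FusionSystem S} {D : Subgroup (S × S)} (g : S × S) :
    IsFD F (D.map (MulAut.conj g).toMonoidHom) ↔ IsFD F D := by
  constructor
  · intro h
    have := h.conj g⁻¹
    rwa [map_conj_conj, inv_mul_cancel, map_conj_one] at this
  · intro h
    exact h.conj g

theorem card_map_conj {G : Type*} [Group G] (D : Subgroup G) (g : G) :
    Nat.card (D.map (MulAut.conj g).toMonoidHom) = Nat.card D :=
  Subgroup.card_map_of_injective (K := D) (f := (MulAut.conj g).toMonoidHom) (MulAut.conj g).injective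

/-- Index of a proper subgroup of a `p`-group, in the form needed. -/
theorem card_quot_dvd {p : ℕ} [Fact p.Prime] [Finite S] (hS : IsPGroup p S) {F : FusionSystem S}
    {D : Subgroup (S × S)} (hD : IsFD F D) (hlt : Nat.card D < Nat.card S) :
    p * Nat.card S ∣ Nat.card ((S × S) ⧸ D) := by
  obtain ⟨k, hk⟩ := IsPGroup.iff_card.1 hS
  obtain ⟨j, hj⟩ := IsPGroup.iff_card.1 (hS.to_subgroup (D.map (MonoidHom.snd S S)))
  have hjD : Nat.card D = p ^ j := by rw [← hD.card_map_snd, hj]
  have h1 := Subgroup.card_eq_card_quotient_mul_card_subgroup D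
  rw [Nat.card_prod, hk, hjD] at h1
  rw [hjD, hk] at hlt
  have hp : 1 < p := (Fact.out : p.Prime).one_lt
  have hjk : j < k := (Nat.pow_lt_pow_iff_right hp).1 hlt
  have hpos : 0 < p ^ j := Nat.pow_pos (by omega)
  have h2 : Nat.card ((S × S) ⧸ D) = p ^ (k + (k - j)) := by
    have h3 : p ^ k * p ^ k = p ^ (k + (k - j)) * p ^ j := by
      rw [← pow_add, ← pow_add]
      congr 1
      omega
    rw [h3] at h1
    exact (Nat.eq_of_mul_eq_mul_right hpos h1).symm
  rw [h2, hk, ← pow_succ']
  exact pow_dvd_pow p (by omega)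

/-- **The inductive step.** -/
theorem exists_step {p : ℕ} [Fact p.Prime] [Finite S] (hS : IsPGroup p S) {F : FusionSystem S}
    (hF : F.IsSaturated p) {X : Type u} [MulAction (S × S) X] [Finite X] (hX : Gen F X) {n : ℕ}
    (hn : Stab F X (n + 1)) (hlt : n < Nat.card S) {m : ℕ} (hm : Nat.card X = Nat.card S * m) (hpm : ¬ p ∣ m) :
    ∃ (Y : Type u) (_ : MulAction (S × S) Y) (_ : Finite Y) (m' : ℕ), Gen F Y ∧ Stab F Y n ∧
      Nat.card Y = Nat.card S * m' ∧ ¬ p ∣ m' := by
  classical
  obtain ⟨rep, hrep1, hrep2⟩ := exists_rep (S × S)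
  let rx : Subgroup (S × S) → ℕ := fun D => D.relIndex (Subgroup.normalizer (D : Set (S × S)))
  let a : Subgroup (S × S) → ℕ := fun D => if rep D = D then (tgt F X D - nf X D) / rx D else 0
  let J := {D : Subgroup (S × S) // IsFD F D ∧ Nat.card D = n}
  have hJfin : Finite J := inferInstance
  let I := Σ D : J, Fin (a D.1)
  let Z := Σ i : I, (S × S) ⧸ (i.1.1 : Subgroup (S × S))
  have hIfin : Finite I := inferInstance
  have : Fintype J := Fintype.ofFinite J
  let _ : Fintype I := inferInstanceAs (Fintype (Σ D : J, Fin (a D.1)))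
  have hZfin : Finite Z := inferInstance
  have hnfZ : ∀ D : Subgroup (S × S), nf Z D = ∑ D₀ : J, a D₀.1 * nf ((S × S) ⧸ D₀.1) D := by
    intro D
    rw [nf_sigma (fun i : I => (S × S) ⧸ (i.1.1 : Subgroup (S × S))) (fun g i x => rfl) D]
    refine (Fintype.sum_sigma _).trans ?_
    refine Finset.sum_congr rfl fun D₀ _ => ?_
    show (∑ _x : Fin (a D₀.1), nf ((S × S) ⧸ D₀.1) D) = _
    rw [Finset.sum_const, Finset.card_univ, Fintype.card_fin, smul_eq_mul]
  have hnf : ∀ D : Subgroup (S × S), nf (X ⊕ Z) D = nf X D + nf Z D := fun D => nf_sum X Z (fun g x => rfl) (fun g x => rfl) D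
  have hgen : Gen F (X ⊕ Z) := by
    rintro (x | ⟨i, q⟩)
    · have h1 : stabilizer (S × S) (Sum.inl x : X ⊕ Z) = stabilizer (S × S) x := by
        ext g
        rw [mem_stabilizer_iff, mem_stabilizer_iff, Sum.smul_inl, Sum.inl.injEq]
      rw [h1]
      exact hX x
    · have h1 : stabilizer (S × S) (Sum.inr ⟨i, q⟩ : X ⊕ Z) = stabilizer (S × S) q := by
        ext g
        rw [mem_stabilizer_iff, mem_stabilizer_iff, Sum.smul_inr, Sum.inr.injEq, Sigma.smul_mk, Sigma.mk.injEq]
        simp
      rw [h1]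
      obtain ⟨g, rfl⟩ := QuotientGroup.mk_surjective q
      rw [stabilizer_mk]
      exact i.1.2.1.conj g
  -- the count for subgroups of order n
  have hcount : ∀ D : Subgroup (S × S), IsFD F D → Nat.card D = n → nf (X ⊕ Z) D = tgt F X D := by
    intro D hD hDn
    rw [hnf, hnfZ]
    obtain ⟨g, hg⟩ := hrep1 D
    have hrD : IsFD F (rep D) := by rw [hg]; exact hD.conj g
    have hrn : Nat.card (rep D) = n := by rw [hg, card_map_conj, hDn]
    have hrr : rep (rep D) = rep D := by
      conv_lhs => rw [hg]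
      exact hrep2 D g
    rw [Finset.sum_eq_single (⟨rep D, hrD, hrn⟩ : J)]
    · have hD2 : D = (rep D).map (MulAut.conj g⁻¹).toMonoidHom := by
        rw [hg, map_conj_conj, inv_mul_cancel, map_conj_one]
      have h1 : nf ((S × S) ⧸ (rep D)) D = rx (rep D) := nf_quot_conj hD2
      rw [h1]
      show nf X D + (if rep (rep D) = rep D then (tgt F X (rep D) - nf X (rep D)) / rx (rep D) else 0) * rx (rep D) = _
      rw [if_pos hrr]
      have h2 : nf X (rep D) = nf X D := by rw [hg, nf_conj]
      have h3 : tgt F X (rep D) = tgt F X D := by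
        refine tgt_eq F X (t := g.2) ?_
        rw [hg, map_snd_conj]
      obtain ⟨h4, h5⟩ := tgt_mem hS hF hX hn hrD hrn
      have h6 : rx (rep D) ∣ tgt F X (rep D) - nf X (rep D) := (Nat.modEq_iff_dvd' h4).1 h5
      rw [Nat.div_mul_cancel h6]
      rw [← h2, ← h3]
      omega
    · intro D₀ _ hne
      by_cases h0 : rep D₀.1 = D₀.1
      · have h1 : nf ((S × S) ⧸ D₀.1) D = 0 := by
          refine nf_quot_eq_zero (by rw [D₀.2.2, hDn]) fun k hk => hne ?_
          apply Subtype.ext
          show D₀.1 = rep D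
          rw [hk, hrep2, h0]
        rw [h1, mul_zero]
      · have h1 : a D₀.1 = 0 := if_neg h0
        rw [h1, zero_mul]
    · intro h
      exact (h (Finset.mem_univ _)).elim
  have hbig : ∀ D : Subgroup (S × S), n < Nat.card D → nf Z D = 0 := by
    intro D hDn
    rw [hnfZ]
    refine Finset.sum_eq_zero fun D₀ _ => ?_
    have h1 : nf ((S × S) ⧸ D₀.1) D = 0 := by
      refine nf_quot_eq_zero (by rw [D₀.2.2]; exact hDn.le) fun k hk => ?_
      have h2 : Nat.card D = n := by rw [hk, card_map_conj, D₀.2.2]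
      omega
    rw [h1, mul_zero]
  -- the number of points
  have hZcard : p * Nat.card S ∣ Nat.card Z := by
    rw [Nat.card_sigma]
    refine Finset.dvd_sum fun i _ => card_quot_dvd hS i.1.2.1 ?_
    rw [i.1.2.2]
    exact hlt
  obtain ⟨k, hk⟩ := hZcard
  refine ⟨X ⊕ Z, inferInstance, inferInstance, m + p * k, hgen, ?_, ?_, ?_⟩
  · intro D D' hD hD' hs hc
    have hcc : Nat.card D = Nat.card D' := by rw [← hD.card_map_snd, ← hD'.card_map_snd, hs]
    rcases Nat.lt_or_ge n (Nat.card D) with h | h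
    · rw [hnf, hnf, hbig D h, hbig D' (hcc ▸ h), hn D D' hD hD' hs h]
    · have h1 : Nat.card D = n := le_antisymm h hc
      rw [hcount D hD h1, hcount D' hD' (hcc ▸ h1)]
      refine tgt_eq F X (t := 1) ?_
      rw [map_conj_one, hs]
  · rw [Nat.card_sum, hm, hk]
    ring
  · intro h
    exact hpm ((Nat.dvd_add_left (Dvd.intro k rfl)).1 h)

end Cfsg.Agent.H767.Biset
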