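import Cfsg.Agent.H767.EssFrat
import Cfsg.Agent.Transfer.TausskyTwoGroup
import Cfsg.Agent.Lib.FrattiniPGroup
import Cfsg.Agent.S0014
import Cfsg.Agent.Transfer.CentralComm

/-!
# Groups of order `p⁴` (helper767): elementary facts

Two-generator and three-generator non-abelian groups of order `p⁴`.
-/

set_option autoImplicit false

namespace Cfsg.Agent.H767.EssFour

open Subgroup

variable {H : Type*} [Group H] [Finite H] {p : ℕ} [hp : Fact p.Prime]

/-- A normal subgroup of order `p` of a finite `p`-group is central. -/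
theorem le_center_of_card {N : Subgroup H} (hH : IsPGroup p H) (hN : N.Normal) (hc : Nat.card N = p) :
    N ≤ center H := by
  have hne : N ≠ ⊥ := by
    rintro rfl
    rw [Subgroup.card_bot] at hc
    exact hp.out.one_lt.ne hc
  obtain ⟨Z, hZN, hZc, hZp⟩ := Cfsg.Agent.Transfer.TausskyTwoGroup.exists_central_card_prime_le hH N hne
  have h1 : Z = N := Subgroup.eq_of_le_of_card_ge hZN (by rw [hc, hZp])
  rw [← h1]
  exact hZc

/-- the map `h ↦ [h, x]` when all these commutators lie in a central subgroup -/
def commHom {Z : Subgroup H} (hZ : Z ≤ center H) (x : H) (hx : ∀ h : H, h * x * h⁻¹ * x⁻¹ ∈ Z) : H →* Z where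
  toFun h := ⟨h * x * h⁻¹ * x⁻¹, hx h⟩
  map_one' := Subtype.ext (by simp)
  map_mul' h k := by
    apply Subtype.ext
    show h * k * x * (h * k)⁻¹ * x⁻¹ = (h * x * h⁻¹ * x⁻¹) * (k * x * k⁻¹ * x⁻¹)
    have h1 := Subgroup.mem_center_iff.1 (hZ (hx k))
    calc h * k * x * (h * k)⁻¹ * x⁻¹ = h * (k * x * k⁻¹ * x⁻¹) * x * h⁻¹ * x⁻¹ := by group
      _ = (k * x * k⁻¹ * x⁻¹) * (h * x * h⁻¹ * x⁻¹) := by rw [h1 h]; group
      _ = _ := (h1 _).symm

theorem ker_commHom {Z : Subgroup H} (hZ : Z ≤ center H) (x : H) (hx : ∀ h : H, h * x * h⁻¹ * x⁻¹ ∈ Z) :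
    (commHom hZ x hx).ker = centralizer {x} := by
  ext h
  rw [MonoidHom.mem_ker, mem_centralizer_singleton_iff]
  constructor
  · intro hh
    have h1 : h * x * h⁻¹ * x⁻¹ = 1 := congrArg Subtype.val hh
    rw [mul_inv_eq_one, mul_inv_eq_iff_eq_mul] at h1
    exact h1
  · intro hh
    apply Subtype.ext
    show h * x * h⁻¹ * x⁻¹ = 1
    rw [mul_inv_eq_one, mul_inv_eq_iff_eq_mul]
    exact hh

theorem index_centralizer_dvd {Z : Subgroup H} (hZ : Z ≤ center H) (hc : Nat.card Z = p) (x : H)
    (hx : ∀ h : H, h * x * h⁻¹ * x⁻¹ ∈ Z) : (centralizer {x}).index ∣ p := by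
  rw [← ker_commHom hZ x hx, Subgroup.index_ker, ← hc]
  exact Subgroup.card_subgroup_dvd_card _

/-- The order of the image of `K` in `H ⧸ N`. -/
theorem card_map_mk {N K : Subgroup H} [N.Normal] (hle : N ≤ K) :
    Nat.card N * Nat.card (K.map (QuotientGroup.mk' N)) = Nat.card K := by
  have h4 := Subgroup.card_mul_index (((QuotientGroup.mk' N).comp K.subtype).ker)
  have h6 : ((QuotientGroup.mk' N).comp K.subtype).ker = N.subgroupOf K := by
    ext z
    rw [MonoidHom.mem_ker, Subgroup.mem_subgroupOf]
    exact QuotientGroup.eq_one_iff _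
  rw [Subgroup.index_ker, MonoidHom.range_comp, Subgroup.range_subtype, h6,
    Nat.card_congr (Subgroup.subgroupOfEquivOfLe hle).toEquiv] at h4
  exact h4

/-- Splitting an index `p²`. -/
theorem split_index {N M : Subgroup H} (hle : N ≤ M) (h : N.index = p ^ 2) (h1 : M ≠ N) (h2 : M ≠ ⊤) :
    N.relIndex M = p ∧ M.index = p := by
  have h3 := Subgroup.relIndex_mul_index hle
  rw [h] at h3
  refine (Nat.Prime.mul_eq_prime_sq_iff hp.out ?_ ?_).1 h3
  · intro h4
    rw [Subgroup.relIndex_eq_one] at h4
    exact h1 (le_antisymm h4 hle)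
  · intro h4
    rw [Subgroup.index_eq_one] at h4
    exact h2 h4

/-- If `N` is a central subgroup of `K` with `|K : N|` dividing `p` then `K` is abelian. -/
theorem comm_of_relIndex_dvd {N K : Subgroup H} (hN : N ≤ center H) (hle : N ≤ K) (h : N.relIndex K ∣ p) :
    ∀ a ∈ K, ∀ b ∈ K, a * b = b * a := by
  have hn : (N.subgroupOf K).Normal := by
    refine ⟨fun n hn g => ?_⟩
    rw [Subgroup.mem_subgroupOf] at hn ⊢
    have h1 := Subgroup.mem_center_iff.1 (hN hn) g
    have h2 : ((g * n * g⁻¹ : K) : H) = n := by
      show (g : H) * n * (g : H)⁻¹ = n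
      rw [h1]
      group
    rw [h2]
    exact hn
  have hcyc : IsCyclic (K ⧸ N.subgroupOf K) := by
    rcases (Nat.dvd_prime hp.out).1 h with h1 | h1
    · have : Subsingleton (K ⧸ N.subgroupOf K) := by
        rw [← Finite.card_le_one_iff_subsingleton]
        exact (le_of_eq h1)
      infer_instance
    · exact isCyclic_of_prime_card h1
  have hker : (QuotientGroup.mk' (N.subgroupOf K)).ker ≤ center K := by
    rw [QuotientGroup.ker_mk']
    intro n hn
    rw [Subgroup.mem_subgroupOf] at hn
    rw [Subgroup.mem_center_iff]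
    intro g
    exact Subtype.ext (Subgroup.mem_center_iff.1 (hN hn) g)
  have h2 := (MonoidHom.isMulCommutative_of_isCyclic_of_ker_le_center (QuotientGroup.mk' (N.subgroupOf K)) hker).is_comm.comm
  intro a ha b hb
  exact congrArg Subtype.val (h2 ⟨a, ha⟩ ⟨b, hb⟩)

/-- A two-generator non-abelian group of order `p⁴` has a characteristic maximal subgroup. -/
theorem exists_char_of_two_gen (hH : IsPGroup p H) (hcard : Nat.card H = p ^ 4)
    (hidx : (frattini H).index = p ^ 2) (hnab : ∃ x y : H, x * y ≠ y * x) :
    ∃ M : Subgroup H, M.Characteristic ∧ frattini H ≤ M ∧ (frattini H).relIndex M ∣ p ∧ M.index ∣ p := by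
  have hpos : 0 < p := hp.out.pos
  have hΦ : Nat.card (frattini H) = p ^ 2 := by
    have h1 := (frattini H).card_mul_index
    rw [hidx, hcard] at h1
    have h2 : p ^ 4 = p ^ 2 * p ^ 2 := by ring
    rw [h2] at h1
    exact Nat.eq_of_mul_eq_mul_right (Nat.pow_pos hpos) h1
  have hΦn : (frattini H).Normal := inferInstance
  by_cases hc : frattini H ≤ center H
  · -- the commutator subgroup has order p
    obtain ⟨x, y, hxy⟩ := hnab
    set N := zpowers (x * y * x⁻¹ * y⁻¹) with hN
    have hcΦ : ∀ a b : H, a * b * a⁻¹ * b⁻¹ ∈ frattini H := fun a b =>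
      Cfsg.Agent.S0014.commutator_mem_frattini hH a b
    have hNΦ : N ≤ frattini H := by
      rw [hN, Subgroup.zpowers_le]
      exact hcΦ x y
    have hNc : N ≤ center H := hNΦ.trans hc
    have hNn : N.Normal := by
      refine ⟨fun n hn g => ?_⟩
      have h1 := Subgroup.mem_center_iff.1 (hNc hn) g
      have h2 : g * n * g⁻¹ = n := by rw [h1]; group
      rwa [h2]
    -- x, y generate H
    have hgen : closure {x, y} = ⊤ := by
      apply frattini_nongenerating
      by_contra hne
      have hle : frattini H ≤ closure {x, y} ⊔ frattini H := le_sup_right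
      have hxK : x ∈ closure {x, y} ⊔ frattini H := (le_sup_left : closure {x, y} ≤ _) (subset_closure (by simp))
      have hyK : y ∈ closure {x, y} ⊔ frattini H := (le_sup_left : closure {x, y} ≤ _) (subset_closure (by simp))
      by_cases he : closure {x, y} ⊔ frattini H = frattini H
      · rw [he] at hxK
        exact hxy ((Subgroup.mem_center_iff.1 (hc hxK) y).symm)
      · obtain ⟨h1, -⟩ := split_index hle hidx he hne
        exact hxy (comm_of_relIndex_dvd hc hle h1.dvd x hxK y hyK)
    have hcomN : ∀ a b : H, a * b * a⁻¹ * b⁻¹ ∈ N := by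
      -- for fixed a the set of b with [a,b] ∈ N is a subgroup
      have hsub : ∀ a : H, ∀ b c : H, a * b * a⁻¹ * b⁻¹ ∈ N → a * c * a⁻¹ * c⁻¹ ∈ N →
          a * (b * c) * a⁻¹ * (b * c)⁻¹ ∈ N := by
        intro a b c hb hc'
        have h1 : a * (b * c) * a⁻¹ * (b * c)⁻¹ = (a * b * a⁻¹ * b⁻¹) * (b * (a * c * a⁻¹ * c⁻¹) * b⁻¹) := by group
        rw [h1]
        exact N.mul_mem hb (hNn.conj_mem _ hc' b)
      have hinv : ∀ a b : H, a * b * a⁻¹ * b⁻¹ ∈ N → a * b⁻¹ * a⁻¹ * b⁻¹⁻¹ ∈ N := by
        intro a b hb
        have h1 : a * b⁻¹ * a⁻¹ * b⁻¹⁻¹ = b⁻¹ * (a * b * a⁻¹ * b⁻¹)⁻¹ * b⁻¹⁻¹ := by group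
        rw [h1]
        exact hNn.conj_mem _ (N.inv_mem hb) _
      have hswap : ∀ a b : H, a * b * a⁻¹ * b⁻¹ ∈ N → b * a * b⁻¹ * a⁻¹ ∈ N := by
        intro a b hb
        have h1 : b * a * b⁻¹ * a⁻¹ = (a * b * a⁻¹ * b⁻¹)⁻¹ := by group
        rw [h1]
        exact N.inv_mem hb
      let K : H → Subgroup H := fun a =>
        { carrier := {b | a * b * a⁻¹ * b⁻¹ ∈ N}
          mul_mem' := fun {b c} hb hc' => hsub a b c hb hc'
          one_mem' := by
            show a * 1 * a⁻¹ * 1⁻¹ ∈ N
            simp
          inv_mem' := fun {b} hb => hinv a b hb }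
      have hKx : K x = ⊤ := by
        rw [eq_top_iff, ← hgen, closure_le]
        rintro z (rfl | rfl)
        · show z * z * z⁻¹ * z⁻¹ ∈ N
          have : z * z * z⁻¹ * z⁻¹ = 1 := by group
          rw [this]
          exact N.one_mem
        · show x * z * x⁻¹ * z⁻¹ ∈ N
          exact mem_zpowers _
      have hKy : K y = ⊤ := by
        rw [eq_top_iff, ← hgen, closure_le]
        rintro z (rfl | rfl)
        · exact hswap _ _ (mem_zpowers _)
        · show z * z * z⁻¹ * z⁻¹ ∈ N
          have : z * z * z⁻¹ * z⁻¹ = 1 := by group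
          rw [this]
          exact N.one_mem
      intro a b
      have hKa : K a = ⊤ := by
        rw [eq_top_iff, ← hgen, closure_le]
        rintro z (rfl | rfl)
        · have h1 : a ∈ K z := by rw [hKx]; exact mem_top _
          exact hswap _ _ h1
        · have h1 : a ∈ K z := by rw [hKy]; exact mem_top _
          exact hswap _ _ h1
      have h1 : b ∈ K a := by rw [hKa]; exact mem_top _
      exact h1
    -- [x,y]^p = 1
    have hxpp : (x * y * x⁻¹ * y⁻¹) ^ p = 1 := by
      have h1 : ∀ n : ℕ, x ^ n * y * (x ^ n)⁻¹ * y⁻¹ = (x * y * x⁻¹ * y⁻¹) ^ n := by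
        intro n
        induction n with
        | zero => simp
        | succ n ih =>
          have h2 := Subgroup.mem_center_iff.1 (hc (hcΦ x y))
          calc x ^ (n + 1) * y * (x ^ (n + 1))⁻¹ * y⁻¹
              = x ^ n * (x * y * x⁻¹ * y⁻¹) * y * (x ^ n)⁻¹ * y⁻¹ := by rw [pow_succ]; group
            _ = (x * y * x⁻¹ * y⁻¹) * (x ^ n * y * (x ^ n)⁻¹ * y⁻¹) := by rw [h2 (x ^ n)]; group
            _ = (x * y * x⁻¹ * y⁻¹) ^ (n + 1) := by rw [ih, pow_succ']
      rw [← h1]
      have h2 := Subgroup.mem_center_iff.1 (hc (Cfsg.Agent.Lib.FrattiniPGroup.pow_mem_frattini hH x)) y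
      rw [← h2]
      group
    have hNp : Nat.card N = p := by
      rw [hN, Nat.card_zpowers]
      refine orderOf_eq_prime hxpp fun h => hxy ?_
      rw [mul_inv_eq_one, mul_inv_eq_iff_eq_mul] at h
      exact h
    -- M = {z : z^p ∈ N}
    have hpow : ∀ a b : H, a ^ p ∈ N → b ^ p ∈ N → (a * b) ^ p ∈ N := by
      intro a b ha hb
      have hcm : Commute (QuotientGroup.mk a : H ⧸ N) (QuotientGroup.mk b) := by
        show (QuotientGroup.mk a : H ⧸ N) * QuotientGroup.mk b = QuotientGroup.mk b * QuotientGroup.mk a
        rw [← QuotientGroup.mk_mul, ← QuotientGroup.mk_mul, QuotientGroup.eq]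
        have h1 : (a * b)⁻¹ * (b * a) = b⁻¹ * a⁻¹ * b⁻¹⁻¹ * a⁻¹⁻¹ := by group
        rw [h1]
        exact hcomN _ _
      rw [← QuotientGroup.eq_one_iff, QuotientGroup.mk_pow, QuotientGroup.mk_mul, hcm.mul_pow,
        ← QuotientGroup.mk_pow, ← QuotientGroup.mk_pow, (QuotientGroup.eq_one_iff _).2 ha,
        (QuotientGroup.eq_one_iff _).2 hb, one_mul]
    let M : Subgroup H :=
      { carrier := {z | z ^ p ∈ N}
        mul_mem' := fun {a b} ha hb => hpow a b ha hb
        one_mem' := by
          show (1 : H) ^ p ∈ N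
          rw [one_pow]
          exact N.one_mem
        inv_mem' := fun {a} ha => by
          show a⁻¹ ^ p ∈ N
          rw [inv_pow]
          exact N.inv_mem ha }
    have hNcomm : N = commutator H := by
      apply le_antisymm
      · rw [hN, Subgroup.zpowers_le]
        exact Subgroup.commutator_mem_commutator (mem_top x) (mem_top y)
      · rw [commutator_eq_closure, closure_le]
        rintro _ ⟨a, b, rfl⟩
        exact hcomN a b
    have hMchar : M.Characteristic := by
      rw [Subgroup.characteristic_iff_map_le]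
      rintro φ _ ⟨z, hz, rfl⟩
      show (φ z) ^ p ∈ N
      rw [← map_pow, hNcomm]
      have h1 : (commutator H).Characteristic := inferInstance
      rw [Subgroup.characteristic_iff_map_le] at h1
      have hz' : z ^ p ∈ commutator H := by rw [← hNcomm]; exact hz
      exact h1 φ ⟨_, hz', rfl⟩
    have hΦM : frattini H ≤ M := by
      intro z hz
      -- the quotient of the Frattini subgroup by N has order p
      show z ^ p ∈ N
      have h1 : N.relIndex (frattini H) = p := by
        have h2 := Subgroup.card_mul_index (N.subgroupOf (frattini H))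
        rw [hΦ] at h2
        have h3 : Nat.card (N.subgroupOf (frattini H)) = p := by
          rw [Nat.card_congr (Subgroup.subgroupOfEquivOfLe hNΦ).toEquiv, hNp]
        rw [h3, pow_two] at h2
        exact Nat.eq_of_mul_eq_mul_left hpos h2
      have hn' : (N.subgroupOf (frattini H)).Normal := inferInstance
      have h2 : (QuotientGroup.mk (⟨z, hz⟩ : frattini H) : frattini H ⧸ N.subgroupOf (frattini H)) ^ p = 1 := by
        have h3 : Nat.card (frattini H ⧸ N.subgroupOf (frattini H)) = p := h1
        rw [← h3]
        exact pow_card_eq_one'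
      rw [← QuotientGroup.mk_pow, QuotientGroup.eq_one_iff, Subgroup.mem_subgroupOf] at h2
      exact h2
    have hMtop : M ≠ ⊤ := by
      intro h
      have h1 : frattini H ≤ N := by
        refine Cfsg.Agent.Lib.FrattiniPGroup.frattini_le (p := p) N (fun a b => ?_) (fun a => ?_)
        · exact hcomN a b
        · have : a ∈ M := by rw [h]; exact mem_top _
          exact this
      have h2 := Subgroup.card_le_of_le h1
      rw [hΦ, hNp, pow_two] at h2
      have h3 := hp.out.one_lt
      nlinarith
    have hMΦ : M ≠ frattini H := by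
      intro h
      -- power map from H/Φ (order p²) to Φ/N (order p) would be injective
      let f : H →* H ⧸ N :=
        { toFun := fun a => QuotientGroup.mk (a ^ p)
          map_one' := by rw [one_pow]; rfl
          map_mul' := fun a b => by
            have hcm : Commute (QuotientGroup.mk a : H ⧸ N) (QuotientGroup.mk b) := by
              show (QuotientGroup.mk a : H ⧸ N) * QuotientGroup.mk b = QuotientGroup.mk b * QuotientGroup.mk a
              rw [← QuotientGroup.mk_mul, ← QuotientGroup.mk_mul, QuotientGroup.eq]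
              have h1 : (a * b)⁻¹ * (b * a) = b⁻¹ * a⁻¹ * b⁻¹⁻¹ * a⁻¹⁻¹ := by group
              rw [h1]
              exact hcomN _ _
            rw [QuotientGroup.mk_pow, QuotientGroup.mk_mul, hcm.mul_pow, QuotientGroup.mk_pow,
              QuotientGroup.mk_pow] }
      have hker : f.ker = frattini H := by
        rw [← h]
        ext a
        rw [MonoidHom.mem_ker]
        exact QuotientGroup.eq_one_iff _
      have hrange : f.range ≤ (frattini H).map (QuotientGroup.mk' N) := by
        rintro _ ⟨a, rfl⟩
        exact ⟨a ^ p, Cfsg.Agent.Lib.FrattiniPGroup.pow_mem_frattini hH a, rfl⟩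
      have h1 := Subgroup.index_ker f
      rw [hker, hidx] at h1
      have h2 := Subgroup.card_le_of_le hrange
      have h3 : Nat.card ((frattini H).map (QuotientGroup.mk' N)) = p := by
        have h4 := card_map_mk hNΦ
        rw [hNp, hΦ, pow_two] at h4
        exact Nat.eq_of_mul_eq_mul_left hpos h4
      rw [← h1, h3, pow_two] at h2
      have h7 := hp.out.one_lt
      nlinarith
    obtain ⟨h1, h2⟩ := split_index hΦM hidx hMΦ hMtop
    exact ⟨M, hMchar, hΦM, h1.dvd, h2.dvd⟩
  · -- the centralizer of the Frattini subgroup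
    obtain ⟨y, hy, hyc⟩ : ∃ y ∈ frattini H, y ∉ center H := by
      by_contra h
      push Not at h
      exact hc h
    have hΦne : frattini H ≠ ⊥ := by
      intro h
      rw [h, Subgroup.card_bot] at hΦ
      have := hp.out.one_lt
      nlinarith
    obtain ⟨Z, hZΦ, hZc, hZp⟩ :=
      Cfsg.Agent.Transfer.TausskyTwoGroup.exists_central_card_prime_le hH (frattini H) hΦne
    have hZn : Z.Normal := by
      refine ⟨fun n hn g => ?_⟩
      have h1 := Subgroup.mem_center_iff.1 (hZc hn) g
      have h2 : g * n * g⁻¹ = n := by rw [h1]; group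
      rwa [h2]
    -- commutators with y lie in Z
    have hcomm : ∀ h : H, h * y * h⁻¹ * y⁻¹ ∈ Z := by
      intro h
      have hq : IsPGroup p (H ⧸ Z) := hH.to_quotient Z
      have hmn : ((frattini H).map (QuotientGroup.mk' Z)).Normal :=
        hΦn.map _ (QuotientGroup.mk'_surjective Z)
      have hmc : Nat.card ((frattini H).map (QuotientGroup.mk' Z)) = p := by
        have h4 := card_map_mk hZΦ
        rw [hZp, hΦ, pow_two] at h4
        exact Nat.eq_of_mul_eq_mul_left hpos h4
      have h1 := le_center_of_card hq hmn hmc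
      have h2 := Subgroup.mem_center_iff.1 (h1 ⟨y, hy, rfl⟩) (QuotientGroup.mk h)
      have h3 : (QuotientGroup.mk (h * y * h⁻¹ * y⁻¹) : H ⧸ Z) = 1 := by
        have h4 : (QuotientGroup.mk h : H ⧸ Z) * QuotientGroup.mk y = QuotientGroup.mk y * QuotientGroup.mk h := h2
        rw [QuotientGroup.mk_mul, QuotientGroup.mk_mul, QuotientGroup.mk_mul, h4, QuotientGroup.mk_inv,
          QuotientGroup.mk_inv]
        group
      exact (QuotientGroup.eq_one_iff _).1 h3
    have hidxy := index_centralizer_dvd hZc hZp y hcomm
    have hM : centralizer (frattini H : Set H) = centralizer {y} := by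
      apply le_antisymm
      · exact Subgroup.centralizer_le (by simpa using hy)
      · intro h hh
        rw [mem_centralizer_singleton_iff] at hh
        have h1 : frattini H ≤ centralizer {h} := by
          have h2 : Z ≤ frattini H ⊓ centralizer {h} := by
            refine le_inf hZΦ fun z hz => ?_
            rw [mem_centralizer_singleton_iff]
            exact (Subgroup.mem_center_iff.1 (hZc hz) h).symm
          have h3 : y ∈ frattini H ⊓ centralizer {h} := ⟨hy, by
            show y ∈ centralizer {h}
            rw [mem_centralizer_singleton_iff]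
            exact hh.symm⟩
          have h4 : frattini H ⊓ centralizer {h} = frattini H := by
            by_contra hne
            have h5 : Nat.card (frattini H ⊓ centralizer {h} : Subgroup H) ∣ p ^ 2 := by
              rw [← hΦ]
              exact Subgroup.card_dvd_of_le inf_le_left
            obtain ⟨k, hk, hk'⟩ := (Nat.dvd_prime_pow hp.out).1 h5
            have h6 : k ≤ 1 := by
              by_contra h7
              have h8 : k = 2 := by omega
              rw [h8] at hk'
              exact hne (Subgroup.eq_of_le_of_card_ge inf_le_left (by rw [hk', hΦ]))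
            have h7 : Z = frattini H ⊓ centralizer {h} := by
              refine Subgroup.eq_of_le_of_card_ge h2 ?_
              rw [hk', hZp]
              calc p ^ k ≤ p ^ 1 := Nat.pow_le_pow_right hpos h6
                _ = p := pow_one p
            rw [← h7] at h3
            exact hyc (hZc h3)
          rw [← h4]
          exact inf_le_right
        rw [Subgroup.mem_centralizer_iff]
        intro z hz
        have h5 := h1 hz
        rw [mem_centralizer_singleton_iff] at h5
        exact h5
    have hΦab : frattini H ≤ centralizer (frattini H : Set H) := by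
      intro a ha
      rw [Subgroup.mem_centralizer_iff]
      intro b hb
      have h1 := (IsPGroup.isMulCommutative_of_card_eq_prime_sq hΦ).is_comm.comm
      exact congrArg Subtype.val (h1 ⟨b, hb⟩ ⟨a, ha⟩)
    refine ⟨centralizer (frattini H : Set H), inferInstance, hΦab, ?_, ?_⟩
    · have h1 := Subgroup.relIndex_mul_index hΦab
      rw [hidx] at h1
      have h2 : (centralizer (frattini H : Set H)).index ∣ p := by rw [hM]; exact hidxy
      have h3 : (centralizer (frattini H : Set H)).index ≠ 1 := by
        intro h4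
        rw [Subgroup.index_eq_one] at h4
        apply hc
        intro a ha
        rw [Subgroup.mem_center_iff]
        intro g
        have h5 : g ∈ centralizer (frattini H : Set H) := by rw [h4]; exact mem_top _
        exact (Subgroup.mem_centralizer_iff.1 h5 a ha).symm
      have h4 : (centralizer (frattini H : Set H)).index = p := by
        rcases (Nat.dvd_prime hp.out).1 h2 with h5 | h5
        · exact (h3 h5).elim
        · exact h5
      rw [h4, pow_two] at h1
      rw [Nat.eq_of_mul_eq_mul_right hpos h1]
    · rw [hM]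
      exact hidxy

end Cfsg.Agent.H767.EssFour
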