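import Cfsg.Agent.H767.EssFourA
import Cfsg.Agent.J2Type.ExtCube
import Cfsg.Agent.Lib.DihedralRecog

/-!
# Groups of order `p⁴` with Frattini subgroup of order `p` (helper767)
-/

set_option autoImplicit false
set_option linter.unusedSectionVars false

namespace Cfsg.Agent.H767.EssFour

open Subgroup

variable {H : Type*} [Group H] [Finite H] {p : ℕ} [hp : Fact p.Prime]

/-- the homomorphism from `ZMod p` given by an element of order dividing `p` -/
noncomputable def zhom {m : ℕ} (g : H) (hg : g ^ m = 1) : Multiplicative (ZMod m) →* H :=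
  AddMonoidHom.toMultiplicativeLeft (Cfsg.Agent.Lib.DihedralRecog.zmodPowHom g hg)

theorem zhom_mem {m : ℕ} (g : H) (hg : g ^ m = 1) (i : Multiplicative (ZMod m)) : zhom g hg i ∈ zpowers g :=
  Cfsg.Agent.Lib.DihedralRecog.zpw_mem g hg i.toAdd

theorem zhom_range {m : ℕ} (g : H) (hg : g ^ m = 1) : (zhom g hg).range = zpowers g := by
  apply le_antisymm
  · rintro _ ⟨i, rfl⟩
    exact zhom_mem g hg i
  · rw [zpowers_le]
    exact ⟨Multiplicative.ofAdd 1, Cfsg.Agent.Lib.DihedralRecog.zpw_one g hg⟩

theorem zhom_injective {m : ℕ} (g : H) (hg : g ^ m = 1) (ho : orderOf g = m) :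
    Function.Injective (zhom g hg) := fun i j h =>
  Multiplicative.toAdd.injective (Cfsg.Agent.Lib.DihedralRecog.zpw_inj g hg ho i.toAdd j.toAdd h)

/-- Extending an injective homomorphism by a commuting element of prime order. -/
theorem ext_injective {A : Type*} [Group A] (f : A →* H) (hf : Function.Injective f) (g : H) (hg : g ^ p = 1)
    (hgf : g ∉ f.range) (hc : ∀ a i, Commute (f a) (zhom g hg i)) :
    Function.Injective (f.noncommCoprod (zhom g hg) hc) := by
  rw [MonoidHom.noncommCoprod_injective]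
  have h1 : orderOf g = p := orderOf_eq_prime hg fun h => hgf (h ▸ f.range.one_mem)
  refine ⟨hf, zhom_injective g hg h1, ?_⟩
  rw [zhom_range, Subgroup.disjoint_def]
  intro x hx hxg
  by_contra hne
  apply hgf
  have h2 : zpowers x = zpowers g := by
    refine Subgroup.eq_of_le_of_card_ge (by rw [zpowers_le]; exact hxg) ?_
    rw [Nat.card_zpowers, Nat.card_zpowers, h1]
    have h3 : orderOf x ∣ p := by
      rw [← h1]
      exact orderOf_dvd_of_mem_zpowers hxg
    rcases (Nat.dvd_prime hp.out).1 h3 with h4 | h4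
    · exact (hne (orderOf_eq_one_iff.1 h4)).elim
    · exact h4.ge
  have h3 : g ∈ zpowers x := by rw [h2]; exact mem_zpowers g
  exact (zpowers_le.2 hx) h3

/-- The abelian groups of order `p⁴` with Frattini subgroup of order `p`. -/
theorem abelian_three_gen (hH : IsPGroup p H) (hcard : Nat.card H = p ^ 4) (hidx : (frattini H).index = p ^ 3)
    (hab : ∀ x y : H, x * y = y * x) : Nonempty (H ≃* Multiplicative (ZMod (p ^ 2) × ZMod p × ZMod p)) := by
  have hpos : 0 < p := hp.out.pos
  have hlt := hp.out.one_lt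
  have hΦ : Nat.card (frattini H) = p := by
    have h1 := (frattini H).card_mul_index
    rw [hidx, hcard] at h1
    have h2 : p ^ 4 = p * p ^ 3 := by ring
    rw [h2] at h1
    exact Nat.eq_of_mul_eq_mul_right (Nat.pow_pos hpos) h1
  let f : H →* H :=
    { toFun := fun x => x ^ p
      map_one' := one_pow p
      map_mul' := fun x y => (show Commute x y from hab x y).mul_pow p }
  have hfr : f.range ≤ frattini H := by
    rintro _ ⟨x, rfl⟩
    exact Cfsg.Agent.Lib.FrattiniPGroup.pow_mem_frattini hH x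
  have hfr' : frattini H ≤ f.range := by
    have : f.range.Normal := ⟨fun n hn g => by rwa [hab g n, mul_assoc, mul_inv_cancel, mul_one]⟩
    refine Cfsg.Agent.Lib.FrattiniPGroup.frattini_le (p := p) f.range (fun a b => ?_) (fun a => ⟨a, rfl⟩)
    rw [commutatorElement_eq_one_iff_mul_comm.2 (hab a b)]
    exact f.range.one_mem
  have hfe : f.range = frattini H := le_antisymm hfr hfr'
  have hker : Nat.card f.ker = p ^ 3 := by
    have h1 := f.ker.card_mul_index
    rw [Subgroup.index_ker, hfe, hΦ, hcard] at h1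
    have h2 : p ^ 4 = p ^ 3 * p := by ring
    rw [h2] at h1
    exact Nat.eq_of_mul_eq_mul_right hpos h1
  -- an element of order p²
  obtain ⟨x, hx⟩ : ∃ x : H, x ^ p ≠ 1 := by
    by_contra h
    push Not at h
    have h1 : frattini H = ⊥ := by
      rw [← hfe, eq_bot_iff]
      rintro _ ⟨x, rfl⟩
      exact h x
    rw [h1, Subgroup.card_bot] at hΦ
    exact hlt.ne hΦ
  have hx2 : x ^ p ^ 2 = 1 := by
    rw [pow_two, pow_mul]
    have h1 : (⟨x ^ p, hfr ⟨x, rfl⟩⟩ : frattini H) ^ Nat.card (frattini H) = 1 := pow_card_eq_one'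
    rw [hΦ] at h1
    exact congrArg Subtype.val h1
  have hox : orderOf x = p ^ 2 := orderOf_eq_prime_pow (n := 1) (by rwa [pow_one]) hx2
  -- first step
  have hc1 := zhom_injective x hx2 hox
  set f1 := zhom x hx2 with hf1
  have hr1 : Nat.card f1.range = p ^ 2 := by
    rw [hf1, zhom_range, Nat.card_zpowers, hox]
  obtain ⟨a, ha, ha1⟩ : ∃ a ∈ f.ker, a ∉ f1.range := by
    by_contra h
    push Not at h
    have h1 := Subgroup.card_le_of_le (show f.ker ≤ f1.range from h)
    rw [hker, hr1] at h1
    have h2 := Nat.pow_lt_pow_right hlt (show 2 < 3 by norm_num)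
    omega
  have ha' : a ^ p = 1 := ha
  have hi2 := ext_injective f1 hc1 a ha' ha1 (fun _ _ => hab _ _)
  set f2 := f1.noncommCoprod (zhom a ha') (fun _ _ => hab _ _) with hf2
  have hr2 : Nat.card f2.range = p ^ 3 := by
    rw [← Nat.card_congr (MonoidHom.ofInjective hi2).toEquiv, Nat.card_prod]
    rw [Nat.card_congr (Multiplicative.toAdd), Nat.card_congr (Multiplicative.toAdd), Nat.card_zmod, Nat.card_zmod]
    ring
  obtain ⟨b, hb, hb1⟩ : ∃ b ∈ f.ker, b ∉ f2.range := by
    by_contra h
    push Not at h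
    have h1 : f.ker = f2.range := Subgroup.eq_of_le_of_card_ge h (by rw [hker, hr2])
    apply hx
    have h2 : x ∈ f.ker := by
      rw [h1]
      refine ⟨(Multiplicative.ofAdd 1, 1), ?_⟩
      have h3 : f2 (Multiplicative.ofAdd 1, 1) = f1 (Multiplicative.ofAdd 1) * zhom a ha' 1 := rfl
      rw [h3, map_one (zhom a ha'), mul_one]
      exact Cfsg.Agent.Lib.DihedralRecog.zpw_one x hx2
    exact h2
  have hb' : b ^ p = 1 := hb
  have hi3 := ext_injective f2 hi2 b hb' hb1 (fun _ _ => hab _ _)
  have hbij : Function.Bijective (f2.noncommCoprod (zhom b hb') (fun _ _ => hab _ _)) := by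
    rw [Nat.bijective_iff_injective_and_card]
    refine ⟨hi3, ?_⟩
    rw [Nat.card_prod, Nat.card_prod, Nat.card_congr (Multiplicative.toAdd), Nat.card_congr (Multiplicative.toAdd),
      Nat.card_zmod, Nat.card_zmod, hcard]
    ring
  exact ⟨(MulEquiv.ofBijective _ hbij).symm.trans ((MulEquiv.prodAssoc).trans
    (((MulEquiv.refl _).prodCongr (MulEquiv.prodMultiplicative (G := ZMod p) (H := ZMod p)).symm).trans
      (MulEquiv.prodMultiplicative (G := ZMod (p ^ 2)) (H := ZMod p × ZMod p)).symm))⟩

end Cfsg.Agent.H767.EssFour
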