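import Cfsg.Agent.H767.EssFourB

/-!
# Non-abelian groups of order `p⁴` with Frattini subgroup of order `p` (helper767)
-/

set_option autoImplicit false
set_option linter.unusedSectionVars false
set_option linter.unusedVariables false

namespace Cfsg.Agent.H767.EssFour

open Subgroup

variable {H : Type*} [Group H] [Finite H] {p : ℕ} [hp : Fact p.Prime]

theorem card_frattini (hcard : Nat.card H = p ^ 4) (hidx : (frattini H).index = p ^ 3) :
    Nat.card (frattini H) = p := by
  have h1 := (frattini H).card_mul_index
  rw [hidx, hcard] at h1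
  have h2 : p ^ 4 = p * p ^ 3 := by ring
  rw [h2] at h1
  exact Nat.eq_of_mul_eq_mul_right (Nat.pow_pos hp.out.pos) h1

theorem frattini_le_center (hH : IsPGroup p H) (hcard : Nat.card H = p ^ 4) (hidx : (frattini H).index = p ^ 3) :
    frattini H ≤ center H :=
  le_center_of_card hH inferInstance (card_frattini hcard hidx)

theorem index_centralizer (hH : IsPGroup p H) (hcard : Nat.card H = p ^ 4) (hidx : (frattini H).index = p ^ 3)
    {x y : H} (hxy : x * y ≠ y * x) : (centralizer {x}).index = p := by
  have h1 := index_centralizer_dvd (frattini_le_center hH hcard hidx) (card_frattini hcard hidx) x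
    (fun h => Cfsg.Agent.S0014.commutator_mem_frattini hH h x)
  rcases (Nat.dvd_prime hp.out).1 h1 with h2 | h2
  · exfalso
    rw [Subgroup.index_eq_one] at h2
    have h3 : y ∈ centralizer {x} := by rw [h2]; exact mem_top _
    rw [mem_centralizer_singleton_iff] at h3
    exact hxy h3.symm
  · exact h2

theorem card_centralizer (hH : IsPGroup p H) (hcard : Nat.card H = p ^ 4) (hidx : (frattini H).index = p ^ 3)
    {x y : H} (hxy : x * y ≠ y * x) : Nat.card (centralizer {x}) = p ^ 3 := by
  have h1 := (centralizer {x}).card_mul_index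
  rw [index_centralizer hH hcard hidx hxy, hcard] at h1
  have h2 : p ^ 4 = p ^ 3 * p := by ring
  rw [h2] at h1
  exact Nat.eq_of_mul_eq_mul_right hp.out.pos h1

/-- The centre of a three generator non-abelian group of order `p⁴`. -/
theorem center_eq (hH : IsPGroup p H) (hcard : Nat.card H = p ^ 4) (hidx : (frattini H).index = p ^ 3)
    {x y : H} (hxy : x * y ≠ y * x) :
    Nat.card (center H) = p ^ 2 ∧ center H = centralizer {x} ⊓ centralizer {y} ∧
      centralizer {x} = center H ⊔ zpowers x := by
  have hpos : 0 < p := hp.out.pos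
  have hlt := hp.out.one_lt
  have hcx := card_centralizer hH hcard hidx hxy
  have hcy := card_centralizer hH hcard hidx (Ne.symm hxy)
  have hix := index_centralizer hH hcard hidx hxy
  have hiy := index_centralizer hH hcard hidx (Ne.symm hxy)
  set D := centralizer {x} ⊓ centralizer {y} with hD
  have hDi : D.index ≤ p * p := by
    have h1 := Subgroup.index_inf_le (H := centralizer {x}) (K := centralizer {y})
    rw [hix, hiy] at h1
    exact h1
  have hDc : p ^ 2 ≤ Nat.card D := by
    have h1 := D.card_mul_index
    rw [hcard] at h1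
    by_contra h2
    push Not at h2
    have h3 : Nat.card D * D.index < p ^ 2 * (p * p) := by
      calc Nat.card D * D.index ≤ Nat.card D * (p * p) := Nat.mul_le_mul_left _ hDi
        _ < p ^ 2 * (p * p) := Nat.mul_lt_mul_of_pos_right h2 (by positivity)
    have h4 : p ^ 4 = p ^ 2 * (p * p) := by ring
    omega
  have hxx : x ∈ centralizer {x} := by rw [mem_centralizer_singleton_iff]
  have hyy : y ∈ centralizer {y} := by rw [mem_centralizer_singleton_iff]
  have hxD : x ∉ D := by
    intro h
    have h1 := h.2
    exact hxy (mem_centralizer_singleton_iff.1 h1)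
  have hDc2 : Nat.card D = p ^ 2 := by
    have h1 : Nat.card D ∣ p ^ 3 := by
      rw [← hcx]
      exact Subgroup.card_dvd_of_le inf_le_left
    obtain ⟨k, hk, hk'⟩ := (Nat.dvd_prime_pow hp.out).1 h1
    have h2 : k ≠ 3 := by
      rintro rfl
      have h3 : D = centralizer {x} := Subgroup.eq_of_le_of_card_ge inf_le_left (by rw [hk', hcx])
      apply hxD
      rw [h3]
      exact hxx
    have h3 : 2 ≤ k := by
      rw [hk'] at hDc
      exact (Nat.pow_le_pow_iff_right hlt).1 hDc
    have h4 : k = 2 := by omega
    rw [hk', h4]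
  have hDx : centralizer {x} = D ⊔ zpowers x := by
    symm
    have h1 : D ⊔ zpowers x ≤ centralizer {x} := sup_le inf_le_left (by rw [zpowers_le]; exact hxx)
    refine Subgroup.eq_of_le_of_card_ge h1 ?_
    rw [hcx]
    have h2 : Nat.card (D ⊔ zpowers x : Subgroup H) ∣ p ^ 3 := by
      rw [← hcx]
      exact Subgroup.card_dvd_of_le h1
    obtain ⟨k, hk, hk'⟩ := (Nat.dvd_prime_pow hp.out).1 h2
    have h3 : Nat.card D ≤ Nat.card (D ⊔ zpowers x : Subgroup H) := Subgroup.card_le_of_le le_sup_left
    rw [hDc2, hk'] at h3
    have h4 := (Nat.pow_le_pow_iff_right hlt).1 h3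
    have h5 : k ≠ 2 := by
      rintro rfl
      apply hxD
      have h6 : D = D ⊔ zpowers x := Subgroup.eq_of_le_of_card_ge le_sup_left (by rw [hk', hDc2])
      rw [h6]
      exact (le_sup_right : zpowers x ≤ _) (mem_zpowers x)
    have h6 : k = 3 := by omega
    rw [hk', h6]
  have htop : centralizer {x} ⊔ zpowers y = ⊤ := by
    apply Subgroup.eq_top_of_le_card
    rw [hcard]
    have h2 : Nat.card (centralizer {x} ⊔ zpowers y : Subgroup H) ∣ p ^ 4 := by
      rw [← hcard]
      exact Subgroup.card_subgroup_dvd_card _
    obtain ⟨k, hk, hk'⟩ := (Nat.dvd_prime_pow hp.out).1 h2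
    have h3 : Nat.card (centralizer {x}) ≤ Nat.card (centralizer {x} ⊔ zpowers y : Subgroup H) :=
      Subgroup.card_le_of_le le_sup_left
    rw [hcx, hk'] at h3
    have h4 := (Nat.pow_le_pow_iff_right hlt).1 h3
    have h5 : k ≠ 3 := by
      rintro rfl
      have h6 : centralizer {x} = centralizer {x} ⊔ zpowers y :=
        Subgroup.eq_of_le_of_card_ge le_sup_left (by rw [hk', hcx])
      have h7 : y ∈ centralizer {x} := by
        rw [h6]
        exact (le_sup_right : zpowers y ≤ _) (mem_zpowers y)
      exact hxy (mem_centralizer_singleton_iff.1 h7).symm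
    have h6 : k = 4 := by omega
    rw [hk', h6]
  have hDab := (IsPGroup.isMulCommutative_of_card_eq_prime_sq hDc2).is_comm.comm
  have hZD : center H = D := by
    apply le_antisymm
    · rw [hD]
      exact le_inf (Subgroup.center_le_centralizer _) (Subgroup.center_le_centralizer _)
    · intro d hd
      have h1 : (⊤ : Subgroup H) ≤ centralizer {d} := by
        rw [← htop, hDx]
        refine sup_le (sup_le ?_ ?_) ?_
        · intro e he
          rw [mem_centralizer_singleton_iff]
          exact congrArg Subtype.val (hDab ⟨e, he⟩ ⟨d, hd⟩)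
        · rw [zpowers_le, mem_centralizer_singleton_iff]
          exact (mem_centralizer_singleton_iff.1 hd.1).symm
        · rw [zpowers_le, mem_centralizer_singleton_iff]
          exact (mem_centralizer_singleton_iff.1 hd.2).symm
      rw [Subgroup.mem_center_iff]
      intro g
      exact mem_centralizer_singleton_iff.1 (h1 (mem_top g))
  rw [hZD]
  exact ⟨hDc2, rfl, hDx⟩

/-- Two noncommuting elements generate a subgroup of order `p³`. -/
theorem card_closure (hH : IsPGroup p H) (hcard : Nat.card H = p ^ 4) (hidx : (frattini H).index = p ^ 3)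
    {x y : H} (hxy : x * y ≠ y * x) : Nat.card (closure {x, y}) = p ^ 3 := by
  classical
  have hne : closure {x, y} ≠ ⊤ := by
    intro h
    have h1 := (Cfsg.Agent.S0014.result p 3 hH hidx).2 {x, y} (by
      rw [← h]
      congr 1
      simp)
    have h2 : ({x, y} : Finset H).card ≤ 2 := Finset.card_le_two
    omega
  have h1 : Nat.card (closure {x, y}) ∣ p ^ 4 := by
    rw [← hcard]
    exact Subgroup.card_subgroup_dvd_card _
  obtain ⟨k, hk, hk'⟩ := (Nat.dvd_prime_pow hp.out).1 h1
  have hx : x ∈ closure {x, y} := subset_closure (by simp)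
  have hy : y ∈ closure {x, y} := subset_closure (by simp)
  have hk4 : k ≠ 4 := by
    rintro rfl
    exact hne (Subgroup.eq_top_of_card_eq _ (by rw [hk', hcard]))
  have hk2 : k ≠ 2 := by
    rintro rfl
    have h2 := (IsPGroup.isMulCommutative_of_card_eq_prime_sq hk').is_comm.comm
    exact hxy (congrArg Subtype.val (h2 ⟨x, hx⟩ ⟨y, hy⟩))
  have hk1 : k ≠ 1 := by
    rintro rfl
    rw [pow_one] at hk'
    have : IsCyclic (closure {x, y}) := isCyclic_of_prime_card hk'
    have h2 := IsCyclic.commGroup (α := closure {x, y})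
    have h3 := (inferInstance : IsMulCommutative (closure {x, y})).is_comm.comm
    exact hxy (congrArg Subtype.val (h3 ⟨x, hx⟩ ⟨y, hy⟩))
  have hk0 : k ≠ 0 := by
    rintro rfl
    rw [pow_zero] at hk'
    have h2 : closure {x, y} = ⊥ := Subgroup.eq_bot_of_card_eq _ hk'
    rw [h2, Subgroup.mem_bot] at hx hy
    rw [hx, hy] at hxy
    exact hxy rfl
  have h3 : k = 3 := by omega
  rw [hk', h3]

/-- The Frattini subgroup lies in `⟨x, y⟩`. -/
theorem frattini_le_closure (hH : IsPGroup p H) (hcard : Nat.card H = p ^ 4) (hidx : (frattini H).index = p ^ 3)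
    {x y : H} (hxy : x * y ≠ y * x) : frattini H ≤ closure {x, y} := by
  have hx : x ∈ closure {x, y} := subset_closure (by simp)
  have hy : y ∈ closure {x, y} := subset_closure (by simp)
  have h1 := Cfsg.Agent.S0014.commutator_mem_frattini hH x y
  have h2 : x * y * x⁻¹ * y⁻¹ ∈ closure {x, y} :=
    mul_mem (mul_mem (mul_mem hx hy) (inv_mem hx)) (inv_mem hy)
  have h3 : x * y * x⁻¹ * y⁻¹ ≠ 1 := by
    intro h
    rw [mul_inv_eq_one, mul_inv_eq_iff_eq_mul] at h
    exact hxy h
  have h4 : zpowers (x * y * x⁻¹ * y⁻¹) = frattini H := by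
    refine Subgroup.eq_of_le_of_card_ge (by rw [zpowers_le]; exact h1) ?_
    rw [Nat.card_zpowers, card_frattini hcard hidx]
    have h5 : orderOf (x * y * x⁻¹ * y⁻¹) ∣ p := by
      rw [← card_frattini hcard hidx]
      exact Subgroup.orderOf_dvd_natCard _ h1
    rcases (Nat.dvd_prime hp.out).1 h5 with h6 | h6
    · exact (h3 (orderOf_eq_one_iff.1 h6)).elim
    · exact h6.ge
  rw [← h4, zpowers_le]
  exact h2

theorem closure_inf_center (hH : IsPGroup p H) (hcard : Nat.card H = p ^ 4) (hidx : (frattini H).index = p ^ 3)
    {x y : H} (hxy : x * y ≠ y * x) : closure {x, y} ⊓ center H = frattini H := by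
  have hx : x ∈ closure {x, y} := subset_closure (by simp)
  have hy : y ∈ closure {x, y} := subset_closure (by simp)
  symm
  refine Subgroup.eq_of_le_of_card_ge (le_inf (frattini_le_closure hH hcard hidx hxy)
    (frattini_le_center hH hcard hidx)) ?_
  rw [card_frattini hcard hidx]
  have hex : Cfsg.IsExtraspecial p (closure {x, y}) := by
    refine Cfsg.Agent.J2Type.ExtCube.isExtraspecial_of_card_cube (card_closure hH hcard hidx hxy) ?_
    exact ⟨⟨x, hx⟩, ⟨y, hy⟩, fun h => hxy (congrArg Subtype.val h)⟩
  calc Nat.card (closure {x, y} ⊓ center H : Subgroup H)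
      ≤ Nat.card ((center (closure {x, y})).map (closure {x, y}).subtype) := by
        apply Subgroup.card_le_of_le
        intro z hz
        refine ⟨⟨z, hz.1⟩, ?_, rfl⟩
        show (⟨z, hz.1⟩ : closure {x, y}) ∈ center (closure {x, y})
        rw [Subgroup.mem_center_iff]
        intro g
        exact Subtype.ext (Subgroup.mem_center_iff.1 hz.2 g)
    _ = Nat.card (center (closure {x, y})) := Subgroup.card_map_of_injective (Subtype.coe_injective)
    _ = p := hex.2

/-- The direct product decomposition when there is a central element of order `p` outside the Frattini subgroup. -/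
theorem prod_equiv (hH : IsPGroup p H) (hcard : Nat.card H = p ^ 4) (hidx : (frattini H).index = p ^ 3)
    {x y : H} (hxy : x * y ≠ y * x) {z : H} (hz : z ∈ center H) (hzp : z ^ p = 1) (hzf : z ∉ frattini H) :
    Nonempty (H ≃* closure {x, y} × Multiplicative (ZMod p)) := by
  have hzc : z ∉ (closure {x, y}).subtype.range := by
    rw [Subgroup.range_subtype]
    intro h
    apply hzf
    rw [← closure_inf_center hH hcard hidx hxy]
    exact ⟨h, hz⟩
  have hcomm : ∀ (a : closure {x, y}) (i : Multiplicative (ZMod p)),
      Commute ((closure {x, y}).subtype a) (zhom z hzp i) := by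
    intro a i
    have h1 : zhom z hzp i ∈ center H := (zpowers_le.2 hz) (zhom_mem z hzp i)
    exact Subgroup.mem_center_iff.1 h1 _
  have hinj := ext_injective (closure {x, y}).subtype (Subtype.coe_injective) z hzp hzc hcomm
  have hbij : Function.Bijective ((closure {x, y}).subtype.noncommCoprod (zhom z hzp) hcomm) := by
    rw [Nat.bijective_iff_injective_and_card]
    refine ⟨hinj, ?_⟩
    rw [Nat.card_prod, card_closure hH hcard hidx hxy, Nat.card_congr (Multiplicative.toAdd), Nat.card_zmod, hcard]
    ring
  exact ⟨(MulEquiv.ofBijective _ hbij).symm⟩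

end Cfsg.Agent.H767.EssFour
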