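import Cfsg.Agent.H767.EssFourC

/-!
# Non-abelian three-generator essential subgroups of order `p⁴` (helper767)
-/

set_option autoImplicit false
set_option linter.unusedSectionVars false
set_option linter.unusedVariables false

namespace Cfsg.Agent.H767.EssFour

open Subgroup Cfsg Cfsg.Agent.H767.EssFrat Cfsg.Agent.H802
open scoped commutatorElement

section grp

variable {H : Type*} [Group H] [Finite H] {p : ℕ} [hp : Fact p.Prime]

/-- A subgroup of order `p²` is cyclic or of exponent `p`. -/
theorem cyclic_or_exponent {Z : Subgroup H} (hZ : Nat.card Z = p ^ 2) : IsCyclic Z ∨ ∀ z ∈ Z, z ^ p = 1 := by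
  by_cases h : ∀ z ∈ Z, z ^ p = 1
  · exact Or.inr h
  · left
    push Not at h
    obtain ⟨z, hz, hzp⟩ := h
    have h1 : orderOf z ∣ p ^ 2 := by
      rw [← hZ]
      exact Subgroup.orderOf_dvd_natCard _ hz
    obtain ⟨k, hk, hk'⟩ := (Nat.dvd_prime_pow hp.out).1 h1
    have h2 : k = 2 := by
      by_contra h3
      have h4 : k ≤ 1 := by omega
      apply hzp
      rw [← orderOf_dvd_iff_pow_eq_one, hk']
      calc p ^ k ∣ p ^ 1 := pow_dvd_pow p h4
        _ = p := pow_one p
    refine isCyclic_of_orderOf_eq_card (⟨z, hz⟩ : Z) ?_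
    rw [Subgroup.orderOf_mk, hk', h2, hZ]

/-- `x ^ p² = 1`. -/
theorem pow_sq_eq_one (hH : IsPGroup p H) (hcard : Nat.card H = p ^ 4) (hidx : (frattini H).index = p ^ 3) (x : H) :
    x ^ p ^ 2 = 1 := by
  have h1 := Cfsg.Agent.Lib.FrattiniPGroup.pow_mem_frattini hH x
  have h2 : (⟨x ^ p, h1⟩ : frattini H) ^ Nat.card (frattini H) = 1 := pow_card_eq_one'
  rw [card_frattini hcard hidx] at h2
  rw [pow_two, pow_mul]
  exact congrArg Subtype.val h2

/-- in the elementary centre case there is a central element outside the Frattini subgroup -/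
theorem exists_central {x y : H} (hH : IsPGroup p H) (hcard : Nat.card H = p ^ 4)
    (hidx : (frattini H).index = p ^ 3) (hxy : x * y ≠ y * x) : ∃ z ∈ center H, z ∉ frattini H := by
  by_contra h
  push Not at h
  have h1 := Subgroup.card_le_of_le (show center H ≤ frattini H from h)
  rw [(center_eq hH hcard hidx hxy).1, card_frattini hcard hidx, pow_two] at h1
  have := hp.out.one_lt
  nlinarith

theorem comm_mem_center (hH : IsPGroup p H) (hcard : Nat.card H = p ^ 4)
    (hidx : (frattini H).index = p ^ 3) (a b : H) : ⁅a, b⁆ ∈ center H := by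
  rw [commutatorElement_def]
  exact frattini_le_center hH hcard hidx (Cfsg.Agent.S0014.commutator_mem_frattini hH a b)

theorem comm_pow (hH : IsPGroup p H) (hcard : Nat.card H = p ^ 4)
    (hidx : (frattini H).index = p ^ 3) (a b : H) : ⁅a, b⁆ ^ p = 1 := by
  have h1 := Cfsg.Agent.S0014.commutator_mem_frattini hH a b
  have h2 : (⟨a * b * a⁻¹ * b⁻¹, h1⟩ : frattini H) ^ Nat.card (frattini H) = 1 := pow_card_eq_one'
  rw [card_frattini hcard hidx] at h2
  rw [commutatorElement_def]
  exact congrArg Subtype.val h2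

end grp

variable {Ω : Type*} [Group Ω] {S : Subgroup Ω}

/-- For `p` odd a three generator non-abelian essential subgroup of order `p⁴` with elementary abelian centre has
exponent `p`. -/
theorem exponent_odd {p : ℕ} [hp : Fact p.Prime] [Finite S] (hS : IsPGroup p S) {F : FusionSystem S}
    {H : Subgroup Ω} (hH : F.IsEssential p H) (hcard : Nat.card H = p ^ 4) (hidx : (frattini H).index = p ^ 3)
    {x y : H} (hxy : x * y ≠ y * x) (hZ : ∀ z ∈ center H, z ^ p = 1) (h2 : p ≠ 2) : ∀ h : H, h ^ p = 1 := by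
  have hHS : H ≤ S := hH.1.1
  have hfin : Finite H := finite_of_le hHS
  have hHp : IsPGroup p H := hS.to_le hHS
  obtain ⟨hZc, -, -⟩ := center_eq hHp hcard hidx hxy
  let f : H →* H :=
    { toFun := fun x => x ^ p
      map_one' := one_pow p
      map_mul' := fun a b => Cfsg.Agent.Transfer.CentralComm.mul_pow_prime (comm_mem_center hHp hcard hidx) hp.out h2
        (comm_pow hHp hcard hidx b a) }
  have hZf : center H ≤ f.ker := hZ
  have hchar : f.ker.Characteristic := by
    rw [Subgroup.characteristic_iff_map_le]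
    rintro φ _ ⟨z, hz, rfl⟩
    show (φ z) ^ p = 1
    rw [← map_pow]
    have : z ^ p = 1 := hz
    rw [this, map_one]
  have hidxZ : (center H).index = p ^ 2 := by
    have h1 := (center H).card_mul_index
    rw [hZc, hcard] at h1
    have h3 : p ^ 4 = p ^ 2 * p ^ 2 := by ring
    rw [h3] at h1
    exact Nat.eq_of_mul_eq_mul_left (Nat.pow_pos hp.out.pos) h1
  have hMi : f.ker.index ∣ p := by
    rw [Subgroup.index_ker, ← card_frattini hcard hidx]
    apply Subgroup.card_dvd_of_le
    rintro _ ⟨a, rfl⟩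
    exact Cfsg.Agent.Lib.FrattiniPGroup.pow_mem_frattini hHp a
  have hlt := hp.out.one_lt
  have htop : f.ker = ⊤ := by
    by_contra hne
    have h3 : f.ker.index = p := by
      rcases (Nat.dvd_prime hp.out).1 hMi with h4 | h4
      · exact (hne (Subgroup.index_eq_one.1 h4)).elim
      · exact h4
    have h4 := Subgroup.relIndex_mul_index hZf
    rw [h3, hidxZ, pow_two] at h4
    have h5 := Nat.eq_of_mul_eq_mul_right hp.out.pos h4
    have h6 := Subgroup.relIndex_mul_index (frattini_le_center hHp hcard hidx)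
    rw [hidx, hidxZ] at h6
    have h7 : p ^ 3 = p * p ^ 2 := by ring
    rw [h7] at h6
    have h8 := Nat.eq_of_mul_eq_mul_right (Nat.pow_pos hp.out.pos) h6
    refine not_char_flag_of_isEssential hS hH
      (fun i => if i = 0 then frattini H else if i = 1 then center H else if i = 2 then f.ker else ⊤) 3 ?_ ?_ ?_ ?_ ?_
    · intro i
      split_ifs <;> infer_instance
    · simp
    · simp
    · intro i hi
      interval_cases i
      · simpa using frattini_le_center hHp hcard hidx
      · simpa using hZf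
      · simp
    · intro i hi
      interval_cases i
      · simp [h8]
      · simp [h5]
      · simp [hMi]
  intro h
  have h3 : h ∈ f.ker := by rw [htop]; exact mem_top _
  exact h3

/-- For `p = 2`, a three generator non-abelian essential subgroup of order `16` with elementary abelian centre has
no involutions outside the centre. -/
theorem no_involution_two [Finite S] (hS : IsPGroup 2 S) {F : FusionSystem S}
    {H : Subgroup Ω} (hH : F.IsEssential 2 H) (hcard : Nat.card H = 2 ^ 4) (hidx : (frattini H).index = 2 ^ 3)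
    (hZ : ∀ z ∈ center H, z ^ 2 = 1) : ∀ x : H, x ∉ center H → x ^ 2 ≠ 1 := by
  have hHS : H ≤ S := hH.1.1
  have hfin : Finite H := finite_of_le hHS
  have hHp : IsPGroup 2 H := hS.to_le hHS
  have h2F : Fact (Nat.Prime 2) := ⟨Nat.prime_two⟩
  intro x hx hx2
  obtain ⟨y, hxy⟩ : ∃ y, x * y ≠ y * x := by
    by_contra h
    push Not at h
    exact hx (Subgroup.mem_center_iff.2 fun g => (h g).symm)
  obtain ⟨hZc, -, -⟩ := center_eq hHp hcard hidx hxy
  have hidxZ : (center H).index = 2 ^ 2 := by
    have h1 := (center H).card_mul_index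
    rw [hZc, hcard] at h1
    omega
  -- the Frattini subgroup has two elements
  have hΦc := card_frattini hcard hidx
  have hΦ2 : ∀ a ∈ frattini H, a ≠ 1 → ∀ b ∈ frattini H, b ≠ 1 → a = b := by
    intro a ha ha1 b hb hb1
    have h1 : zpowers a = frattini H := by
      refine Subgroup.eq_of_le_of_card_ge (by rw [zpowers_le]; exact ha) ?_
      rw [Nat.card_zpowers, hΦc]
      have h5 : orderOf a ∣ 2 := by
        rw [← hΦc]
        exact Subgroup.orderOf_dvd_natCard _ ha
      rcases (Nat.dvd_prime Nat.prime_two).1 h5 with h6 | h6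
      · exact (ha1 (orderOf_eq_one_iff.1 h6)).elim
      · exact h6.ge
    have h2 : b ∈ zpowers a := by rw [h1]; exact hb
    have h3 : a ^ 2 = 1 := by
      have h4 : (⟨a, ha⟩ : frattini H) ^ Nat.card (frattini H) = 1 := pow_card_eq_one'
      rw [hΦc] at h4
      exact congrArg Subtype.val h4
    obtain ⟨k, hk⟩ := h2
    simp only at hk
    rcases Int.even_or_odd' k with ⟨m, rfl | rfl⟩
    · rw [zpow_mul] at hk
      have h5 : a ^ (2 : ℤ) = 1 := by exact_mod_cast h3
      rw [h5, one_zpow] at hk
      exact (hb1 hk.symm).elim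
    · rw [zpow_add, zpow_mul] at hk
      have h5 : a ^ (2 : ℤ) = 1 := by exact_mod_cast h3
      rw [h5, one_zpow, one_mul, zpow_one] at hk
      exact hk
  have hsq : ∀ a : H, a ^ 2 ∈ frattini H := fun a => Cfsg.Agent.Lib.FrattiniPGroup.pow_mem_frattini hHp a
  have hcomm : ∀ a b : H, ⁅a, b⁆ ∈ frattini H := fun a b => by
    rw [commutatorElement_def]
    exact Cfsg.Agent.S0014.commutator_mem_frattini hHp a b
  have hc1 : ∀ a b : H, a * b ≠ b * a → ⁅a, b⁆ ≠ 1 := fun a b hab h =>
    hab (commutatorElement_eq_one_iff_mul_comm.1 h)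
  have hmul : ∀ a b : H, (a * b) ^ 2 = a ^ 2 * b ^ 2 * ⁅b, a⁆ := by
    intro a b
    have h1 := Cfsg.Agent.Transfer.CentralComm.mul_pow_choose (comm_mem_center hHp hcard hidx) a b 2
    rwa [show Nat.choose 2 2 = 1 from rfl, pow_one] at h1
  -- the square of a product with a central element
  have hsqZ : ∀ a z : H, z ∈ center H → (a * z) ^ 2 = a ^ 2 := by
    intro a z hz
    have h1 : Commute a z := Subgroup.mem_center_iff.1 hz a
    rw [h1.mul_pow, hZ z hz, mul_one]
  have hsq1 : ∀ a : H, (a ^ 2) * (a ^ 2) = 1 := by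
    intro a
    have h4 : (⟨a ^ 2, hsq a⟩ : frattini H) ^ Nat.card (frattini H) = 1 := pow_card_eq_one'
    rw [hΦc] at h4
    have h5 := congrArg Subtype.val h4
    rw [← pow_two]
    exact h5
  -- elements commuting with a noncentral element
  have hcent : ∀ a b : H, a ∉ center H → b ∉ center H → a * b = b * a → a ^ 2 = b ^ 2 := by
    intro a b ha hb hab
    obtain ⟨c, hac⟩ : ∃ c, a * c ≠ c * a := by
      by_contra h
      push Not at h
      exact ha (Subgroup.mem_center_iff.2 fun g => (h g).symm)
    obtain ⟨-, -, h3⟩ := center_eq hHp hcard hidx hac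
    have h4 : b ∈ centralizer {a} := mem_centralizer_singleton_iff.2 hab.symm
    rw [h3] at h4
    obtain ⟨z, hz, w, hw, hzw⟩ := Subgroup.mem_sup_of_normal_left.1 h4
    obtain ⟨k, rfl⟩ := hw
    simp only at hzw
    have h5 : a ^ (2 : ℤ) ∈ center H := by
      have h6 := frattini_le_center hHp hcard hidx (hsq a)
      exact_mod_cast h6
    rcases Int.even_or_odd' k with ⟨m, rfl | rfl⟩
    · exfalso
      apply hb
      rw [← hzw, zpow_mul]
      exact mul_mem hz (zpow_mem h5 m)
    · rw [zpow_add, zpow_mul, zpow_one] at hzw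
      have h6 : z * (a ^ (2 : ℤ)) ^ m ∈ center H := mul_mem hz (zpow_mem h5 m)
      have h7 : b = a * (z * (a ^ (2 : ℤ)) ^ m) := by
        rw [← hzw, ← mul_assoc]
        exact (Subgroup.mem_center_iff.1 h6 a).symm
      rw [h7, hsqZ a _ h6]
  -- choose y with y² ≠ 1
  obtain ⟨y, hxy, hy2⟩ : ∃ y, x * y ≠ y * x ∧ y ^ 2 ≠ 1 := by
    by_cases h : y ^ 2 = 1
    · refine ⟨x * y, fun h1 => hxy ?_, fun h1 => ?_⟩
      · rw [mul_assoc x y x] at h1
        exact mul_left_cancel h1
      · rw [hmul, hx2, h, one_mul, one_mul] at h1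
        exact hc1 y x (Ne.symm hxy) h1
    · exact ⟨y, hxy, h⟩
  have hyZ : y ∉ center H := fun h => hxy (Subgroup.mem_center_iff.1 h x)
  -- any element with nontrivial square commutes with y
  have hkey : ∀ h : H, h ^ 2 ≠ 1 → h * y = y * h := by
    intro h hh
    by_contra hne
    have hhZ : h ∉ center H := fun h1 => hh (hZ h h1)
    have hhyZ : h * y ∉ center H := by
      intro h1
      apply hne
      have h2 := Subgroup.mem_center_iff.1 h1 y
      rw [← mul_assoc] at h2
      exact (mul_right_cancel h2).symm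
    have e1 : h ^ 2 = y ^ 2 := hΦ2 _ (hsq h) hh _ (hsq y) hy2
    have e2 : (h * y) ^ 2 ≠ 1 := by
      rw [hmul, e1, hsq1, one_mul]
      exact hc1 y h (Ne.symm hne)
    by_cases c1 : x * h = h * x
    · exact hh ((hcent x h hx hhZ c1).symm.trans hx2)
    · have c3 : x * (h * y) = (h * y) * x := by
        rw [← commutatorElement_eq_one_iff_mul_comm,
          Cfsg.Agent.Transfer.CentralComm.comm_mul_right (comm_mem_center hHp hcard hidx)]
        have e3 : ⁅x, h⁆ = ⁅x, y⁆ := hΦ2 _ (hcomm x h) (hc1 _ _ c1) _ (hcomm x y) (hc1 _ _ hxy)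
        rw [e3, ← pow_two]
        exact comm_pow hHp hcard hidx x y
      exact e2 ((hcent x (h * y) hx hhyZ c3).symm.trans hx2)
  -- the characteristic subgroup
  set K : Subgroup H := closure {h : H | h ^ 2 ≠ 1} with hK
  have hKchar : K.Characteristic := by
    rw [Subgroup.characteristic_iff_map_le]
    intro φ
    rw [hK, MonoidHom.map_closure, closure_le]
    rintro _ ⟨a, ha, rfl⟩
    apply Subgroup.subset_closure
    show (φ a) ^ 2 ≠ 1
    rw [← map_pow]
    intro h
    exact ha ((EmbeddingLike.map_eq_one_iff).1 h)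
  have hMchar : (K ⊔ center H).Characteristic := by
    rw [Subgroup.characteristic_iff_map_le]
    intro φ
    rw [Subgroup.map_sup]
    exact sup_le_sup (Subgroup.characteristic_iff_map_le.1 hKchar φ)
      (Subgroup.characteristic_iff_map_le.1 inferInstance φ)
  have hMle : K ⊔ center H ≤ centralizer {y} := by
    refine sup_le ?_ (Subgroup.center_le_centralizer _)
    rw [hK, closure_le]
    intro a ha
    exact mem_centralizer_singleton_iff.2 (hkey a ha)
  have hne1 : K ⊔ center H ≠ center H := by
    intro h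
    apply hyZ
    rw [← h]
    exact (le_sup_left : K ≤ _) (subset_closure hy2)
  have hne2 : K ⊔ center H ≠ ⊤ := by
    intro h
    rw [h, top_le_iff] at hMle
    have h1 : x ∈ centralizer {y} := by rw [hMle]; exact mem_top _
    exact hxy (mem_centralizer_singleton_iff.1 h1)
  obtain ⟨h4, h5⟩ := split_index (le_sup_right : center H ≤ K ⊔ center H) hidxZ hne1 hne2
  have h6 := Subgroup.relIndex_mul_index (frattini_le_center hHp hcard hidx)
  rw [hidx, hidxZ] at h6
  have h8 : (frattini H).relIndex (center H) = 2 := by omega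
  refine not_char_flag_of_isEssential hS hH
    (fun i => if i = 0 then frattini H else if i = 1 then center H else if i = 2 then K ⊔ center H else ⊤) 3
    ?_ ?_ ?_ ?_ ?_
  · intro i
    split_ifs <;> infer_instance
  · simp
  · simp
  · intro i hi
    interval_cases i
    · simpa using frattini_le_center hHp hcard hidx
    · simp
    · simp
  · intro i hi
    interval_cases i
    · simp [h8]
    · simp only [one_ne_zero, if_false, if_true, Nat.reduceAdd, Nat.reduceEqDiff]
      rw [h4]
    · simp only [Nat.reduceEqDiff, if_false, if_true, Nat.reduceAdd, OfNat.ofNat_ne_zero, OfNat.ofNat_ne_one]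
      rw [Subgroup.relIndex_top_right, h5]

/-- The quaternion case. -/
theorem quaternion_two [Finite S] (hS : IsPGroup 2 S) {F : FusionSystem S}
    {H : Subgroup Ω} (hH : F.IsEssential 2 H) (hcard : Nat.card H = 2 ^ 4) (hidx : (frattini H).index = 2 ^ 3)
    {x y : H} (hxy : x * y ≠ y * x) (hZ : ∀ z ∈ center H, z ^ 2 = 1) :
    Nonempty (H ≃* QuaternionGroup 2 × Multiplicative (ZMod 2)) := by
  have hHS : H ≤ S := hH.1.1
  have hfin : Finite H := finite_of_le hHS
  have hHp : IsPGroup 2 H := hS.to_le hHS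
  have h2F : Fact (Nat.Prime 2) := ⟨Nat.prime_two⟩
  have hno := no_involution_two hS hH hcard hidx hZ
  have hxZ : x ∉ center H := fun h => hxy (Subgroup.mem_center_iff.1 h y).symm
  have hyZ : y ∉ center H := fun h => hxy (Subgroup.mem_center_iff.1 h x)
  have hΦc := card_frattini hcard hidx
  have hΦ2 : ∀ a ∈ frattini H, a ≠ 1 → ∀ b ∈ frattini H, b ≠ 1 → a = b := by
    intro a ha ha1 b hb hb1
    have h1 : Nat.card (frattini H) = 2 := hΦc
    rw [Nat.card_eq_two_iff] at h1
    obtain ⟨u, v, huv, h⟩ := h1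
    have hmem : ∀ w : frattini H, w = u ∨ w = v := by
      intro w
      have : w ∈ ({u, v} : Set (frattini H)) := by rw [h]; trivial
      simpa using this
    have e1 := hmem 1
    have e2 := hmem ⟨a, ha⟩
    have e3 := hmem ⟨b, hb⟩
    have n1 : (⟨a, ha⟩ : frattini H) ≠ 1 := fun h => ha1 (congrArg Subtype.val h)
    have n2 : (⟨b, hb⟩ : frattini H) ≠ 1 := fun h => hb1 (congrArg Subtype.val h)
    have e4 : (⟨a, ha⟩ : frattini H) = ⟨b, hb⟩ := by
      rcases e1 with e1 | e1 <;> rcases e2 with e2 | e2 <;> rcases e3 with e3 | e3 <;>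
        first
          | exact e2.trans e3.symm
          | exact (n1 (e2.trans e1.symm)).elim
          | exact (n2 (e3.trans e1.symm)).elim
    exact congrArg Subtype.val e4
  have hsq : ∀ a : H, a ^ 2 ∈ frattini H := fun a => Cfsg.Agent.Lib.FrattiniPGroup.pow_mem_frattini hHp a
  have hxx := hno x hxZ
  have hyy := hno y hyZ
  have hx4 : x ^ 4 = 1 := pow_sq_eq_one hHp hcard hidx x
  have hox : orderOf x = 2 * 2 := orderOf_eq_prime_pow (p := 2) (n := 1) (by rwa [pow_one]) hx4
  have e1 : y * y = x ^ 2 := by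
    rw [← pow_two]
    exact hΦ2 _ (hsq y) hyy _ (hsq x) hxx
  have hcm := Cfsg.Agent.S0014.commutator_mem_frattini hHp y x
  have e2 : y * x * y⁻¹ * x⁻¹ = x ^ 2 := by
    refine hΦ2 _ hcm (fun h => hxy ?_) _ (hsq x) hxx
    rw [mul_inv_eq_one, mul_inv_eq_iff_eq_mul] at h
    exact h.symm
  have e3 : y * x * y⁻¹ = x⁻¹ := by
    rw [mul_inv_eq_iff_eq_mul] at e2
    rw [e2]
    rw [eq_inv_iff_mul_eq_one, ← pow_succ, ← pow_succ]
    exact hx4
  have e4 : y ∉ zpowers x := by
    rintro ⟨k, rfl⟩
    exact hxy (show x * x ^ k = x ^ k * x from (Commute.refl x).zpow_right k)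
  obtain ⟨e⟩ := Cfsg.Agent.Lib.DihedralRecog.closure_quaternion x y hox e1 e3 e4
  obtain ⟨z, hz, hzf⟩ := exists_central hHp hcard hidx hxy
  obtain ⟨e'⟩ := prod_equiv hHp hcard hidx hxy hz (hZ z hz) hzf
  exact ⟨e'.trans (e.prodCongr (MulEquiv.refl _))⟩

end Cfsg.Agent.H767.EssFour
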