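import Cfsg.Agent.Lib.DihedralRecog
import Cfsg.Agent.S0245
import Cfsg.Agent.Transfer.TausskyTwoGroup

/-!
# Recognition of the Sylow `p`-subgroup of `Sp₄(p)` (helper767)

`iso_sylow_sp4` : for `p` odd a group of order `p⁴` with pairwise commuting elements `v₀, v₁, v₂` of order dividing `p`
and an element `x` with `xᵖ = 1`, `v₀^x = v₀v₁`, `v₁^x = v₁v₂`, `v₂^x = v₂ ≠ 1` is isomorphic to a Sylow `p`-subgroup of
`Sp₄(p)`.
-/

set_option autoImplicit false
set_option linter.unusedSectionVars false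
set_option linter.unusedVariables false
set_option linter.unusedSimpArgs false
set_option linter.unnecessarySeqFocus false

namespace Cfsg.Agent.H767.Sp4Syl

open Cfsg.Agent.Lib.DihedralRecog

/-- the additive group of order `p³` -/
abbrev Vec (p : ℕ) : Type := ZMod p × ZMod p × ZMod p

/-- the regular unipotent automorphism -/
def T (p : ℕ) : Vec p ≃+ Vec p where
  toFun a := (a.1, a.2.1 + a.1, a.2.2 + a.2.1)
  invFun a := (a.1, a.2.1 - a.1, a.2.2 - a.2.1 + a.1)
  left_inv a := by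
    ext <;> simp
    ring
  right_inv a := by
    ext <;> simp
  map_add' a b := by
    ext <;> simp <;> ring

/-- `T` as an automorphism of the multiplicative group -/
def Tm (p : ℕ) : MulAut (Multiplicative (Vec p)) := AddEquiv.toMultiplicative (T p)

theorem Tm_apply (p : ℕ) (a : Multiplicative (Vec p)) :
    Tm p a = Multiplicative.ofAdd (a.toAdd.1, a.toAdd.2.1 + a.toAdd.1, a.toAdd.2.2 + a.toAdd.2.1) := rfl

theorem Tm_pow_apply (p n : ℕ) (a : Multiplicative (Vec p)) :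
    (Tm p ^ n) a = Multiplicative.ofAdd
      (a.toAdd.1, a.toAdd.2.1 + n * a.toAdd.1, a.toAdd.2.2 + n * a.toAdd.2.1 + (n.choose 2 : ℕ) * a.toAdd.1) := by
  induction n with
  | zero => simp
  | succ n ih =>
    rw [pow_succ', MulAut.mul_apply, ih, Tm_apply]
    have h2 : ((n + 1).choose 2 : ℕ) = n.choose 2 + n := by
      rw [Nat.choose_succ_succ' n 1, Nat.choose_one_right]
      ring
    rw [h2]
    apply Multiplicative.toAdd.injective
    ext
    · rfl
    · simp only [toAdd_ofAdd]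
      push_cast
      ring
    · simp only [toAdd_ofAdd]
      push_cast
      ring

theorem Tm_pow_prime {p : ℕ} (hp : p.Prime) (h2 : p ≠ 2) : Tm p ^ p = 1 := by
  ext a : 1
  rw [Tm_pow_apply]
  have h1 : ((p.choose 2 : ℕ) : ZMod p) = 0 :=
    (ZMod.natCast_eq_zero_iff _ _).2 (hp.dvd_choose_self (by norm_num) (lt_of_le_of_ne hp.two_le (Ne.symm h2)))
  rw [h1]
  simp

/-- the homomorphism from `ZMod m` given by an element of order dividing `m` -/
def zh {G : Type*} [Group G] {m : ℕ} (g : G) (hg : g ^ m = 1) : Multiplicative (ZMod m) →* G :=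
  AddMonoidHom.toMultiplicativeLeft (zmodPowHom g hg)

theorem zh_apply {G : Type*} [Group G] {m : ℕ} (g : G) (hg : g ^ m = 1) (i : ZMod m) :
    zh g hg (Multiplicative.ofAdd i) = zpw g hg i := rfl

/-- the model group of order `p⁴` -/
abbrev Model {p : ℕ} (hp : p.Prime) (h2 : p ≠ 2) : Type :=
  Multiplicative (Vec p) ⋊[zh (Tm p) (Tm_pow_prime hp h2)] Multiplicative (ZMod p)

theorem card_model {p : ℕ} (hp : p.Prime) (h2 : p ≠ 2) : Nat.card (Model hp h2) = p ^ 4 := by
  rw [SemidirectProduct.card, Nat.card_congr (Multiplicative.toAdd), Nat.card_congr (Multiplicative.toAdd),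
    Nat.card_prod, Nat.card_prod, Nat.card_zmod]
  ring

section hom

variable {G : Type*} [Group G] {p : ℕ}

/-- the data: commuting elements and a regular unipotent action -/
structure Data (p : ℕ) (v0 v1 v2 x : G) : Prop where
  h0 : v0 ^ p = 1
  h1 : v1 ^ p = 1
  h2 : v2 ^ p = 1
  hx : x ^ p = 1
  c01 : Commute v0 v1
  c02 : Commute v0 v2
  c12 : Commute v1 v2
  x0 : x * v0 * x⁻¹ = v0 * v1
  x1 : x * v1 * x⁻¹ = v1 * v2
  x2 : x * v2 * x⁻¹ = v2

theorem zpw_eq_pow {m : ℕ} [NeZero m] (g : G) (hg : g ^ m = 1) (i : ZMod m) : zpw g hg i = g ^ i.val := by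
  conv_lhs => rw [← ZMod.natCast_zmod_val i]
  rw [zpw_natCast]

theorem zpw_commute {m : ℕ} [NeZero m] {g h : G} (hg : g ^ m = 1) (hh : h ^ m = 1) (hc : Commute g h) (i j : ZMod m) :
    Commute (zpw g hg i) (zpw h hh j) := by
  rw [zpw_eq_pow, zpw_eq_pow]
  exact hc.pow_pow _ _

theorem conj_zpw_mul {m : ℕ} [NeZero m] {g h x : G} (hg : g ^ m = 1) (hh : h ^ m = 1) (hc : Commute g h)
    (hx : x * g * x⁻¹ = g * h) (i : ZMod m) : x * zpw g hg i * x⁻¹ = zpw g hg i * zpw h hh i := by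
  rw [zpw_eq_pow, zpw_eq_pow, ← hc.mul_pow, ← hx, conj_pow]

theorem conj_zpw_self {m : ℕ} [NeZero m] {g x : G} (hg : g ^ m = 1)
    (hx : x * g * x⁻¹ = g) (i : ZMod m) : x * zpw g hg i * x⁻¹ = zpw g hg i := by
  rw [zpw_eq_pow]
  conv_rhs => rw [← hx, conj_pow]

variable [NeZero p] {v0 v1 v2 x : G} (D : Data p v0 v1 v2 x)

/-- the homomorphism `(a, b, c) ↦ v₀ᵃv₁ᵇv₂ᶜ` -/
def f1 : Multiplicative (Vec p) →* G where
  toFun a := zpw v0 D.h0 a.toAdd.1 * zpw v1 D.h1 a.toAdd.2.1 * zpw v2 D.h2 a.toAdd.2.2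
  map_one' := by
    show zpw v0 D.h0 0 * zpw v1 D.h1 0 * zpw v2 D.h2 0 = 1
    rw [zpw_zero, zpw_zero, zpw_zero, one_mul, one_mul]
  map_mul' a b := by
    show zpw v0 D.h0 (a.toAdd.1 + b.toAdd.1) * zpw v1 D.h1 (a.toAdd.2.1 + b.toAdd.2.1) *
      zpw v2 D.h2 (a.toAdd.2.2 + b.toAdd.2.2) = _
    rw [zpw_add, zpw_add, zpw_add]
    have e1 := (zpw_commute D.h0 D.h1 D.c01 b.toAdd.1 a.toAdd.2.1).eq
    have e2 := (zpw_commute D.h0 D.h2 D.c02 b.toAdd.1 a.toAdd.2.2).eq
    have e3 := (zpw_commute D.h1 D.h2 D.c12 b.toAdd.2.1 a.toAdd.2.2).eq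
    simp only [mul_assoc]
    rw [← mul_assoc (zpw v0 D.h0 b.toAdd.1) (zpw v1 D.h1 a.toAdd.2.1), e1]
    simp only [mul_assoc]
    rw [← mul_assoc (zpw v1 D.h1 b.toAdd.2.1) (zpw v2 D.h2 a.toAdd.2.2), e3]
    simp only [mul_assoc]
    rw [← mul_assoc (zpw v0 D.h0 b.toAdd.1) (zpw v2 D.h2 a.toAdd.2.2), e2]
    simp only [mul_assoc]

theorem f1_apply (a b c : ZMod p) : f1 D (Multiplicative.ofAdd (a, b, c)) =
    zpw v0 D.h0 a * zpw v1 D.h1 b * zpw v2 D.h2 c := rfl

theorem conj_f1 (a : Multiplicative (Vec p)) : x * f1 D a * x⁻¹ = f1 D (Tm p a) := by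
  show x * (zpw v0 D.h0 a.toAdd.1 * zpw v1 D.h1 a.toAdd.2.1 * zpw v2 D.h2 a.toAdd.2.2) * x⁻¹ =
    zpw v0 D.h0 a.toAdd.1 * zpw v1 D.h1 (a.toAdd.2.1 + a.toAdd.1) * zpw v2 D.h2 (a.toAdd.2.2 + a.toAdd.2.1)
  have e0 := conj_zpw_mul D.h0 D.h1 D.c01 D.x0 a.toAdd.1
  have e1 := conj_zpw_mul D.h1 D.h2 D.c12 D.x1 a.toAdd.2.1
  have e2 := conj_zpw_self D.h2 D.x2 a.toAdd.2.2
  rw [zpw_add, zpw_add]
  calc x * (zpw v0 D.h0 a.toAdd.1 * zpw v1 D.h1 a.toAdd.2.1 * zpw v2 D.h2 a.toAdd.2.2) * x⁻¹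
      = (x * zpw v0 D.h0 a.toAdd.1 * x⁻¹) * (x * zpw v1 D.h1 a.toAdd.2.1 * x⁻¹) *
        (x * zpw v2 D.h2 a.toAdd.2.2 * x⁻¹) := by group
    _ = _ := by
        rw [e0, e1, e2]
        have c1 := (zpw_commute D.h1 D.h1 (Commute.refl _) a.toAdd.1 a.toAdd.2.1).eq
        have c2 := (zpw_commute D.h2 D.h2 (Commute.refl _) a.toAdd.2.1 a.toAdd.2.2).eq
        simp only [mul_assoc]
        rw [← mul_assoc (zpw v1 D.h1 a.toAdd.1), c1, c2]
        simp only [mul_assoc]

theorem conj_pow_f1 (n : ℕ) (a : Multiplicative (Vec p)) : x ^ n * f1 D a * (x ^ n)⁻¹ = f1 D ((Tm p ^ n) a) := by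
  induction n with
  | zero => simp
  | succ n ih =>
    rw [pow_succ', pow_succ', MulAut.mul_apply, ← conj_f1, ← ih]
    group

theorem f1_injective (hp : p.Prime) (hne : v2 ≠ 1) : Function.Injective (f1 D) := by
  have : Fact p.Prime := ⟨hp⟩
  have ho : orderOf v2 = p := orderOf_eq_prime D.h2 hne
  have key : ∀ i : ZMod p, zpw v2 D.h2 i = 1 → i = 0 := fun i hi =>
    zpw_inj v2 D.h2 ho i 0 (by rw [hi, zpw_zero])
  have step : ∀ a b c : ZMod p, f1 D (Multiplicative.ofAdd (a, b, c)) = 1 →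
      f1 D (Multiplicative.ofAdd (0, a, b)) = 1 := by
    intro a b c h
    have h1 := conj_f1 D (Multiplicative.ofAdd (a, b, c))
    rw [h, mul_one, mul_inv_cancel] at h1
    have h2 : Tm p (Multiplicative.ofAdd (a, b, c)) =
        Multiplicative.ofAdd (a, b, c) * Multiplicative.ofAdd ((0, a, b) : Vec p) := by
      rw [Tm_apply, ← ofAdd_add]
      simp
    rw [h2, map_mul, h, one_mul] at h1
    exact h1.symm
  rw [injective_iff_map_eq_one]
  intro a ha
  obtain ⟨a0, b0, c0, rfl⟩ : ∃ a0 b0 c0 : ZMod p, a = Multiplicative.ofAdd (a0, b0, c0) :=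
    ⟨a.toAdd.1, a.toAdd.2.1, a.toAdd.2.2, rfl⟩
  have h1 := step _ _ _ ha
  have h2 := step _ _ _ h1
  rw [f1_apply, zpw_zero, zpw_zero, one_mul, one_mul] at h2
  have ha0 := key _ h2
  subst ha0
  rw [f1_apply, zpw_zero, zpw_zero, one_mul, one_mul] at h1
  have hb0 := key _ h1
  subst hb0
  rw [f1_apply, zpw_zero, zpw_zero, one_mul, one_mul] at ha
  have hc0 := key _ ha
  subst hc0
  rfl

theorem f1_comm (a b : Multiplicative (Vec p)) : f1 D a * f1 D b = f1 D b * f1 D a := by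
  rw [← map_mul, ← map_mul, mul_comm]

/-- the homomorphism from the model -/
def modelHom (hp : p.Prime) (hp2 : p ≠ 2) : Model hp hp2 →* G :=
  SemidirectProduct.lift (f1 D) (zh x D.hx) (by
    intro g
    refine MonoidHom.ext fun (a : Multiplicative (Vec p)) => ?_
    show f1 D (zh (Tm p) (Tm_pow_prime hp hp2) g a) = zh x D.hx g * f1 D a * (zh x D.hx g)⁻¹
    have e1 : zh (Tm p) (Tm_pow_prime hp hp2) g = Tm p ^ (g.toAdd.val) :=
      zpw_eq_pow (Tm p) (Tm_pow_prime hp hp2) g.toAdd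
    have e2 : zh x D.hx g = x ^ (g.toAdd.val) := zpw_eq_pow x D.hx g.toAdd
    rw [e1, e2, conj_pow_f1])

theorem modelHom_injective (hp : p.Prime) (hp2 : p ≠ 2) (hne : v2 ≠ 1) :
    Function.Injective (modelHom D hp hp2) := by
  have : Fact p.Prime := ⟨hp⟩
  rw [injective_iff_map_eq_one]
  rintro ⟨a, g⟩ h
  have h1 : f1 D a * zh x D.hx g = 1 := h
  have hxr : x ∉ (f1 D).range := by
    rintro ⟨b, hb⟩
    have e0 : f1 D (Multiplicative.ofAdd (1, 0, 0)) = v0 := by
      rw [f1_apply, zpw_zero, zpw_zero, zpw_one, mul_one, mul_one]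
    have e1 := f1_comm D b (Multiplicative.ofAdd (1, 0, 0))
    rw [hb, e0] at e1
    have e2 := D.x0
    rw [e1, mul_inv_cancel_right] at e2
    have e3 : v1 = 1 := by
      have : v0 * 1 = v0 * v1 := by rw [mul_one]; exact e2
      exact (mul_left_cancel this).symm
    have e4 := D.x1
    rw [e3, mul_one, mul_inv_cancel, one_mul] at e4
    exact hne e4.symm
  have hg : zh x D.hx g ∈ (f1 D).range := by
    refine ⟨a⁻¹, ?_⟩
    rw [map_inv]
    exact (eq_inv_of_mul_eq_one_right h1).symm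
  have hx1 : x ≠ 1 := by
    rintro rfl
    exact hxr (one_mem _)
  have hox : orderOf x = p := orderOf_eq_prime D.hx hx1
  have hg0 : g = 1 := by
    by_contra hg1
    apply hxr
    have e2 : zh x D.hx g = x ^ (g.toAdd.val) := zpw_eq_pow x D.hx g.toAdd
    rw [e2] at hg
    have hcop : Nat.Coprime (g.toAdd.val) p := by
      rw [Nat.coprime_comm, Nat.Prime.coprime_iff_not_dvd hp]
      intro hd
      have h3 : ((g.toAdd.val : ℕ) : ZMod p) = 0 := (ZMod.natCast_eq_zero_iff _ _).2 hd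
      rw [ZMod.natCast_zmod_val] at h3
      exact hg1 (Multiplicative.toAdd.injective h3)
    obtain ⟨m, hm⟩ : ∃ m : ℕ, (x ^ (g.toAdd.val)) ^ m = x := by
      have h4 := exists_pow_eq_self_of_coprime (x := x) (n := g.toAdd.val) (by rw [hox]; exact hcop)
      exact h4
    have h5 := pow_mem hg m
    rwa [hm] at h5
  subst hg0
  rw [map_one, mul_one] at h1
  have ha : a = 1 := f1_injective D hp hne (by rw [h1, map_one])
  subst ha
  rfl

end hom

/-- Two groups of order `p⁴` with these data are isomorphic to the model. -/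
theorem iso_model {G : Type*} [Group G] {p : ℕ} [NeZero p] {v0 v1 v2 x : G} (D : Data p v0 v1 v2 x) (hp : p.Prime)
    (hp2 : p ≠ 2) (hne : v2 ≠ 1) (hcard : Nat.card G = p ^ 4) : Nonempty (Model hp hp2 ≃* G) := by
  have hfin : Finite G := Nat.finite_of_card_ne_zero (by rw [hcard]; exact pow_ne_zero _ hp.ne_zero)
  refine ⟨MulEquiv.ofBijective (modelHom D hp hp2) ?_⟩
  rw [Nat.bijective_iff_injective_and_card]
  exact ⟨modelHom_injective D hp hp2 hne, by rw [card_model, hcard]⟩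

section sp

open Matrix

variable {p : ℕ} [Fact p.Prime]

local notation "SpG" => Matrix.symplecticGroup (Fin 2) (ZMod p)

/-- block upper unitriangular elements -/
def N (B : Matrix (Fin 2) (Fin 2) (ZMod p)) (hB : Bᵀ = B) : SpG :=
  ⟨fromBlocks 1 B 0 1, by
    rw [SymplecticGroup.fromBlocks_mem_iff]
    simp [hB]⟩

theorem N_mul (B C : Matrix (Fin 2) (Fin 2) (ZMod p)) (hB : Bᵀ = B) (hC : Cᵀ = C) :
    N B hB * N C hC = N (B + C) (by rw [transpose_add, hB, hC]) := by
  apply Subtype.ext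
  show fromBlocks 1 B 0 1 * fromBlocks 1 C 0 1 = fromBlocks 1 (B + C) 0 1
  rw [fromBlocks_multiply]
  simp [add_comm]

theorem N_pow (B : Matrix (Fin 2) (Fin 2) (ZMod p)) (hB : Bᵀ = B) (n : ℕ) :
    N B hB ^ n = N (n • B) (by rw [transpose_smul, hB]) := by
  induction n with
  | zero =>
    apply Subtype.ext
    show (1 : Matrix (Fin 2 ⊕ Fin 2) (Fin 2 ⊕ Fin 2) (ZMod p)) = fromBlocks 1 (0 • B) 0 1
    rw [zero_smul, fromBlocks_one]
  | succ n ih =>
    rw [pow_succ, ih, N_mul]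
    congr 1
    rw [succ_nsmul]

theorem N_pow_prime (B : Matrix (Fin 2) (Fin 2) (ZMod p)) (hB : Bᵀ = B) : N B hB ^ p = 1 := by
  rw [N_pow]
  apply Subtype.ext
  show fromBlocks 1 (p • B) 0 1 = (1 : Matrix (Fin 2 ⊕ Fin 2) (Fin 2 ⊕ Fin 2) (ZMod p))
  have : p • B = 0 := by
    ext i j
    simp
  rw [this, fromBlocks_one]

theorem N_comm (B C : Matrix (Fin 2) (Fin 2) (ZMod p)) (hB : Bᵀ = B) (hC : Cᵀ = C) :
    Commute (N B hB) (N C hC) := by
  show N B hB * N C hC = N C hC * N B hB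
  rw [N_mul, N_mul]
  congr 1
  rw [add_comm]

/-- the Levi part -/
def X (n : ZMod p) : SpG :=
  ⟨fromBlocks !![1, n; 0, 1] 0 0 !![1, 0; -n, 1], by
    rw [SymplecticGroup.fromBlocks_mem_iff]
    refine ⟨by simp, by simp, ?_⟩
    ext i j
    fin_cases i <;> fin_cases j <;> simp [Matrix.mul_apply, Fin.sum_univ_two]⟩

theorem X_mul (m n : ZMod p) : X m * X n = X (m + n) := by
  apply Subtype.ext
  show fromBlocks !![1, m; 0, 1] 0 0 !![1, 0; -m, 1] * fromBlocks !![1, n; 0, 1] 0 0 !![1, 0; -n, 1] =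
    fromBlocks !![1, m + n; 0, 1] 0 0 !![1, 0; -(m + n), 1]
  rw [fromBlocks_multiply]
  congr 1
  · ext i j
    fin_cases i <;> fin_cases j <;> simp [Matrix.mul_apply, Fin.sum_univ_two, add_comm]
  · simp
  · simp
  · ext i j
    fin_cases i <;> fin_cases j <;> simp [Matrix.mul_apply, Fin.sum_univ_two, add_comm]

theorem X_zero : X (0 : ZMod p) = 1 := by
  apply Subtype.ext
  show fromBlocks !![1, 0; 0, 1] 0 0 !![1, 0; -0, 1] = (1 : Matrix (Fin 2 ⊕ Fin 2) (Fin 2 ⊕ Fin 2) (ZMod p))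
  rw [← fromBlocks_one]
  congr 1
  · ext i j
    fin_cases i <;> fin_cases j <;> simp
  · ext i j
    fin_cases i <;> fin_cases j <;> simp

theorem X_pow (n : ℕ) : X (1 : ZMod p) ^ n = X (n : ZMod p) := by
  induction n with
  | zero => rw [pow_zero, Nat.cast_zero, X_zero]
  | succ n ih => rw [pow_succ, ih, X_mul, Nat.cast_succ]

theorem X_conj (B C : Matrix (Fin 2) (Fin 2) (ZMod p)) (hB : Bᵀ = B) (hC : Cᵀ = C)
    (h : !![1, 1; 0, 1] * B = C * !![1, 0; -1, 1]) : X 1 * N B hB * (X 1)⁻¹ = N C hC := by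
  rw [mul_inv_eq_iff_eq_mul]
  apply Subtype.ext
  show fromBlocks !![1, 1; 0, 1] 0 0 !![1, 0; -1, 1] * fromBlocks 1 B 0 1 =
    fromBlocks 1 C 0 1 * fromBlocks !![1, 1; 0, 1] 0 0 !![1, 0; -1, 1]
  rw [fromBlocks_multiply, fromBlocks_multiply]
  congr 1
  · simp
  · simp only [Matrix.zero_mul, add_zero, Matrix.mul_one, Matrix.mul_zero, zero_add, Matrix.one_mul]
    exact h
  · simp
  · simp

theorem data_sp : Data p
    (N (!![0, 0; 0, 1] : Matrix (Fin 2) (Fin 2) (ZMod p)) (by ext i j; fin_cases i <;> fin_cases j <;> rfl))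
    (N !![1, 1; 1, 0] (by ext i j; fin_cases i <;> fin_cases j <;> rfl))
    (N !![2, 0; 0, 0] (by ext i j; fin_cases i <;> fin_cases j <;> rfl)) (X 1) where
  h0 := N_pow_prime _ _
  h1 := N_pow_prime _ _
  h2 := N_pow_prime _ _
  hx := by rw [X_pow, CharP.cast_eq_zero, X_zero]
  c01 := N_comm _ _ _ _
  c02 := N_comm _ _ _ _
  c12 := N_comm _ _ _ _
  x0 := by
    rw [N_mul]
    apply X_conj
    ext i j
    fin_cases i <;> fin_cases j <;> simp [Matrix.mul_apply, Fin.sum_univ_two]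
  x1 := by
    rw [N_mul]
    apply X_conj
    ext i j
    fin_cases i <;> fin_cases j <;> simp [Matrix.mul_apply, Fin.sum_univ_two] <;> ring
  x2 := by
    apply X_conj
    ext i j
    fin_cases i <;> fin_cases j <;> simp [Matrix.mul_apply, Fin.sum_univ_two]

theorem n2_ne (hp2 : p ≠ 2) : N (!![2, 0; 0, 0] : Matrix (Fin 2) (Fin 2) (ZMod p))
    (by ext i j; fin_cases i <;> fin_cases j <;> rfl) ≠ 1 := by
  intro h
  have h1 := congrArg Subtype.val h
  have h2 : fromBlocks (1 : Matrix (Fin 2) (Fin 2) (ZMod p)) (!![2, 0; 0, 0] : Matrix (Fin 2) (Fin 2) (ZMod p))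
      (0 : Matrix (Fin 2) (Fin 2) (ZMod p)) (1 : Matrix (Fin 2) (Fin 2) (ZMod p)) =
      fromBlocks 1 (0 : Matrix (Fin 2) (Fin 2) (ZMod p)) 0 1 := by
    rw [fromBlocks_one]
    exact h1
  have h3 := (fromBlocks_inj.1 h2).2.1
  have h4 := congrFun (congrFun h3 0) 0
  have h5 : (2 : ZMod p) = 0 := h4
  have h6 : ((2 : ℕ) : ZMod p) = 0 := by exact_mod_cast h5
  rw [ZMod.natCast_eq_zero_iff] at h6
  exact hp2 ((Nat.prime_dvd_prime_iff_eq Fact.out Nat.prime_two).1 h6)

/-- A Sylow `p`-subgroup of `Sp₄(p)`. -/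
theorem exists_sylow_sp (hp2 : p ≠ 2) : ∃ P : Sylow p SpG, Nonempty (Model (Fact.out : p.Prime) hp2 ≃* (P : Subgroup SpG)) := by
  have hp : p.Prime := Fact.out
  have hinj := modelHom_injective (data_sp (p := p)) hp hp2 (n2_ne hp2)
  have hcard : Nat.card (modelHom (data_sp (p := p)) hp hp2).range = p ^ 4 := by
    rw [← Nat.card_congr (MonoidHom.ofInjective hinj).toEquiv, card_model]
  have hG := Cfsg.Agent.S0245.result (F := ZMod p) (q := p) (ZMod.card p) 2
  have hndvd : ¬ p ∣ ∏ i ∈ Finset.range 2, (p ^ (2 * (i + 1)) - 1) := by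
    intro h
    obtain ⟨i, hi, hd⟩ := (Prime.dvd_finsetProd_iff hp.prime _).1 h
    have h1 : p ∣ p ^ (2 * (i + 1)) := dvd_pow_self p (by omega)
    have h2 : 1 ≤ p ^ (2 * (i + 1)) := Nat.one_le_pow _ _ hp.pos
    have h3 := (Nat.dvd_sub h1 hd)
    rw [Nat.sub_sub_self h2] at h3
    exact hp.one_lt.ne' (Nat.dvd_one.1 h3)
  have hidx : ¬ p ∣ (modelHom (data_sp (p := p)) hp hp2).range.index := by
    have h1 := (modelHom (data_sp (p := p)) hp hp2).range.card_mul_index
    rw [hcard, hG] at h1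
    have h2 : p ^ 2 ^ 2 = p ^ 4 := by norm_num
    rw [h2] at h1
    have h3 := Nat.eq_of_mul_eq_mul_left (Nat.pow_pos hp.pos) h1
    rw [h3]
    exact hndvd
  let P : Sylow p SpG := (IsPGroup.of_card hcard).toSylow hidx
  refine ⟨P, ⟨MonoidHom.ofInjective hinj⟩⟩

/-- **Recognition of the Sylow `p`-subgroup of `Sp₄(p)`.** -/
theorem iso_sylow_sp4 {G : Type*} [Group G] {v0 v1 v2 x : G} (D : Data p v0 v1 v2 x)
    (hp2 : p ≠ 2) (hne : v2 ≠ 1) (hcard : Nat.card G = p ^ 4) :
    ∃ P : Sylow p SpG, Nonempty (G ≃* (P : Subgroup SpG)) := by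
  obtain ⟨P, ⟨e⟩⟩ := exists_sylow_sp (p := p) hp2
  obtain ⟨e'⟩ := iso_model D Fact.out hp2 hne hcard
  exact ⟨P, ⟨e'.symm.trans e⟩⟩

end sp

/-- Recognition in terms of an elementary abelian maximal subgroup `E` and `x` acting on it as a regular unipotent. -/
theorem iso_sylow_of_regular {G : Type*} [Group G] {p : ℕ} [hp : Fact p.Prime] (hp2 : p ≠ 2) (hcard : Nat.card G = p ^ 4)
    {E : Subgroup G} (hEn : E.Normal) (hEc : ∀ a ∈ E, ∀ b ∈ E, a * b = b * a) (hEp : ∀ a ∈ E, a ^ p = 1)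
    (hE3 : Nat.card E = p ^ 3) {x : G} (hx : x ^ p = 1) {v : G} (hv : v ∈ E)
    (hvx : x * (v⁻¹ * (x * v * x⁻¹)) * x⁻¹ ≠ v⁻¹ * (x * v * x⁻¹)) :
    ∃ P : Sylow p (Matrix.symplecticGroup (Fin 2) (ZMod p)),
      Nonempty (G ≃* (P : Subgroup (Matrix.symplecticGroup (Fin 2) (ZMod p)))) := by
  have hfin : Finite G := Nat.finite_of_card_ne_zero (by rw [hcard]; exact pow_ne_zero _ hp.out.ne_zero)
  -- commutator with `x` on `E`
  have hconj : ∀ a ∈ E, x * a * x⁻¹ ∈ E := fun a ha => hEn.conj_mem a ha x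
  let δ : E →* E :=
    { toFun := fun a => ⟨(a : G)⁻¹ * (x * a * x⁻¹), E.mul_mem (E.inv_mem a.2) (hconj a a.2)⟩
      map_one' := Subtype.ext (by simp)
      map_mul' := fun a b => Subtype.ext (by
        show ((a : G) * b)⁻¹ * (x * (a * b) * x⁻¹) = ((a : G)⁻¹ * (x * a * x⁻¹)) * ((b : G)⁻¹ * (x * b * x⁻¹))
        have e1 := hEc _ (E.inv_mem b.2) _ (E.mul_mem (E.inv_mem a.2) (hconj a a.2))
        calc ((a : G) * b)⁻¹ * (x * (a * b) * x⁻¹)
            = ((b : G)⁻¹ * ((a : G)⁻¹ * (x * a * x⁻¹))) * (x * b * x⁻¹) := by group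
          _ = _ := by rw [e1]; group) }
  have hδ : ∀ a : E, ((δ a : E) : G) = (a : G)⁻¹ * (x * a * x⁻¹) := fun a => rfl
  set v0 : E := ⟨v, hv⟩ with hv0
  set v1 := δ v0 with hv1
  set v2 := δ v1 with hv2
  have hv2ne : v2 ≠ 1 := by
    intro h
    apply hvx
    have h1 := congrArg Subtype.val h
    rw [hv2, hδ] at h1
    have h2 : ((v1 : E) : G)⁻¹ * (x * v1 * x⁻¹) = 1 := h1
    rw [inv_mul_eq_one] at h2
    exact h2.symm
  -- nilpotency: `δ³ = 1`
  have hGp : IsPGroup p G := IsPGroup.of_card hcard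
  have hxE : x ∉ E := by
    intro hxE
    apply hvx
    have h1 : x * v * x⁻¹ = v := by rw [hEc x hxE v hv, mul_inv_cancel_right]
    rw [h1, inv_mul_cancel, mul_one, mul_inv_cancel]
  have htop : E ⊔ Subgroup.zpowers x = ⊤ := by
    apply Subgroup.eq_top_of_le_card
    rw [hcard]
    have h2 : Nat.card (E ⊔ Subgroup.zpowers x : Subgroup G) ∣ p ^ 4 := by
      rw [← hcard]
      exact Subgroup.card_subgroup_dvd_card _
    obtain ⟨k, hk, hk'⟩ := (Nat.dvd_prime_pow hp.out).1 h2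
    have h3 : Nat.card E ≤ Nat.card (E ⊔ Subgroup.zpowers x : Subgroup G) := Subgroup.card_le_of_le le_sup_left
    rw [hE3, hk'] at h3
    have h4 := (Nat.pow_le_pow_iff_right hp.out.one_lt).1 h3
    have h5 : k ≠ 3 := by
      rintro rfl
      have h6 : E = E ⊔ Subgroup.zpowers x := Subgroup.eq_of_le_of_card_ge le_sup_left (by rw [hk', hE3])
      apply hxE
      rw [h6]
      exact (le_sup_right : Subgroup.zpowers x ≤ _) (Subgroup.mem_zpowers x)
    have h6 : k = 4 := by omega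
    rw [hk', h6]
  have hstep : ∀ W : Subgroup E, W.map δ ≤ W → W = ⊥ ∨ p * Nat.card (W.map δ) ≤ Nat.card W := by
    intro W hW
    by_cases hWb : W = ⊥
    · exact Or.inl hWb
    right
    -- a nontrivial element of `W` killed by `δ`
    have hWn : (W.map E.subtype).Normal := by
      rw [← Subgroup.normalizer_eq_top_iff, eq_top_iff, ← htop]
      refine sup_le ?_ ?_
      · intro e he
        rw [Subgroup.mem_normalizer_iff]
        have h1 : ∀ z : G, z ∈ E → e * z * e⁻¹ = z := fun z hz => by rw [hEc e he z hz, mul_inv_cancel_right]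
        intro z
        constructor
        · rintro ⟨w, hw, rfl⟩
          refine ⟨w, hw, ?_⟩
          exact (h1 _ w.2).symm
        · rintro ⟨w, hw, hwz⟩
          refine ⟨w, hw, ?_⟩
          have h2 : z = e⁻¹ * (w : G) * e := by
            have h3 : (w : G) = e * z * e⁻¹ := hwz
            rw [h3]
            group
          have h3 : e⁻¹ * (w : G) * e = w := by
            rw [hEc _ (E.inv_mem he) _ w.2, inv_mul_cancel_right]
          rw [h2, h3]
          rfl
      · rw [Subgroup.zpowers_le]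
        -- it suffices that `x` maps `W` into itself
        have h1 : (W.map E.subtype).map (MulAut.conj x).toMonoidHom ≤ W.map E.subtype := by
          rintro _ ⟨_, ⟨w, hw, rfl⟩, rfl⟩
          refine ⟨w * δ w, W.mul_mem hw (hW ⟨w, hw, rfl⟩), ?_⟩
          show (w : G) * ((w : G)⁻¹ * (x * w * x⁻¹)) = x * w * x⁻¹
          group
        have h2 : (W.map E.subtype).map (MulAut.conj x).toMonoidHom = W.map E.subtype :=
          Subgroup.eq_of_le_of_card_ge h1
            (Subgroup.card_map_of_injective (f := (MulAut.conj x).toMonoidHom) (MulAut.conj x).injective).ge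
        rw [Subgroup.mem_normalizer_iff]
        intro z
        constructor
        · intro hz
          rw [← h2]
          exact ⟨z, hz, rfl⟩
        · intro hz
          rw [← h2] at hz
          obtain ⟨z', hz', hzz⟩ := hz
          have h3 : z' = z := (MulAut.conj x).injective hzz
          rwa [← h3]
    have hWne : W.map E.subtype ≠ ⊥ := by
      rw [Ne, Subgroup.map_eq_bot_iff_of_injective _ E.subtype_injective]
      exact hWb
    obtain ⟨Z, hZW, hZc, hZp⟩ :=
      Cfsg.Agent.Transfer.TausskyTwoGroup.exists_central_card_prime_le hGp (W.map E.subtype) hWne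
    -- the kernel of `δ` on `W` has order at least `p`
    have h1 := ((δ.comp W.subtype).ker).card_mul_index
    rw [Subgroup.index_ker] at h1
    have h2 : (δ.comp W.subtype).range = W.map δ := by
      rw [MonoidHom.range_comp, Subgroup.range_subtype]
    rw [h2] at h1
    rw [← h1]
    apply Nat.mul_le_mul_right
    rw [← hZp]
    have hmem : ∀ z : Z, ∃ w : (δ.comp W.subtype).ker, (((w : W) : E) : G) = z := by
      intro z
      obtain ⟨w, hw, hwz⟩ := hZW z.2
      refine ⟨⟨⟨w, hw⟩, ?_⟩, hwz⟩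
      show δ w = 1
      apply Subtype.ext
      rw [hδ]
      have h3 := Subgroup.mem_center_iff.1 (hZc z.2) x
      have h4 : (w : G) = z := hwz
      rw [h4, h3, mul_inv_cancel_right, inv_mul_cancel]
      rfl
    choose f hf using hmem
    exact Nat.card_le_card_of_injective f (fun a b hab => Subtype.ext (by rw [← hf a, ← hf b, hab]))
  have hpos := hp.out.pos
  have h3 : δ v2 = 1 := by
    have hle : ∀ W : Subgroup E, W.map δ ≤ W → (W.map δ).map δ ≤ W.map δ := fun W hW => Subgroup.map_mono hW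
    have m0 : (⊤ : Subgroup E).map δ ≤ ⊤ := le_top
    have m1 := hle _ m0
    have m2 := hle _ m1
    have m3 := hle _ m2
    have hv1m : v1 ∈ (⊤ : Subgroup E).map δ := ⟨v0, Subgroup.mem_top _, rfl⟩
    have hv2m : v2 ∈ ((⊤ : Subgroup E).map δ).map δ := ⟨v1, hv1m, rfl⟩
    have hv3m : δ v2 ∈ (((⊤ : Subgroup E).map δ).map δ).map δ := ⟨v2, hv2m, rfl⟩
    have hb : ((((⊤ : Subgroup E).map δ).map δ).map δ) = ⊥ := by
      rcases hstep _ m0 with h | h
      · rw [h, Subgroup.mem_map] at hv1m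
        obtain ⟨a, ha, ha'⟩ := hv1m
        rw [Subgroup.mem_bot] at ha
        rw [ha, map_one] at ha'
        rw [← ha', map_one] at hv2
        exact (hv2ne hv2).elim
      · rcases hstep _ m1 with h' | h'
        · rw [h', Subgroup.map_bot, Subgroup.map_bot]
        · rcases hstep _ m2 with h'' | h''
          · rw [h'', Subgroup.map_bot]
          · rw [Subgroup.card_top, hE3] at h
            apply Subgroup.eq_bot_of_card_le
            set c1 := Nat.card ((⊤ : Subgroup E).map δ)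
            set c2 := Nat.card (((⊤ : Subgroup E).map δ).map δ)
            set c3 := Nat.card ((((⊤ : Subgroup E).map δ).map δ).map δ)
            have e1 : p * (p * (p * c3)) ≤ p ^ 3 :=
              (Nat.mul_le_mul_left p ((Nat.mul_le_mul_left p h'').trans h')).trans h
            have e2 : p ^ 3 * c3 ≤ p ^ 3 * 1 := by
              calc p ^ 3 * c3 = p * (p * (p * c3)) := by ring
                _ ≤ p ^ 3 * 1 := by rw [mul_one]; exact e1
            exact Nat.le_of_mul_le_mul_left e2 (Nat.pow_pos hpos)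
    rw [hb, Subgroup.mem_bot] at hv3m
    exact hv3m
  have D : Data p (v0 : G) (v1 : G) (v2 : G) x :=
    { h0 := hEp _ v0.2
      h1 := hEp _ v1.2
      h2 := hEp _ v2.2
      hx := hx
      c01 := hEc _ v0.2 _ v1.2
      c02 := hEc _ v0.2 _ v2.2
      c12 := hEc _ v1.2 _ v2.2
      x0 := by
        have h4 : (v1 : G) = (v0 : G)⁻¹ * (x * v0 * x⁻¹) := hδ v0
        rw [h4]
        group
      x1 := by
        have h4 : (v2 : G) = (v1 : G)⁻¹ * (x * v1 * x⁻¹) := hδ v1
        rw [h4]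
        group
      x2 := by
        have h4 := congrArg Subtype.val h3
        rw [hδ] at h4
        have h5 : (v2 : G)⁻¹ * (x * v2 * x⁻¹) = 1 := h4
        rw [inv_mul_eq_one] at h5
        exact h5.symm }
  refine iso_sylow_sp4 D hp2 ?_ hcard
  intro h
  exact hv2ne (Subtype.ext h)

end Cfsg.Agent.H767.Sp4Syl
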