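import Cfsg.Agent.H767.EssFrat
import Cfsg.Agent.S0014
import Cfsg.Agent.Lib.FrattiniPGroup
import Cfsg.Agent.Transfer.TausskyTwoGroup

/-!
# Basic lemmas on finite `p`-groups for the two-essentials theorem (helper767)
-/

set_option autoImplicit false
set_option linter.unusedSectionVars false
set_option linter.unusedVariables false

namespace Cfsg.Agent.H767.TE

open Subgroup
open scoped commutatorElement

variable {S : Type*} [Group S] [Finite S] {p : ℕ} [hp : Fact p.Prime]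

theorem exists_pow_sq (hS : IsPGroup p S) (h2 : p ≠ 2) (m : S) : ∃ n : ℕ, (m * m) ^ n = m := by
  have hcop : Nat.Coprime 2 (orderOf m) := by
    obtain ⟨k, hk⟩ := (IsPGroup.iff_orderOf.1 hS) m
    rw [hk]
    apply Nat.Coprime.pow_right
    rw [Nat.coprime_primes Nat.prime_two hp.out]
    exact Ne.symm h2
  obtain ⟨n, hn⟩ := exists_pow_eq_self_of_coprime (x := m) (n := 2) hcop
  exact ⟨n, by rw [← pow_two]; exact hn⟩

theorem sq_mem (hS : IsPGroup p S) (h2 : p ≠ 2) {N : Subgroup S} {m : S} (h : m * m ∈ N) : m ∈ N := by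
  obtain ⟨n, hn⟩ := exists_pow_sq hS h2 m
  have h1 := pow_mem h n
  rwa [hn] at h1

/-- If `τ` inverts and centralises `m` modulo `N`, then `m ∈ N`. -/
theorem mem_of_inv_cent (hS : IsPGroup p S) (h2 : p ≠ 2) {N : Subgroup S} {m t : S} (h1 : t * m ∈ N)
    (h3 : t * m⁻¹ ∈ N) : m ∈ N := by
  apply sq_mem hS h2
  have := N.mul_mem (N.inv_mem h3) h1
  have e : (t * m⁻¹)⁻¹ * (t * m) = m * m := by group
  rwa [e] at this

/-- A subgroup between. -/
theorem between {N X M : Subgroup S} (h1 : N ≤ X) (h2 : X ≤ M) (h : N.relIndex M ∣ p) : X = N ∨ X = M := by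
  have h3 := Subgroup.relIndex_mul_relIndex N X M h1 h2
  rw [← h3] at h
  rcases (Nat.dvd_prime hp.out).1 (dvd_of_mul_right_dvd h) with h4 | h4
  · left
    rw [Subgroup.relIndex_eq_one] at h4
    exact le_antisymm h4 h1
  · right
    have h5 : X.relIndex M = 1 := by
      rw [h4] at h
      have h6 : p * X.relIndex M ∣ p * 1 := by rwa [mul_one]
      exact Nat.dvd_one.1 (Nat.dvd_of_mul_dvd_mul_left hp.out.pos h6)
    rw [Subgroup.relIndex_eq_one] at h5
    exact le_antisymm h2 h5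

/-- `[M, S]N` is smaller than `M`. -/
theorem comm_ne (hS : IsPGroup p S) {N M : Subgroup S} [hN : N.Normal] [hM : M.Normal] (hle : N ≤ M) (hne : N ≠ M) :
    ⁅M, (⊤ : Subgroup S)⁆ ⊔ N ≠ M := by
  intro h
  have hnil : Group.IsNilpotent S := hS.isNilpotent
  obtain ⟨n, hn⟩ := _root_.nilpotent_iff_lowerCentralSeries.1 hnil
  have key : ∀ k : ℕ, M ≤ (⊤ : Subgroup S).lowerCentralSeries k ⊔ N := by
    intro k
    induction k with
    | zero =>
      rw [Subgroup.lowerCentralSeries_zero, top_sup_eq]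
      exact le_top
    | succ k ih =>
      rw [← h]
      refine sup_le ?_ le_sup_right
      rw [Subgroup.commutator_le]
      intro a ha b _
      obtain ⟨l, hl, m, hm, rfl⟩ := Subgroup.mem_sup_of_normal_right.1 (ih ha)
      have e : ⁅l * m, b⁆ = l * ⁅m, b⁆ * l⁻¹ * ⁅l, b⁆ := by
        rw [commutatorElement_def, commutatorElement_def, commutatorElement_def]
        group
      rw [e]
      have h1 : ⁅m, b⁆ ∈ N := by
        rw [commutatorElement_def]
        have e2 : m * b * m⁻¹ * b⁻¹ = m * (b * m⁻¹ * b⁻¹) := by group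
        rw [e2]
        exact N.mul_mem hm (hN.conj_mem _ (N.inv_mem hm) _)
      have h2 : ⁅l, b⁆ ∈ (⊤ : Subgroup S).lowerCentralSeries (k + 1) := by
        rw [Subgroup.lowerCentralSeries_succ]
        exact Subgroup.subset_closure ⟨l, hl, b, mem_top b, rfl⟩
      exact mul_mem ((le_sup_right : N ≤ _) (hN.conj_mem _ h1 _)) ((le_sup_left : (⊤ : Subgroup S).lowerCentralSeries (k + 1) ≤ _) h2)
  have h1 := key n
  rw [hn, bot_sup_eq] at h1
  exact hne (le_antisymm hle h1)

/-- the `p`-group centralises normal sections of order `p` -/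
theorem comm_mem_of_prime (hS : IsPGroup p S) {N M : Subgroup S} [hN : N.Normal] [hM : M.Normal] (hle : N ≤ M)
    (hidx : N.relIndex M ∣ p) {m : S} (hm : m ∈ M) (s : S) : ⁅m, s⁆ ∈ N := by
  by_cases hne : N = M
  · rw [commutatorElement_def]
    have e2 : m * s * m⁻¹ * s⁻¹ = m * (s * m⁻¹ * s⁻¹) := by group
    rw [e2, hne]
    exact M.mul_mem hm (hM.conj_mem _ (M.inv_mem hm) _)
  · have h1 := comm_ne hS hle hne
    have h2 : ⁅M, (⊤ : Subgroup S)⁆ ≤ M := by
      rw [Subgroup.commutator_le]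
      intro a ha b _
      rw [commutatorElement_def]
      have e2 : a * b * a⁻¹ * b⁻¹ = a * (b * a⁻¹ * b⁻¹) := by group
      rw [e2]
      exact M.mul_mem ha (hM.conj_mem _ (M.inv_mem ha) _)
    rcases between (X := ⁅M, (⊤ : Subgroup S)⁆ ⊔ N) le_sup_right (sup_le h2 hle) hidx with h3 | h3
    · have h4 : ⁅m, s⁆ ∈ ⁅M, (⊤ : Subgroup S)⁆ ⊔ N :=
        (le_sup_left : ⁅M, (⊤ : Subgroup S)⁆ ≤ _) (commutator_mem_commutator hm (mem_top s))
      rwa [h3] at h4
    · exact (h1 h3).elim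

/-! ### The Frattini subgroup of a subgroup -/

/-- the Frattini subgroup of `E` as a subgroup of `S` -/
def Fr (E : Subgroup S) : Subgroup S := (frattini E).map E.subtype

theorem Fr_le (E : Subgroup S) : Fr E ≤ E := Subgroup.map_subtype_le _

theorem mem_Fr {E : Subgroup S} {x : E} : (x : S) ∈ Fr E ↔ x ∈ frattini E := by
  constructor
  · rintro ⟨y, hy, hxy⟩
    have : y = x := Subtype.ext hxy
    rwa [← this]
  · intro h
    exact ⟨x, h, rfl⟩

theorem comm_mem_Fr (hS : IsPGroup p S) {E : Subgroup S} {a b : S} (ha : a ∈ E) (hb : b ∈ E) :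
    ⁅a, b⁆ ∈ Fr E := by
  have h := Cfsg.Agent.S0014.commutator_mem_frattini (hS.to_subgroup E) (⟨a, ha⟩ : E) ⟨b, hb⟩
  rw [← mem_Fr] at h
  exact h

theorem pow_mem_Fr (hS : IsPGroup p S) {E : Subgroup S} {a : S} (ha : a ∈ E) :
    a ^ p ∈ Fr E := by
  have h := Cfsg.Agent.S0014.pow_mem_frattini (hS.to_subgroup E) (⟨a, ha⟩ : E)
  rw [← mem_Fr] at h
  exact h

theorem Fr_le_of (hS : IsPGroup p S) {E N : Subgroup S} (hle : N ≤ E)
    (hc : ∀ a ∈ E, ∀ b ∈ E, ⁅a, b⁆ ∈ N) (hpow : ∀ a ∈ E, a ^ p ∈ N) : Fr E ≤ N := by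
  have hn : (N.subgroupOf E).Normal := by
    refine ⟨fun n hn g => ?_⟩
    rw [Subgroup.mem_subgroupOf] at hn ⊢
    have h1 := hc g g.2 n n.2
    rw [commutatorElement_def] at h1
    have h2 := N.mul_mem h1 hn
    rwa [inv_mul_cancel_right] at h2
  have h := Cfsg.Agent.Lib.FrattiniPGroup.frattini_le (p := p) (N.subgroupOf E)
    (fun a b => by
      rw [Subgroup.mem_subgroupOf]
      exact hc a a.2 b b.2)
    (fun a => by
      rw [Subgroup.mem_subgroupOf]
      exact hpow a a.2)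
  rintro _ ⟨x, hx, rfl⟩
  exact h hx

theorem Fr_mono (hS : IsPGroup p S) {E M : Subgroup S} (h : E ≤ M) : Fr E ≤ Fr M ⊓ E := by
  refine Fr_le_of hS inf_le_right (fun a ha b hb => ⟨comm_mem_Fr hS (h ha) (h hb), ?_⟩)
    (fun a ha => ⟨pow_mem_Fr hS (h ha), E.pow_mem ha p⟩)
  show ⁅a, b⁆ ∈ E
  rw [commutatorElement_def]
  exact E.mul_mem (E.mul_mem (E.mul_mem ha hb) (E.inv_mem ha)) (E.inv_mem hb)

theorem Fr_mono' (hS : IsPGroup p S) {E M : Subgroup S} (h : E ≤ M) : Fr E ≤ Fr M :=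
  (Fr_mono hS h).trans inf_le_left

instance Fr_normal {E : Subgroup S} [hE : E.Normal] : (Fr E).Normal := by
  refine ⟨?_⟩
  rintro _ ⟨x, hx, rfl⟩ g
  have h1 : (frattini E).Characteristic := inferInstance
  rw [Subgroup.characteristic_iff_map_le] at h1
  exact ⟨MulAut.conjNormal g x, h1 (MulAut.conjNormal g) ⟨x, hx, rfl⟩, MulAut.conjNormal_apply g x⟩

/-- The Frattini subgroup consists of nongenerators. -/
theorem eq_of_sup_Fr {M E : Subgroup S} (hM : M ≤ E) (h : M ⊔ Fr E = E) : M = E := by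
  have h1 : M.subgroupOf E ⊔ frattini E = ⊤ := by
    rw [eq_top_iff]
    intro x _
    have h2 : (M ⊔ Fr E).subgroupOf E = M.subgroupOf E ⊔ (Fr E).subgroupOf E :=
      Subgroup.subgroupOf_sup hM (Fr_le E)
    have h3 : (Fr E).subgroupOf E = frattini E := by
      ext y
      rw [Subgroup.mem_subgroupOf]
      exact mem_Fr
    rw [← h3, ← h2, h, Subgroup.mem_subgroupOf]
    exact x.2
  have h2 := frattini_nongenerating h1
  apply le_antisymm hM
  intro x hx
  have h3 : (⟨x, hx⟩ : E) ∈ M.subgroupOf E := by rw [h2]; exact mem_top _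
  exact h3

theorem Fr_ne (hS : IsPGroup p S) {E : Subgroup S} (hE : E ≠ ⊥) : Fr E ≠ E := by
  intro h
  apply hE
  have := eq_of_sup_Fr (M := ⊥) (E := E) bot_le (by rw [bot_sup_eq, h])
  exact this.symm

theorem Fr_map {E : Subgroup S} (φ : MulAut S) (hφ : E.map φ.toMonoidHom = E) : (Fr E).map φ.toMonoidHom = Fr E := by
  have hle : ∀ (ψ : MulAut S), E.map ψ.toMonoidHom = E → (Fr E).map ψ.toMonoidHom ≤ Fr E := by
    intro ψ hψ
    have hm : ∀ x ∈ E, ψ x ∈ E := fun x hx => by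
      rw [← hψ]
      exact ⟨x, hx, rfl⟩
    let f : E →* E := (ψ.toMonoidHom.comp E.subtype).codRestrict E (fun x => hm x x.2)
    have hf : Function.Bijective f := by
      have hi : Function.Injective f := fun a b hab => Subtype.ext (ψ.injective (congrArg Subtype.val hab))
      exact (Finite.injective_iff_bijective).1 hi
    have h1 : (frattini E).Characteristic := inferInstance
    rw [Subgroup.characteristic_iff_map_le] at h1
    rintro _ ⟨_, ⟨x, hx, rfl⟩, rfl⟩
    exact ⟨f x, h1 (MulEquiv.ofBijective f hf) ⟨x, hx, rfl⟩, rfl⟩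
  apply le_antisymm (hle φ hφ)
  have h2 := hle φ⁻¹ (by
    have h3 := congrArg (Subgroup.map (φ⁻¹ : MulAut S).toMonoidHom) hφ
    rw [Subgroup.map_map] at h3
    have h4 : ((φ⁻¹ : MulAut S).toMonoidHom).comp φ.toMonoidHom = MonoidHom.id S := by
      ext x
      exact MulAut.inv_apply_self S φ x
    rw [h4, Subgroup.map_id] at h3
    exact h3.symm)
  intro x hx
  refine ⟨φ⁻¹ x, h2 ⟨x, hx, rfl⟩, ?_⟩
  exact MulAut.apply_inv_self S φ x

end Cfsg.Agent.H767.TE
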