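import Cfsg.Agent.H767.TEElimNN

/-!
# A maximal subgroup of natural type and one of regular type (helper767)
-/

set_option autoImplicit false
set_option linter.unusedSectionVars false
set_option linter.unusedVariables false

namespace Cfsg.Agent.H767.TE

open Subgroup
open scoped commutatorElement

variable {S : Type*} [Group S] [Finite S] {p : ℕ} [hp : Fact p.Prime]

variable {E1 E2 : Subgroup S} [hE1 : E1.Normal] [hE2 : E2.Normal] {A1 : Subgroup (MulAut E1)} {A2 : Subgroup (MulAut E2)}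
  {B : Subgroup (MulAut S)} {K W : Subgroup S} {τ : MulAut S}

theorem relIndex_le_of_surj {X M N U : Subgroup S} (f : S → S) (hf : ∀ x ∈ X, f x ∈ M) (hNM : N.Normal)
    (hmul : ∀ x ∈ X, ∀ y ∈ X, (f (x * y))⁻¹ * (f x * f y) ∈ N) (hker : ∀ x ∈ X, x ∈ U → f x ∈ N)
    (hsurj : ∀ m ∈ M, ∃ x ∈ X, (f x)⁻¹ * m ∈ N) : N.relIndex M ≤ U.relIndex X := by
  have : (N.subgroupOf M).Normal := hNM.subgroupOf M
  let g : X →* M ⧸ N.subgroupOf M :=
    MonoidHom.mk' (fun x => QuotientGroup.mk ⟨f x, hf x x.2⟩) (fun x y => by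
      rw [← QuotientGroup.mk_mul, QuotientGroup.eq, Subgroup.mem_subgroupOf]
      exact hmul x x.2 y y.2)
  have h1 : U.subgroupOf X ≤ g.ker := by
    intro x hx
    rw [Subgroup.mem_subgroupOf] at hx
    show (QuotientGroup.mk (⟨f x, hf x x.2⟩ : M) : M ⧸ N.subgroupOf M) = 1
    rw [QuotientGroup.eq_one_iff, Subgroup.mem_subgroupOf]
    exact hker x x.2 hx
  have h2 : g.ker.index ≤ (U.subgroupOf X).index :=
    Nat.le_of_dvd (Nat.pos_of_ne_zero (Subgroup.index_ne_zero_of_finite)) (Subgroup.index_dvd_of_le h1)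
  have h3 : Function.Surjective g := by
    intro q
    induction q using QuotientGroup.induction_on with
    | H m =>
      obtain ⟨x, hx, hxm⟩ := hsurj m m.2
      refine ⟨⟨x, hx⟩, ?_⟩
      show (QuotientGroup.mk (⟨f x, hf x hx⟩ : M) : M ⧸ N.subgroupOf M) = QuotientGroup.mk m
      rw [QuotientGroup.eq, Subgroup.mem_subgroupOf]
      exact hxm
  rw [Subgroup.index_ker, MonoidHom.range_eq_top.2 h3, Subgroup.card_top] at h2
  exact h2

/-- the basic setup -/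
theorem nr_setup (D1 : EssData p E1 A1 B) (D2 : EssData p E2 A2 B) (hne : E1 ≠ E2) (hS : IsPGroup p S) (h2 : p ≠ 2)
    (N1 : NT p E1 A1 B K W τ) (R2 : RT p E2 A2) : K ≤ E1 ⊓ E2 ∧ G1 E2 = E1 ⊓ E2 ∧ G2 E2 = K := by
  have hKn := N1.invK.normal D1
  have hK : K ≤ E1 ⊓ E2 := by
    rcases N1.cases D1 hS h2 inf_le_left (Fr_le_inf D1 D2 hS) (pair_idx1 D1 D2 hne) (fun d hd => pair_tau1 D1 D2 N1.mem hd) with h | h
    · exact h
    · exact (no_W_reg D1 D2 hne hS h2 N1 h R2).elim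
  have hG1 : G1 E2 = E1 ⊓ E2 := by
    refine R2.eq_G1 D2 hS ?_ inf_le_right (pair_idx2 D1 D2 hne)
    rw [inf_comm]
    exact Fr_le_inf D2 D1 hS
  have hidx : K.relIndex (E1 ⊓ E2) = p := idxKF D1 D2 hne N1 hK
  have hFr2 : Fr E2 ≤ K := by
    refine Fr_le_of hS (hK.trans inf_le_right) ?_ (fun a _ => N1.pow D1 hS h2 a)
    refine abel_of_index (D := E1 ⊓ E2) inf_le_right (dvd_of_eq (pair_idx2 D1 D2 hne)) ?_
    intro d hd e he
    exact comm_mem_of_prime hS hK (dvd_of_eq hidx) hd e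
  refine ⟨hK, hG1, ?_⟩
  refine R2.eq_G2 D2 hS hFr2 ?_ ?_
  · rw [hG1]
    exact hK
  · rw [hG1]
    exact hidx

/-- `τ` is trivial on `K/Φ(E₂)`. -/
theorem nr_triv (D1 : EssData p E1 A1 B) (D2 : EssData p E2 A2 B) (hne : E1 ≠ E2) (hS : IsPGroup p S) (h2 : p ≠ 2)
    (N1 : NT p E1 A1 B K W τ) (R2 : RT p E2 A2) : ∀ k ∈ K, k⁻¹ * τ k ∈ Fr E2 := by
  obtain ⟨hK, hG1, hG2⟩ := nr_setup D1 D2 hne hS h2 N1 R2
  have hKn := N1.invK.normal D1
  have hF2n : (Fr E2).Normal := Fr_normal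
  have hF2K : Fr E2 ≤ K := by
    rw [← hG2]
    exact Fr_le_G2
  have hidx : (Fr E2).relIndex K = p := by
    rw [← hG2]
    exact (R2.chain D2 hS).2.2
  have hcK : ∀ k ∈ K, ∀ s, ⁅k, s⁆ ∈ Fr E2 := fun k hk s => comm_mem_of_prime hS hF2K (dvd_of_eq hidx) hk s
  have hidxF : K.relIndex (E1 ⊓ E2) = p := idxKF D1 D2 hne N1 hK
  have hcF : ∀ d ∈ E1 ⊓ E2, ∀ s, ⁅d, s⁆ ∈ K := fun d hd s => comm_mem_of_prime hS hK (dvd_of_eq hidxF) hd s
  let P : Subgroup S :=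
    { carrier := {d | d ∈ K ∧ d⁻¹ * τ d ∈ Fr E2}
      mul_mem' := by
        rintro a b ⟨ha, ha'⟩ ⟨hb, hb'⟩
        refine ⟨K.mul_mem ha hb, ?_⟩
        have e1 : (a * b)⁻¹ * τ (a * b) = b⁻¹ * (a⁻¹ * τ a) * b⁻¹⁻¹ * (b⁻¹ * τ b) := by
          rw [map_mul]
          group
        rw [e1]
        exact (Fr E2).mul_mem (hF2n.conj_mem _ ha' _) hb'
      one_mem' := ⟨K.one_mem, by
        rw [map_one, inv_one, one_mul]
        exact (Fr E2).one_mem⟩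
      inv_mem' := by
        rintro a ⟨ha, ha'⟩
        refine ⟨K.inv_mem ha, ?_⟩
        have e1 : a⁻¹⁻¹ * τ a⁻¹ = a * (a⁻¹ * τ a)⁻¹ * a⁻¹ := by
          rw [map_inv]
          group
        rw [e1]
        exact hF2n.conj_mem _ ((Fr E2).inv_mem ha') _ }
  have hFP : Fr E2 ≤ P := fun k hk => ⟨hF2K hk, (Fr E2).mul_mem ((Fr E2).inv_mem hk) (Inv.self.Fr.map D2 N1.mem hk)⟩
  have hKP : K ≤ P := by
    rw [← hG2]
    refine sup_le ?_ hFP
    rw [Subgroup.commutator_le]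
    intro d hd s _
    rw [hG1] at hd
    obtain ⟨a, ha, b, hb, rfl⟩ := pair_mul D1 D2 hne s
    have e1 : ⁅d, a * b⁆ = ⁅d, a⁆ * (a * ⁅d, b⁆ * a⁻¹) := by
      rw [commutatorElement_def, commutatorElement_def, commutatorElement_def]
      group
    rw [e1]
    refine P.mul_mem ?_ (hFP (hF2n.conj_mem _ (comm_mem_Fr hS hd.2 hb) a))
    refine ⟨hcF d hd a, ?_⟩
    rw [← QuotientGroup.eq, map_commutatorElement]
    show ⁅(QuotientGroup.mk d : S ⧸ Fr E2), (QuotientGroup.mk a : S ⧸ Fr E2)⁆ =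
      ⁅(QuotientGroup.mk (τ d) : S ⧸ Fr E2), (QuotientGroup.mk (τ a) : S ⧸ Fr E2)⁆
    have q1 : (QuotientGroup.mk (τ d) : S ⧸ Fr E2) = QuotientGroup.mk (τ d * d) * (QuotientGroup.mk d)⁻¹ := by
      rw [QuotientGroup.mk_mul, mul_inv_cancel_right]
    have q2 : (QuotientGroup.mk (τ a) : S ⧸ Fr E2) = QuotientGroup.mk (τ a * a) * (QuotientGroup.mk a)⁻¹ := by
      rw [QuotientGroup.mk_mul, mul_inv_cancel_right]
    have k1 : ∀ z : S, Commute (QuotientGroup.mk (τ d * d) : S ⧸ Fr E2) (QuotientGroup.mk z) :=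
      fun z => mk_comm (hcK _ (N1.negE D1 hd.1) z)
    have l1 : ∀ z : S, Commute (QuotientGroup.mk (τ a * a) : S ⧸ Fr E2) (QuotientGroup.mk z) :=
      fun z => mk_comm (hcK _ (N1.negE D1 ha) z)
    have m1 : ∀ z : S, Commute ⁅(QuotientGroup.mk d : S ⧸ Fr E2), (QuotientGroup.mk a : S ⧸ Fr E2)⁆ (QuotientGroup.mk z) :=
      fun z => mk_comm (hcK _ (hcF d hd a) z)
    rw [q1, q2]
    have k2 := k1 d
    have k3 := k1 a
    have k4 := k1 (τ a * a)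
    have l2 := l1 d
    have l3 := l1 a
    have m2 := m1 d
    have m3 := m1 a
    set k : S ⧸ Fr E2 := QuotientGroup.mk (τ d * d)
    set l : S ⧸ Fr E2 := QuotientGroup.mk (τ a * a)
    set x : S ⧸ Fr E2 := QuotientGroup.mk d
    set y : S ⧸ Fr E2 := QuotientGroup.mk a
    symm
    have f1 : Commute k (x⁻¹ * (l * y⁻¹) * x) := (k2.inv_right.mul_right (k4.mul_right k3.inv_right)).mul_right k2
    have f4 : Commute l (x⁻¹ * y⁻¹ * x * y) := ((l2.inv_right.mul_right l3.inv_right).mul_right l2).mul_right l3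
    have f3 : Commute ⁅x, y⁆ (y * x) := m3.mul_right m2
    calc ⁅k * x⁻¹, l * y⁻¹⁆ = k * (x⁻¹ * (l * y⁻¹) * x) * k⁻¹ * (l * y⁻¹)⁻¹ := by
          rw [commutatorElement_def]; group
      _ = x⁻¹ * (l * y⁻¹) * x * (l * y⁻¹)⁻¹ := by rw [f1.eq, mul_inv_cancel_right]
      _ = (x⁻¹ * l) * y⁻¹ * x * y * l⁻¹ := by group
      _ = l * (x⁻¹ * y⁻¹ * x * y) * l⁻¹ := by rw [← l2.inv_right.eq]; group
      _ = x⁻¹ * y⁻¹ * x * y := by rw [f4.eq, mul_inv_cancel_right]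
      _ = (y * x)⁻¹ * (⁅x, y⁆ * (y * x)) := by rw [commutatorElement_def]; group
      _ = ⁅x, y⁆ := by rw [f3.eq, inv_mul_cancel_left]
  intro k hk
  exact (hKP hk).2

/-! ### Case A: `K = Φ(E₁)` -/

/-- `Φ(E₂)` is invariant under `A₁` if `K = Φ(E₁)`. -/
theorem nr_A_inv (D1 : EssData p E1 A1 B) (D2 : EssData p E2 A2 B) (hne : E1 ≠ E2) (hS : IsPGroup p S) (h2 : p ≠ 2)
    (N1 : NT p E1 A1 B K W τ) (R2 : RT p E2 A2) (hA : K = Fr E1) : Inv A1 (Fr E2) := by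
  obtain ⟨hK, hG1, hG2⟩ := nr_setup D1 D2 hne hS h2 N1 R2
  have hKn := N1.invK.normal D1
  have hF2n : (Fr E2).Normal := Fr_normal
  have hFKn : (Fr K).Normal := Fr_normal
  have hF2K : Fr E2 ≤ K := by
    rw [← hG2]
    exact Fr_le_G2
  have hidx : (Fr E2).relIndex K = p := by
    rw [← hG2]
    exact (R2.chain D2 hS).2.2
  have hidxF : K.relIndex (E1 ⊓ E2) = p := idxKF D1 D2 hne N1 hK
  have htriv := nr_triv D1 D2 hne hS h2 N1 R2
  -- `M₁ = [K,E₁]Φ(K)`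
  set M1 := ⁅K, E1⁆ ⊔ Fr K with hM1
  have hM1i : Inv A1 M1 := (N1.invK.comm Inv.self).sup N1.invK.Fr
  have hM1n := hM1i.normal D1
  have hKE1 : K ≤ E1 := N1.invK.le
  have hKE2 : K ≤ E2 := hK.trans inf_le_right
  have hM1T : M1 ≤ Fr E2 := by
    refine sup_le ?_ ?_
    · exact (Subgroup.commutator_mono le_rfl le_top).trans (comm1 hS hF2K hidx.le)
    · refine Fr_le_of hS hF2K (fun a ha b hb => comm_mem_Fr hS (hKE2 ha) (hKE2 hb)) (fun a ha => pow_mem_Fr hS (hKE2 ha))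
  have hcM : ∀ e ∈ E1, ∀ k ∈ K, ⁅e, k⁆ ∈ M1 := by
    intro e he k hk
    apply cm_symm
    exact (le_sup_left : _ ≤ ⁅K, E1⁆ ⊔ Fr K) (Subgroup.commutator_mem_commutator hk he)
  set U := ct K τ M1 with hU
  have hUi : Inv A1 U := N1.ct_inv D1 N1.invK hM1i hcM
  have hUn := hUi.normal D1
  have hUT : U ≤ Fr E2 := ct_le hM1T htriv
  have hMU : M1 ≤ U := le_ct
  have hUK : U ≤ K := hUT.trans hF2K
  have hcU : ∀ e ∈ E1, ∀ k ∈ K, ⁅e, k⁆ ∈ U := fun e he k hk => hMU (hcM e he k hk)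
  -- `p`-th powers
  have hpow : ∀ e ∈ E1, e ^ p ∈ U := by
    intro e he
    have hepK : e ^ p ∈ K := N1.pow D1 hS h2 e
    have h1 : (e ^ p)⁻¹ * τ (e ^ p) ∈ U := mem_ct hepK
    have hk : τ e * e ∈ K := N1.negE D1 he
    have c : Commute (QuotientGroup.mk (τ e * e) : S ⧸ U) (QuotientGroup.mk e) := mk_comm (cm_symm (hcU e he _ hk))
    have h3 : (QuotientGroup.mk (τ e) : S ⧸ U) ^ p = ((QuotientGroup.mk e : S ⧸ U) ^ p)⁻¹ := by
      have q1 : (QuotientGroup.mk (τ e) : S ⧸ U) = QuotientGroup.mk (τ e * e) * (QuotientGroup.mk e)⁻¹ := by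
        rw [QuotientGroup.mk_mul, mul_inv_cancel_right]
      have q2 : (QuotientGroup.mk (τ e * e) : S ⧸ U) ^ p = 1 :=
        (QuotientGroup.eq_one_iff _).2 (hMU ((le_sup_right : Fr K ≤ ⁅K, E1⁆ ⊔ Fr K) (pow_mem_Fr hS hk)))
      rw [q1, c.inv_right.mul_pow, q2, one_mul, inv_pow]
    apply sq_mem hS h2
    have h4 : (QuotientGroup.mk (τ (e ^ p)) : S ⧸ U) = QuotientGroup.mk (e ^ p) := ((QuotientGroup.eq).2 h1).symm
    rw [map_pow, QuotientGroup.mk_pow, QuotientGroup.mk_pow, h3] at h4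
    apply (QuotientGroup.eq_one_iff (N := U) _).1
    rw [QuotientGroup.mk_mul, QuotientGroup.mk_pow]
    nth_rewrite 1 [← h4]
    exact inv_mul_cancel _
  -- commutators
  set V := ⁅E1, E1 ⊓ E2⁆ ⊔ U with hV
  have hVn : V.Normal := inferInstance
  have hUV : U ≤ V := le_sup_right
  have hVE : V ≤ E1 := sup_le (Subgroup.commutator_le_left E1 _) hUi.le
  have hKV : K ≤ V := by
    rw [hA]
    refine Fr_le_of hS hVE ?_ (fun a ha => hUV (hpow a ha))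
    refine abel_of_index (D := E1 ⊓ E2) inf_le_left (dvd_of_eq (pair_idx1 D1 D2 hne)) ?_
    intro d hd e he
    exact cm_symm ((le_sup_left : _ ≤ ⁅E1, E1 ⊓ E2⁆ ⊔ U) (Subgroup.commutator_mem_commutator he hd))
  -- an element outside `E₁ ∩ E₂`
  obtain ⟨x, hxE, hxF⟩ : ∃ x ∈ E1, x ∉ E1 ⊓ E2 := by
    by_contra hcon
    push Not at hcon
    have h3 : (E1 ⊓ E2).relIndex E1 = 1 := by
      rw [Subgroup.relIndex_eq_one]
      exact hcon
    rw [pair_idx1 D1 D2 hne] at h3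
    exact hp.out.one_lt.ne' h3
  have hx2 : x ∉ E2 := fun h => hxF ⟨hxE, h⟩
  have hEK : ∀ a ∈ E1, ∀ b ∈ E1, ⁅a, b⁆ ∈ K := fun a ha b hb => N1.frK (comm_mem_Fr hS ha hb)
  -- the map `d ↦ [x,d]`
  have hmul : ∀ d ∈ E1 ⊓ E2, ∀ d' ∈ E1 ⊓ E2, (⁅x, d * d'⁆)⁻¹ * (⁅x, d⁆ * ⁅x, d'⁆) ∈ U := by
    intro d hd d' hd'
    rw [← QuotientGroup.eq]
    show ⁅(QuotientGroup.mk x : S ⧸ U), (QuotientGroup.mk d : S ⧸ U) * (QuotientGroup.mk d' : S ⧸ U)⁆ =
      ⁅(QuotientGroup.mk x : S ⧸ U), (QuotientGroup.mk d : S ⧸ U)⁆ * ⁅(QuotientGroup.mk x : S ⧸ U), (QuotientGroup.mk d' : S ⧸ U)⁆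
    have m1 : Commute ⁅(QuotientGroup.mk x : S ⧸ U), (QuotientGroup.mk d' : S ⧸ U)⁆ (QuotientGroup.mk d) :=
      mk_comm (cm_symm (hcU d hd.1 _ (hEK x hxE d' hd'.1)))
    set a : S ⧸ U := QuotientGroup.mk x
    set b : S ⧸ U := QuotientGroup.mk d
    set c : S ⧸ U := QuotientGroup.mk d'
    calc ⁅a, b * c⁆ = ⁅a, b⁆ * (b * ⁅a, c⁆ * b⁻¹) := by
          rw [commutatorElement_def, commutatorElement_def, commutatorElement_def]; group
      _ = ⁅a, b⁆ * ⁅a, c⁆ := by rw [← m1.eq, mul_inv_cancel_right]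
  -- the subgroup of all `[x,d]`
  let V' : Subgroup S :=
    { carrier := {z | ∃ d ∈ E1 ⊓ E2, (⁅x, d⁆)⁻¹ * z ∈ U}
      mul_mem' := by
        rintro a b ⟨d, hd, ha⟩ ⟨d', hd', hb⟩
        refine ⟨d * d', (E1 ⊓ E2).mul_mem hd hd', ?_⟩
        have h1 := hmul d hd d' hd'
        rw [← QuotientGroup.eq] at ha hb h1 ⊢
        rw [h1, QuotientGroup.mk_mul, QuotientGroup.mk_mul, ha, hb]
      one_mem' := ⟨1, (E1 ⊓ E2).one_mem, by
        rw [commutatorElement_one_right, inv_one, one_mul]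
        exact U.one_mem⟩
      inv_mem' := by
        rintro a ⟨d, hd, ha⟩
        refine ⟨d⁻¹, (E1 ⊓ E2).inv_mem hd, ?_⟩
        have h1 := hmul d hd d⁻¹ ((E1 ⊓ E2).inv_mem hd)
        rw [mul_inv_cancel, commutatorElement_one_right, inv_one, one_mul] at h1
        have h3 : (QuotientGroup.mk (⁅x, d⁆ * ⁅x, d⁻¹⁆) : S ⧸ U) = 1 := (QuotientGroup.eq_one_iff _).2 h1
        rw [← QuotientGroup.eq] at ha ⊢
        rw [QuotientGroup.mk_inv, ← ha]
        rw [QuotientGroup.mk_mul] at h3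
        exact eq_inv_of_mul_eq_one_right h3 }
  have hUV' : U ≤ V' := fun u hu => ⟨1, (E1 ⊓ E2).one_mem, by
    rw [commutatorElement_one_right, inv_one, one_mul]
    exact hu⟩
  have hxd : ∀ d ∈ E1 ⊓ E2, ⁅x, d⁆ ∈ V' := fun d hd => ⟨d, hd, by
    rw [inv_mul_cancel]
    exact U.one_mem⟩
  have hFab : ∀ a ∈ E1 ⊓ E2, ∀ b ∈ E1 ⊓ E2, ⁅a, b⁆ ∈ U :=
    abel_of_index hK (dvd_of_eq hidxF) (fun k hk d hd => cm_symm (hcU d hd.1 k hk))
  have hVV' : V ≤ V' := by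
    refine sup_le ?_ hUV'
    rw [Subgroup.commutator_le]
    intro e he d hd
    -- the elements `e` with `[e,d] ∈ V'`
    let P : Subgroup S :=
      { carrier := {z | z ∈ E1 ∧ ⁅z, d⁆ ∈ V'}
        mul_mem' := by
          rintro a b ⟨ha, ha'⟩ ⟨hb, hb'⟩
          refine ⟨E1.mul_mem ha hb, ?_⟩
          have e1 : ⁅a * b, d⁆ = ⁅a, ⁅b, d⁆⁆ * ⁅b, d⁆ * ⁅a, d⁆ := by
            rw [commutatorElement_def, commutatorElement_def, commutatorElement_def, commutatorElement_def]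
            group
          rw [e1]
          exact V'.mul_mem (V'.mul_mem (hUV' (hcU a ha _ (hEK b hb d hd.1))) hb') ha'
        one_mem' := ⟨E1.one_mem, by
          rw [commutatorElement_one_left]
          exact V'.one_mem⟩
        inv_mem' := by
          rintro a ⟨ha, ha'⟩
          refine ⟨E1.inv_mem ha, ?_⟩
          have e1 : ⁅a⁻¹, d⁆ = ⁅a⁻¹, ⁅a, d⁆⁻¹⁆ * ⁅a, d⁆⁻¹ := by
            rw [commutatorElement_def, commutatorElement_def, commutatorElement_def]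
            group
          rw [e1]
          exact V'.mul_mem (hUV' (hcU a⁻¹ (E1.inv_mem ha) _ (K.inv_mem (hEK a ha d hd.1)))) (V'.inv_mem ha') }
    have hPE : P ≤ E1 := fun z hz => hz.1
    have hFP : E1 ⊓ E2 ≤ P := fun z hz => ⟨hz.1, hUV' (hFab z hz d hd)⟩
    have hxP : x ∈ P := ⟨hxE, hxd d hd⟩
    rcases between hFP hPE (dvd_of_eq (pair_idx1 D1 D2 hne)) with h | h
    · exact (hxF (h ▸ hxP)).elim
    · have : e ∈ P := by rw [h]; exact he
      exact this.2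
  have hidxU : U.relIndex V' ≤ p := by
    rw [← hidxF]
    refine relIndex_le_of_surj (fun d => ⁅x, d⁆) (fun d hd => hxd d hd) hUn hmul ?_ ?_
    · intro d hd hdK
      exact hcU x hxE d hdK
    · intro m hm
      exact hm
  have h5 : U.relIndex K ≤ p :=
    (Subgroup.relIndex_le_of_le_right (hKV.trans hVV') (relIndex_ne _ _)).trans hidxU
  have h6 : U = Fr E2 := eq_of_relIndex hUT hF2K (by rw [hidx]; exact h5)
  rw [← h6]
  exact hUi

/-- `S` centralises `T/Φ(T)`, `T = Φ(E₂)` -/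
theorem nr_A_cent (D1 : EssData p E1 A1 B) (D2 : EssData p E2 A2 B) (hne : E1 ≠ E2) (hS : IsPGroup p S) (h2 : p ≠ 2)
    (hR : Rk p S) (N1 : NT p E1 A1 B K W τ) (R2 : RT p E2 A2) (hA : Inv A1 (Fr E2)) :
    ∀ t ∈ Fr E2, ∀ s, ⁅t, s⁆ ∈ Fr (Fr E2) := by
  obtain ⟨hK, hG1, hG2⟩ := nr_setup D1 D2 hne hS h2 N1 R2
  have hKn := N1.invK.normal D1
  have hF2n : (Fr E2).Normal := Fr_normal
  have hFFn : (Fr (Fr E2)).Normal := Fr_normal
  have hi2 : Inv A2 (Fr E2) := Inv.self.Fr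
  have hidxF : K.relIndex (E1 ⊓ E2) = p := idxKF D1 D2 hne N1 hK
  have hidx : (Fr E2).relIndex K = p := by
    rw [← hG2]
    exact (R2.chain D2 hS).2.2
  have hc3 := three'' (N := Fr (Fr E2)) (M := Fr E2) (comm3 hS (Fr_le _) (Rk.fr hS hR (Fr E2)))
  have hG2le : G2 E2 ≤ ⁅⁅(⊤ : Subgroup S), (⊤ : Subgroup S)⁆, (⊤ : Subgroup S)⁆ ⊔ Fr E2 := by
    refine sup_le ?_ le_sup_right
    rw [Subgroup.commutator_le]
    intro d hd s _
    have hd' : d ∈ ⁅(⊤ : Subgroup S), (⊤ : Subgroup S)⁆ ⊔ Fr E2 :=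
      (sup_le_sup_right (Subgroup.commutator_mono le_top le_rfl) (Fr E2)) hd
    obtain ⟨a, ha, b, hb, rfl⟩ := Subgroup.mem_sup_of_normal_left.1 hd'
    refine cm_mul_left ?_ ?_
    · exact (le_sup_left : _ ≤ ⁅⁅(⊤ : Subgroup S), (⊤ : Subgroup S)⁆, (⊤ : Subgroup S)⁆ ⊔ Fr E2)
        (Subgroup.commutator_mem_commutator ha (mem_top s))
    · exact (le_sup_right : _ ≤ ⁅⁅(⊤ : Subgroup S), (⊤ : Subgroup S)⁆, (⊤ : Subgroup S)⁆ ⊔ Fr E2) (cm_of_mem_left hb)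
  have hG2c : ∀ d ∈ G2 E2, ∀ t ∈ Fr E2, ⁅d, t⁆ ∈ Fr (Fr E2) := by
    intro d hd t ht
    obtain ⟨a, ha, b, hb, rfl⟩ := Subgroup.mem_sup_of_normal_left.1 (hG2le hd)
    exact cm_mul_left (cm_symm (hc3 (Subgroup.commutator_mem_commutator ht ha))) (comm_mem_Fr hS hb ht)
  have hC2 : Inv A2 (cmod E2 (Fr E2) (Fr (Fr E2)) hFFn) := Inv.cmod Inv.self hi2 hi2.Fr hFFn
  have hE2c : ∀ e ∈ E2, ∀ t ∈ Fr E2, ⁅e, t⁆ ∈ Fr (Fr E2) := by
    rcases R2.irr _ hC2 (fun x hx => ⟨Fr_le E2 hx, fun m hm => comm_mem_Fr hS hx hm⟩) (fun x hx => hx.1) with h | h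
    · exfalso
      have h1 : K ≤ Fr E2 := by
        rw [← hG2]
        intro x hx
        have : x ∈ cmod E2 (Fr E2) (Fr (Fr E2)) hFFn := ⟨(G2_le.trans G1_le) hx, fun m hm => hG2c x hx m hm⟩
        rwa [h] at this
      have h3 : (Fr E2).relIndex K = 1 := by
        rw [Subgroup.relIndex_eq_one]
        exact h1
      rw [hidx] at h3
      exact hp.out.one_lt.ne' h3
    · intro e he m hm
      rw [← h] at he
      exact he.2 m hm
  have hC1 : Inv A1 (cmod E1 (Fr E2) (Fr (Fr E2)) hFFn) := Inv.cmod Inv.self hA hA.Fr hFFn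
  refine pair_cent D1 D2 hne hFFn ?_ hE2c
  rcases N1.irr _ hC1 (fun x hx => ⟨N1.invK.le hx, fun m hm => hE2c x ((hK.trans inf_le_right) hx) m hm⟩) with h | h
  · exfalso
    have h1 : E1 ⊓ E2 ≤ K := by
      rw [← h]
      exact fun x hx => ⟨hx.1, fun m hm => hE2c x hx.2 m hm⟩
    have h3 : K.relIndex (E1 ⊓ E2) = 1 := by
      rw [Subgroup.relIndex_eq_one]
      exact h1
    rw [hidxF] at h3
    exact hp.out.one_lt.ne' h3
  · intro e he m hm
    rw [← h] at he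
    exact he.2 m hm

/-- `T = Φ(E₂)` is central -/
theorem nr_A_central (D1 : EssData p E1 A1 B) (D2 : EssData p E2 A2 B) (hne : E1 ≠ E2) (hS : IsPGroup p S) (h2 : p ≠ 2)
    (hR : Rk p S) (N1 : NT p E1 A1 B K W τ) (R2 : RT p E2 A2) (hA : K = Fr E1) :
    ∀ t ∈ Fr E2, ∀ s, ⁅t, s⁆ ∈ (⊥ : Subgroup S) := by
  obtain ⟨hK, hG1, hG2⟩ := nr_setup D1 D2 hne hS h2 N1 R2
  have hKn := N1.invK.normal D1
  have hF2n : (Fr E2).Normal := Fr_normal
  have hFFn : (Fr (Fr E2)).Normal := Fr_normal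
  have hbn : (⊥ : Subgroup S).Normal := inferInstance
  have hi1 := nr_A_inv D1 D2 hne hS h2 N1 R2 hA
  have hi2 : Inv A2 (Fr E2) := Inv.self.Fr
  have hb1 : Inv A1 (⊥ : Subgroup S) := Inv.bot
  have hb2 : Inv A2 (⊥ : Subgroup S) := Inv.bot
  have hc := nr_A_cent D1 D2 hne hS h2 hR N1 R2 hi1
  have hfix := N1.fix D1 hS h2 hi1 hc
  have hidxF : K.relIndex (E1 ⊓ E2) = p := idxKF D1 D2 hne N1 hK
  have hF2K : Fr E2 ≤ K := by
    rw [← hG2]
    exact Fr_le_G2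
  -- `E₁` centralises `T`
  have h1 : cmod E1 (Fr E2) ⊥ hbn = E1 := by
    have hle : cmod E1 (Fr E2) ⊥ hbn ≤ E1 := fun x hx => hx.1
    apply eq_of_sup_Fr hle
    apply le_antisymm (sup_le hle (Fr_le E1))
    refine N1.gen D1 hS h2 ?_ ?_
    · rw [hA]
      exact le_sup_right
    · intro e he
      refine (le_sup_left : _ ≤ cmod E1 (Fr E2) ⊥ hbn ⊔ Fr E1) ⟨E1.mul_mem (E1.inv_mem he) (N1.tE D1 he), fun m hm => ?_⟩
      refine N1.uC D1 hi1 hb1 (fun m hm => ?_) hm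
      rw [hfix m hm, inv_mul_cancel]
      exact one_mem _
  have hE1c : ∀ e ∈ E1, ∀ t ∈ Fr E2, ⁅e, t⁆ ∈ (⊥ : Subgroup S) := by
    intro e he t ht
    rw [← h1] at he
    exact he.2 t ht
  refine pair_cent D1 D2 hne hbn hE1c ?_
  have hC2 : Inv A2 (cmod E2 (Fr E2) ⊥ hbn) := Inv.cmod Inv.self hi2 hb2 hbn
  have hU2 : Inv A2 (cmod E2 (Fr E2) ⊥ hbn ⊔ Fr E2) := hC2.sup hi2
  have h3 : cmod E2 (Fr E2) ⊥ hbn ⊔ Fr E2 = E2 := by
    rcases R2.irr _ hU2 le_sup_right hU2.le with h | h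
    · exfalso
      have h4 : E1 ⊓ E2 ≤ K := by
        intro x hx
        have h5 : x ∈ cmod E2 (Fr E2) ⊥ hbn ⊔ Fr E2 :=
          (le_sup_left : _ ≤ cmod E2 (Fr E2) ⊥ hbn ⊔ Fr E2) ⟨hx.2, fun m hm => hE1c x hx.1 m hm⟩
        rw [h] at h5
        exact hF2K h5
      have h3 : K.relIndex (E1 ⊓ E2) = 1 := by
        rw [Subgroup.relIndex_eq_one]
        exact h4
      rw [hidxF] at h3
      exact hp.out.one_lt.ne' h3
    · exact h
  have h4 := eq_of_sup_Fr (show cmod E2 (Fr E2) ⊥ hbn ≤ E2 from fun x hx => hx.1) h3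
  intro e he t ht
  rw [← h4] at he
  exact he.2 t ht

/-- `E₂` is abelian if `Φ(E₂)` is central. -/
theorem nr_A_abel (D2 : EssData p E2 A2 B) (hS : IsPGroup p S) (R2 : RT p E2 A2)
    (hTc : ∀ t ∈ Fr E2, ∀ s, ⁅t, s⁆ ∈ (⊥ : Subgroup S)) : ∀ a ∈ E2, ∀ b ∈ E2, ⁅a, b⁆ ∈ (⊥ : Subgroup S) := by
  obtain ⟨y, hy⟩ := D2.exists_notMem
  have hF2n : (Fr E2).Normal := Fr_normal
  have hbn : (⊥ : Subgroup S).Normal := inferInstance
  obtain ⟨i1, i2, i3⟩ := R2.chain D2 hS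
  have hTc' : ∀ t ∈ Fr E2, ∀ s, Commute t s := by
    intro t ht s
    have := hTc t ht s
    rw [Subgroup.mem_bot, commutatorElement_eq_one_iff_mul_comm] at this
    exact this
  have hcc : ∀ a ∈ E2, ∀ b ∈ E2, ∀ s, Commute ⁅a, b⁆ s := fun a ha b hb s => hTc' _ (comm_mem_Fr hS ha hb) s
  -- invariance of commutators under `y`
  have hy1 : ∀ a ∈ E2, ∀ b ∈ E2, ⁅y * a * y⁻¹, y * b * y⁻¹⁆ = ⁅a, b⁆ := by
    intro a ha b hb
    have e1 : ⁅y * a * y⁻¹, y * b * y⁻¹⁆ = y * ⁅a, b⁆ * y⁻¹ := by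
      rw [commutatorElement_def, commutatorElement_def]
      group
    rw [e1, ← (hcc a ha b hb y).eq, mul_inv_cancel_right]
  have hyE : ∀ a ∈ E2, ⁅y, a⁆ ∈ E2 := fun a ha => cm_of_mem_right ha
  have hya : ∀ a : S, y * a * y⁻¹ = ⁅y, a⁆ * a := by
    intro a
    rw [commutatorElement_def]
    group
  -- bilinearity
  have bl : ∀ a ∈ E2, ∀ b ∈ E2, ∀ c ∈ E2, ⁅a * b, c⁆ = ⁅a, c⁆ * ⁅b, c⁆ := by
    intro a ha b hb c hc
    calc ⁅a * b, c⁆ = a * ⁅b, c⁆ * a⁻¹ * ⁅a, c⁆ := by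
          rw [commutatorElement_def, commutatorElement_def, commutatorElement_def]; group
      _ = ⁅b, c⁆ * ⁅a, c⁆ := by rw [← (hcc b hb c hc a).eq, mul_inv_cancel_right]
      _ = ⁅a, c⁆ * ⁅b, c⁆ := (hcc b hb c hc _).eq
  have br : ∀ a ∈ E2, ∀ b ∈ E2, ∀ c ∈ E2, ⁅c, a * b⁆ = ⁅c, a⁆ * ⁅c, b⁆ := by
    intro a ha b hb c hc
    calc ⁅c, a * b⁆ = ⁅c, a⁆ * (a * ⁅c, b⁆ * a⁻¹) := by
          rw [commutatorElement_def, commutatorElement_def, commutatorElement_def]; group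
      _ = ⁅c, a⁆ * ⁅c, b⁆ := by rw [← (hcc c hc b hb a).eq, mul_inv_cancel_right]
  have t1 : ∀ t ∈ Fr E2, ∀ a : S, ⁅a, t⁆ = 1 := by
    intro t ht a
    rw [commutatorElement_eq_one_iff_mul_comm]
    exact (hTc' t ht a).symm
  have hG2y : ∀ w ∈ G2 E2, ∀ s, ⁅s, w⁆ ∈ Fr E2 := fun w hw s =>
    cm_symm (comm_mem_of_prime hS Fr_le_G2 (dvd_of_eq i3) hw s)
  have hG1y : ∀ w ∈ G1 E2, ∀ s, ⁅s, w⁆ ∈ G2 E2 := fun w hw s =>
    cm_symm (comm_mem_of_prime hS G2_le (dvd_of_eq i2) hw s)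
  have hEy : ∀ w ∈ E2, ∀ s, ⁅s, w⁆ ∈ G1 E2 := fun w hw s =>
    cm_symm (comm_mem_of_prime hS G1_le (dvd_of_eq i1) hw s)
  have hG1E : G1 E2 ≤ E2 := G1_le
  have hG2E : G2 E2 ≤ E2 := G2_le.trans G1_le
  -- step 1
  have st1 : ∀ u ∈ E2, ∀ w ∈ G2 E2, ⁅⁅y, u⁆, w⁆ = 1 := by
    intro u hu w hw
    have h1 := hy1 u hu w (hG2E hw)
    rw [hya, hya, br _ (hyE w (hG2E hw)) _ (hG2E hw) _ (E2.mul_mem (hyE u hu) hu), t1 _ (hG2y w hw y), one_mul,
      bl _ (hyE u hu) _ hu _ (hG2E hw)] at h1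
    exact mul_eq_right.1 h1
  -- step 2
  have st2 : ∀ d ∈ G1 E2, ∀ w ∈ G2 E2, ⁅d, w⁆ = 1 := by
    have hXn : (cmod E2 (G2 E2) ⊥ hbn).Normal := cmod_normal hE2 G2_normal hbn
    have hle : G1 E2 ≤ cmod E2 (G2 E2) ⊥ hbn := by
      have hT : Fr E2 ≤ cmod E2 (G2 E2) ⊥ hbn := fun x hx => ⟨Fr_le E2 hx, fun m _ => hTc x hx m⟩
      refine sup_le ?_ hT
      rw [Subgroup.commutator_le]
      intro u hu s _
      apply cm_symm
      obtain ⟨n, e, he, rfl⟩ := D2.exists_zpow hy s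
      have hyX : ⁅y, u⁆ ∈ cmod E2 (G2 E2) ⊥ hbn := ⟨hyE u hu, fun m hm => by
        rw [Subgroup.mem_bot]
        exact st1 u hu m hm⟩
      exact cm_mul_left (cm_zpow_left hyX n) (hT (comm_mem_Fr hS he hu))
    intro d hd w hw
    have := (hle hd).2 w hw
    rwa [Subgroup.mem_bot] at this
  -- step 3
  have st3 : ∀ u ∈ E2, ⁅u, ⁅y, ⁅y, u⁆⁆⁆ = 1 := by
    intro u hu
    have hd : ⁅y, u⁆ ∈ G1 E2 := hEy u hu y
    have hw : ⁅y, ⁅y, u⁆⁆ ∈ G2 E2 := hG1y _ hd y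
    have h1 := hy1 u hu ⁅y, u⁆ (hG1E hd)
    rw [hya, hya] at h1
    rw [br _ (hG2E hw) _ (hG1E hd) _ (E2.mul_mem (hG1E hd) hu), bl _ (hG1E hd) _ hu _ (hG2E hw),
      bl _ (hG1E hd) _ hu _ (hG1E hd), st2 _ hd _ hw, one_mul, commutatorElement_self, one_mul] at h1
    exact mul_eq_right.1 h1
  -- step 4
  obtain ⟨v, hv, hvn⟩ := R2.reg y hy
  have hvG : v ∉ G1 E2 := fun h => hvn (hG2y _ (hG1y v h y) y)
  set w := ⁅y, ⁅y, v⁆⁆ with hw
  have hwG : w ∈ G2 E2 := hG1y _ (hEy v hv y) y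
  have hwc : ∀ e ∈ E2, ⁅e, w⁆ = 1 := by
    let P : Subgroup S :=
      { carrier := {z | z ∈ E2 ∧ ⁅z, w⁆ ∈ (⊥ : Subgroup S)}
        mul_mem' := fun ha hb => ⟨E2.mul_mem ha.1 hb.1, cm_mul_left ha.2 hb.2⟩
        one_mem' := ⟨E2.one_mem, by
          rw [commutatorElement_one_left]
          exact one_mem _⟩
        inv_mem' := fun ha => ⟨E2.inv_mem ha.1, cm_inv_left ha.2⟩ }
    have hPE : P ≤ E2 := fun z hz => hz.1
    have hGP : G1 E2 ≤ P := fun z hz => ⟨hG1E hz, by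
      rw [Subgroup.mem_bot]
      exact st2 z hz w hwG⟩
    have hvP : v ∈ P := ⟨hv, by
      rw [Subgroup.mem_bot]
      exact st3 v hv⟩
    rcases between hGP hPE (dvd_of_eq i1) with h | h
    · exact (hvG (h ▸ hvP)).elim
    · intro e he
      have : e ∈ P := by rw [h]; exact he
      have h3 := this.2
      rwa [Subgroup.mem_bot] at h3
  have hZ : Inv A2 (cmod E2 E2 ⊥ hbn) := Inv.cmod Inv.self Inv.self Inv.bot hbn
  rcases R2.irr _ hZ (fun x hx => ⟨Fr_le E2 hx, fun m _ => hTc x hx m⟩) (fun x hx => hx.1) with h | h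
  · exfalso
    apply hvn
    rw [← h]
    refine ⟨hG2E hwG, fun m hm => cm_symm ?_⟩
    rw [Subgroup.mem_bot]
    exact hwc m hm
  · intro a ha b hb
    rw [← h] at ha
    exact ha.2 b hb

/-- `E₂` is elementary abelian if `Φ(E₂)` is central. -/
theorem nr_A_exp (D2 : EssData p E2 A2 B) (hS : IsPGroup p S) (R2 : RT p E2 A2)
    (hTc : ∀ t ∈ Fr E2, ∀ s, ⁅t, s⁆ ∈ (⊥ : Subgroup S)) : ∀ a ∈ E2, a ^ p = 1 := by
  obtain ⟨y, hy⟩ := D2.exists_notMem
  have hF2n : (Fr E2).Normal := Fr_normal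
  have hab := nr_A_abel D2 hS R2 hTc
  obtain ⟨i1, i2, i3⟩ := R2.chain D2 hS
  have hcom : ∀ a ∈ E2, ∀ b ∈ E2, Commute a b := by
    intro a ha b hb
    have := hab a ha b hb
    rw [Subgroup.mem_bot, commutatorElement_eq_one_iff_mul_comm] at this
    exact this
  let P : Subgroup S :=
    { carrier := {z | z ∈ E2 ∧ z ^ p = 1}
      mul_mem' := by
        rintro a b ⟨ha, ha'⟩ ⟨hb, hb'⟩
        exact ⟨E2.mul_mem ha hb, by rw [(hcom a ha b hb).mul_pow, ha', hb', one_mul]⟩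
      one_mem' := ⟨E2.one_mem, one_pow p⟩
      inv_mem' := by
        rintro a ⟨ha, ha'⟩
        exact ⟨E2.inv_mem ha, by rw [inv_pow, ha', inv_one]⟩ }
  have hP : Inv A2 P := by
    refine ⟨fun z hz => hz.1, ?_⟩
    rintro α hα x ⟨hx1, hx2⟩
    refine ⟨(α x).2, ?_⟩
    have h1 : x ^ p = 1 := Subtype.ext (by rw [Subgroup.coe_pow, hx2]; rfl)
    rw [← Subgroup.coe_pow, ← map_pow, h1, map_one]
    rfl
  have hyP : ∀ u ∈ E2, ⁅y, u⁆ ∈ P := by
    intro u hu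
    have hyu : ⁅y, u⁆ ∈ E2 := cm_of_mem_right hu
    refine ⟨hyu, ?_⟩
    have h1 : y * u * y⁻¹ = ⁅y, u⁆ * u := by
      rw [commutatorElement_def]
      group
    have h3 := congrArg (fun z => z ^ p) h1
    simp only [conj_pow] at h3
    rw [(hcom _ hyu u hu).mul_pow] at h3
    have h4 := hTc _ (pow_mem_Fr hS hu) y
    rw [Subgroup.mem_bot, commutatorElement_eq_one_iff_mul_comm] at h4
    rw [← h4, mul_inv_cancel_right] at h3
    exact (mul_eq_right.1 h3.symm)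
  obtain ⟨v, hv, hvn⟩ := R2.reg y hy
  have hU : Inv A2 (P ⊔ Fr E2) := hP.sup Inv.self.Fr
  have h1 : P ⊔ Fr E2 = E2 := by
    rcases R2.irr _ hU le_sup_right hU.le with h | h
    · exfalso
      apply hvn
      have h3 : ⁅y, v⁆ ∈ Fr E2 := by
        rw [← h]
        exact (le_sup_left : P ≤ P ⊔ Fr E2) (hyP v hv)
      exact cm_of_mem_right h3
    · exact h
  have h3 := eq_of_sup_Fr (show P ≤ E2 from fun z hz => hz.1) h1
  intro a ha
  rw [← h3] at ha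
  exact ha.2

/-- the conclusion of Case A -/
structure NRConcl (p : ℕ) (E1 E2 : Subgroup S) : Prop where
  comm2 : ∀ a ∈ E2, ∀ b ∈ E2, a * b = b * a
  exp2 : ∀ a ∈ E2, a ^ p = 1
  card2 : Nat.card E2 = p ^ 3
  card1 : Nat.card E1 = p ^ 3
  exp1 : ∀ a ∈ E1, a ^ p = 1
  ncomm1 : ∃ a ∈ E1, ∃ b ∈ E1, a * b ≠ b * a
  card : Nat.card S = p ^ 4
  reg : ∃ y ∈ E1, ∃ v ∈ E2, ⁅y, ⁅y, v⁆⁆ ≠ 1

theorem nr_A_final (D1 : EssData p E1 A1 B) (D2 : EssData p E2 A2 B) (hne : E1 ≠ E2) (hS : IsPGroup p S) (h2 : p ≠ 2)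
    (hR : Rk p S) (N1 : NT p E1 A1 B K W τ) (R2 : RT p E2 A2) (hA : K = Fr E1) : NRConcl p E1 E2 := by
  obtain ⟨hK, hG1, hG2⟩ := nr_setup D1 D2 hne hS h2 N1 R2
  have hKn := N1.invK.normal D1
  have hTc := nr_A_central D1 D2 hne hS h2 hR N1 R2 hA
  have hab := nr_A_abel D2 hS R2 hTc
  have hexp := nr_A_exp D2 hS R2 hTc
  have hF2 : Fr E2 = ⊥ := by
    rw [eq_bot_iff]
    exact Fr_le_of hS bot_le hab (fun a ha => by
      rw [Subgroup.mem_bot]
      exact hexp a ha)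
  have hc2 : Nat.card E2 = p ^ 3 := by
    have h1 := R2.idx
    rw [hF2, Subgroup.relIndex_bot_left] at h1
    exact h1
  have hcK : Nat.card K = p := by
    have h1 := (R2.chain D2 hS).2.2
    rw [hG2, hF2, Subgroup.relIndex_bot_left] at h1
    exact h1
  have hc1 : Nat.card E1 = p ^ 3 := by
    have h1 := Subgroup.relIndex_mul_relIndex ⊥ K E1 bot_le N1.invK.le
    rw [Subgroup.relIndex_bot_left, Subgroup.relIndex_bot_left, hcK, N1.idx] at h1
    rw [← h1]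
    ring
  have hcS : Nat.card S = p ^ 4 := by
    have h1 := E1.card_mul_index
    rw [hc1, D1.index] at h1
    rw [← h1]
    ring
  have hKc : ∀ k ∈ K, ∀ s, ⁅k, s⁆ ∈ (⊥ : Subgroup S) := by
    intro k hk s
    refine comm_mem_of_prime hS bot_le ?_ hk s
    rw [Subgroup.relIndex_bot_left, hcK]
  have hfix := N1.fix D1 hS h2 N1.invK (fun k hk s => (bot_le : (⊥ : Subgroup S) ≤ Fr K) (hKc k hk s))
  have hexp1 : ∀ e ∈ E1, e ^ p = 1 := by
    intro e he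
    have h1 := hfix _ (N1.pow D1 hS h2 e)
    have hk := N1.negE D1 he
    have c : Commute (τ e * e) e := by
      have := hKc _ hk e
      rw [Subgroup.mem_bot, commutatorElement_eq_one_iff_mul_comm] at this
      exact this
    have q1 : τ e = (τ e * e) * e⁻¹ := by group
    have q2 : (τ e * e) ^ p = 1 := hexp _ ((hK.trans inf_le_right) hk)
    have q3 : (τ e) ^ p = (e ^ p)⁻¹ := by
      rw [q1, c.inv_right.mul_pow, q2, one_mul, inv_pow]
    rw [map_pow, q3] at h1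
    have h3 : e ^ p * e ^ p ∈ (⊥ : Subgroup S) := by
      rw [Subgroup.mem_bot]
      nth_rewrite 1 [← h1]
      exact inv_mul_cancel _
    have h4 := sq_mem hS h2 h3
    rwa [Subgroup.mem_bot] at h4
  refine ⟨?_, hexp, hc2, hc1, hexp1, ?_, hcS, ?_⟩
  · intro a ha b hb
    have := hab a ha b hb
    rwa [Subgroup.mem_bot, commutatorElement_eq_one_iff_mul_comm] at this
  · by_contra hcon
    push Not at hcon
    have h1 : Fr E1 ≤ ⊥ := Fr_le_of hS bot_le (fun a ha b hb => by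
      rw [Subgroup.mem_bot, commutatorElement_eq_one_iff_mul_comm]
      exact hcon a ha b hb) (fun a ha => by
      rw [Subgroup.mem_bot]
      exact hexp1 a ha)
    rw [← hA, le_bot_iff] at h1
    rw [h1, Subgroup.card_bot] at hcK
    exact hp.out.one_lt.ne hcK
  · obtain ⟨y, hyE, hyF⟩ : ∃ x ∈ E1, x ∉ E1 ⊓ E2 := by
      by_contra hcon
      push Not at hcon
      have h3 : (E1 ⊓ E2).relIndex E1 = 1 := by
        rw [Subgroup.relIndex_eq_one]
        exact hcon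
      rw [pair_idx1 D1 D2 hne] at h3
      exact hp.out.one_lt.ne' h3
    have hy2 : y ∉ E2 := fun h => hyF ⟨hyE, h⟩
    obtain ⟨v, hv, hvn⟩ := R2.reg y hy2
    rw [hF2, Subgroup.mem_bot] at hvn
    exact ⟨y, hyE, v, hv, hvn⟩

/-! ### Case B -/

theorem nr_B (D1 : EssData p E1 A1 B) (D2 : EssData p E2 A2 B) (hne : E1 ≠ E2) (hS : IsPGroup p S) (h2 : p ≠ 2)
    (hR : Rk p S) (N1 : NT p E1 A1 B K W τ) (R2 : RT p E2 A2) (hB : K ≠ Fr E1) : False := by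
  obtain ⟨hK, hG1, hG2⟩ := nr_setup D1 D2 hne hS h2 N1 R2
  have hKn := N1.invK.normal D1
  have hWn := N1.invW.normal D1
  have hF1n : (Fr E1).Normal := Fr_normal
  have hF2n : (Fr E2).Normal := Fr_normal
  have hFKn : (Fr K).Normal := Fr_normal
  obtain ⟨j1, j2, j3⟩ := R2.chain D2 hS
  have hKE1 : K ≤ E1 := N1.invK.le
  have hKE2 : K ≤ E2 := hK.trans inf_le_right
  have hF2K : Fr E2 ≤ K := by
    rw [← hG2]
    exact Fr_le_G2
  have hF1K : Fr E1 ≤ K := N1.frK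
  have i2K : (Fr E2).relIndex K = p := by
    rw [← hG2]
    exact j3
  have i1K : (Fr E1).relIndex K = p := by
    rcases (Nat.dvd_prime hp.out).1 N1.idxK with h | h
    · rw [Subgroup.relIndex_eq_one] at h
      exact (hB (le_antisymm h hF1K)).elim
    · exact h
  have hidxF : K.relIndex (E1 ⊓ E2) = p := idxKF D1 D2 hne N1 hK
  have hcK1 : ∀ k ∈ K, ∀ s, ⁅k, s⁆ ∈ Fr E1 := fun k hk s => comm_mem_of_prime hS hF1K (dvd_of_eq i1K) hk s
  have hcK2 : ∀ k ∈ K, ∀ s, ⁅k, s⁆ ∈ Fr E2 := fun k hk s => comm_mem_of_prime hS hF2K (dvd_of_eq i2K) hk s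
  -- B1
  have hn12 : ¬ Fr E1 ≤ Fr E2 := by
    intro h
    have h1 : G2 E2 ≤ Fr E2 := by
      refine sup_le ?_ le_rfl
      rw [Subgroup.commutator_le]
      intro d hd s _
      rw [hG1] at hd
      obtain ⟨a, ha, b, hb, rfl⟩ := pair_mul D1 D2 hne s
      exact cm_mul_right (h (comm_mem_Fr hS hd.1 ha)) (comm_mem_Fr hS hd.2 hb)
    have h3 : (Fr E2).relIndex (G2 E2) = 1 := by
      rw [Subgroup.relIndex_eq_one]
      exact h1
    rw [j3] at h3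
    exact hp.out.one_lt.ne' h3
  have hsup : Fr E1 ⊔ Fr E2 = K := by
    rcases between (N := Fr E2) (X := Fr E1 ⊔ Fr E2) (M := K) le_sup_right (sup_le hF1K hF2K) (dvd_of_eq i2K) with h | h
    · exfalso
      apply hn12
      rw [← h]
      exact le_sup_left
    · exact h
  set J := Fr E1 ⊓ Fr E2 with hJ
  have hJn : J.Normal := inferInstance
  have iJ2 : J.relIndex (Fr E2) = p := by
    rw [hJ, Subgroup.inf_relIndex_right]
    have h1 : (Fr E1).relIndex (Fr E1 ⊔ Fr E2) = (Fr E1).relIndex (Fr E2) := Subgroup.relIndex_sup_left _ _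
    rw [← h1, hsup, i1K]
  have iJK : J.relIndex K = p ^ 2 := by
    rw [← Subgroup.relIndex_mul_relIndex J (Fr E2) K inf_le_right hF2K, iJ2, i2K, pow_two]
  -- B2
  have hB2 : ∀ y ∈ E2, y ∉ E1 ⊓ E2 → y ^ p ∉ Fr E1 := by
    intro y hy hyF hyp
    have hyE1 : y ∉ E1 := fun h => hyF ⟨h, hy⟩
    have hab : ∀ a ∈ (⊤ : Subgroup S), ∀ b ∈ (⊤ : Subgroup S), ⁅a, b⁆ ∈ W := by
      refine abel_of_index (D := E1) le_top (by rw [Subgroup.relIndex_top_right, D1.index]) ?_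
      intro d hd s _
      exact comm_mem_of_prime hS N1.invW.le (N1.idxWE D1) hd s
    have hpw : ∀ a ∈ (⊤ : Subgroup S), a ^ p ∈ W := by
      intro a _
      obtain ⟨n, e, he, rfl⟩ := D1.exists_zpow hyE1 a
      have c : Commute (QuotientGroup.mk (y ^ n) : S ⧸ W) (QuotientGroup.mk e) := mk_comm (hab _ (mem_top _) _ (mem_top _))
      apply (QuotientGroup.eq_one_iff (N := W) _).1
      have g1 : (QuotientGroup.mk (y ^ n) : S ⧸ W) ^ p = 1 := by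
        rw [← QuotientGroup.mk_pow, ← zpow_natCast, ← zpow_mul, mul_comm, zpow_mul, zpow_natCast]
        exact (QuotientGroup.eq_one_iff _).2 (W.zpow_mem (N1.frW hyp) n)
      have g2 : (QuotientGroup.mk e : S ⧸ W) ^ p = 1 := (QuotientGroup.eq_one_iff _).2 (N1.frW (pow_mem_Fr hS he))
      rw [QuotientGroup.mk_pow, QuotientGroup.mk_mul, c.mul_pow, g1, g2, one_mul]
    have hFr : Fr ⊤ ≤ W := Fr_le_of hS le_top hab hpw
    have h3 : E1 ⊓ E2 ≤ Fr ⊤ := by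
      rw [← hG1]
      refine sup_le ?_ (Fr_mono' hS le_top)
      rw [Subgroup.commutator_le]
      intro a ha b hb
      exact comm_mem_Fr hS (mem_top a) (mem_top b)
    have h4 : K ≤ Fr E1 := by
      rw [← N1.inf]
      exact le_inf le_rfl (hK.trans (h3.trans hFr))
    exact hB (le_antisymm h4 hF1K)
  -- B3
  set M2 := ⁅Fr E2, E2⁆ ⊔ Fr (Fr E2) with hM2
  have hM2i : Inv A2 M2 := ((Inv.self.Fr).comm Inv.self).sup (Inv.self.Fr).Fr
  have hM2n := hM2i.normal D2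
  have hM2F : M2 ≤ Fr E2 := sup_le (Subgroup.commutator_le_left _ _) (Fr_le _)
  have hM2F1 : M2 ≤ Fr E1 := by
    refine sup_le ?_ (Fr_mono' hS (hF2K.trans hKE1))
    rw [Subgroup.commutator_le]
    exact fun a ha b hb => hcK1 a (hF2K ha) b
  have hM2J : M2 ≤ J := le_inf hM2F1 hM2F
  have hcM2 : ∀ f ∈ Fr E2, ∀ e ∈ E2, ⁅f, e⁆ ∈ M2 := fun f hf e he =>
    (le_sup_left : _ ≤ ⁅Fr E2, E2⁆ ⊔ Fr (Fr E2)) (Subgroup.commutator_mem_commutator hf he)
  have hpM2 : ∀ f ∈ Fr E2, f ^ p ∈ M2 := fun f hf => (le_sup_right : _ ≤ ⁅Fr E2, E2⁆ ⊔ Fr (Fr E2)) (pow_mem_Fr hS hf)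
  have hpw : ∀ a ∈ E2, ∀ b ∈ E2, ((a * b) ^ p)⁻¹ * (a ^ p * b ^ p) ∈ M2 := by
    intro a ha b hb
    have hc := comm_mem_Fr hS ha hb
    have h1 := M2.inv_mem (pow_mod h2 (N := M2) (a := a) (b := b) (cm_symm (hcM2 _ hc a ha)) (cm_symm (hcM2 _ hc b hb)) (hpM2 _ hc))
    rwa [mul_inv_rev, inv_inv] at h1
  have hmk : ∀ a ∈ E2, ∀ b ∈ E2, (QuotientGroup.mk ((a * b) ^ p) : S ⧸ M2) = QuotientGroup.mk (a ^ p) * QuotientGroup.mk (b ^ p) := by
    intro a ha b hb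
    rw [← QuotientGroup.mk_mul]
    exact (QuotientGroup.eq).2 (hpw a ha b hb)
  -- the kernel
  have hker : ∀ e ∈ E2, e ^ p ∈ M2 → e ∈ Fr E2 := by
    let P : Subgroup S :=
      { carrier := {e | e ∈ E2 ∧ e ^ p ∈ M2}
        mul_mem' := by
          rintro a b ⟨ha, ha'⟩ ⟨hb, hb'⟩
          refine ⟨E2.mul_mem ha hb, ?_⟩
          have h1 := M2.inv_mem (hpw a ha b hb)
          have h3 := M2.mul_mem (M2.mul_mem ha' hb') h1
          have e1 : a ^ p * b ^ p * (((a * b) ^ p)⁻¹ * (a ^ p * b ^ p))⁻¹ = (a * b) ^ p := by group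
          rwa [e1] at h3
        one_mem' := ⟨E2.one_mem, by
          rw [one_pow]
          exact M2.one_mem⟩
        inv_mem' := by
          rintro a ⟨ha, ha'⟩
          refine ⟨E2.inv_mem ha, ?_⟩
          rw [inv_pow]
          exact M2.inv_mem ha' }
    have hPi : Inv A2 P := by
      refine ⟨fun x hx => hx.1, ?_⟩
      rintro α hα x ⟨hx1, hx2⟩
      refine ⟨(α x).2, ?_⟩
      have h1 := hM2i.inv α hα (x ^ p) (by rw [Subgroup.coe_pow]; exact hx2)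
      rw [map_pow, Subgroup.coe_pow] at h1
      exact h1
    obtain ⟨y, hyE, hyF⟩ : ∃ x ∈ E2, x ∉ E1 ⊓ E2 := by
      by_contra hcon
      push Not at hcon
      have h3 : (E1 ⊓ E2).relIndex E2 = 1 := by
        rw [Subgroup.relIndex_eq_one]
        exact hcon
      rw [pair_idx2 D1 D2 hne] at h3
      exact hp.out.one_lt.ne' h3
    rcases R2.irr P hPi (fun f hf => ⟨Fr_le E2 hf, hpM2 f hf⟩) (fun x hx => hx.1) with h | h
    · intro e he hep
      rw [← h]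
      exact ⟨he, hep⟩
    · exfalso
      rw [← h] at hyE
      exact hB2 y hyE.1 hyF (hM2F1 hyE.2)
  -- `V = [Φ(E₂),E₁]M₂`
  set V := ⁅Fr E2, E1⁆ ⊔ M2 with hV
  have hVn : V.Normal := inferInstance
  have hM2V : M2 ≤ V := le_sup_right
  have hVJ : V ≤ J := by
    refine sup_le ?_ hM2J
    rw [Subgroup.commutator_le]
    intro a ha b hb
    exact ⟨hcK1 a (hF2K ha) b, cm_of_mem_left ha⟩
  have hFpV : ∀ d ∈ E1 ⊓ E2, d ^ p ∈ V := by
    let P : Subgroup S :=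
      { carrier := {e | e ∈ E2 ∧ e ^ p ∈ V}
        mul_mem' := by
          rintro a b ⟨ha, ha'⟩ ⟨hb, hb'⟩
          refine ⟨E2.mul_mem ha hb, ?_⟩
          have h1 := V.inv_mem (hM2V (hpw a ha b hb))
          have h3 := V.mul_mem (V.mul_mem ha' hb') h1
          have e1 : a ^ p * b ^ p * (((a * b) ^ p)⁻¹ * (a ^ p * b ^ p))⁻¹ = (a * b) ^ p := by group
          rwa [e1] at h3
        one_mem' := ⟨E2.one_mem, by
          rw [one_pow]
          exact V.one_mem⟩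
        inv_mem' := by
          rintro a ⟨ha, ha'⟩
          refine ⟨E2.inv_mem ha, ?_⟩
          rw [inv_pow]
          exact V.inv_mem ha' }
    have hPn : P.Normal := by
      refine ⟨?_⟩
      rintro x ⟨hx1, hx2⟩ s
      refine ⟨hE2.conj_mem x hx1 s, ?_⟩
      rw [conj_pow]
      exact hVn.conj_mem _ hx2 s
    have hFP : Fr E2 ≤ P := fun f hf => ⟨Fr_le E2 hf, hM2V (hpM2 f hf)⟩
    have hle : G1 E2 ≤ P := by
      refine sup_le ?_ hFP
      rw [Subgroup.commutator_le]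
      intro e he s _
      obtain ⟨a, ha, b, hb, rfl⟩ := pair_mul D1 D2 hne s
      refine cm_mul_right ?_ (hFP (comm_mem_Fr hS he hb))
      apply cm_symm
      have hae : ⁅a, e⁆ ∈ E2 := cm_of_mem_right he
      refine ⟨hae, ?_⟩
      have e1 : a * e * a⁻¹ = ⁅a, e⁆ * e := by
        rw [commutatorElement_def]
        group
      have h1 := hmk _ hae e he
      rw [← e1, conj_pow] at h1
      have e2 : a * e ^ p * a⁻¹ = ⁅a, e ^ p⁆ * e ^ p := by
        rw [commutatorElement_def]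
        group
      rw [e2, QuotientGroup.mk_mul] at h1
      have h3 := mul_right_cancel h1
      have h4 : (⁅a, e ^ p⁆)⁻¹ * ⁅a, e⁆ ^ p ∈ M2 := (QuotientGroup.eq).1 h3
      have h5 : ⁅a, e ^ p⁆ ∈ V := by
        apply cm_symm
        exact (le_sup_left : _ ≤ ⁅Fr E2, E1⁆ ⊔ M2) (Subgroup.commutator_mem_commutator (pow_mem_Fr hS he) ha)
      have h6 := V.mul_mem h5 (hM2V h4)
      rwa [mul_inv_cancel_left] at h6
    intro d hd
    rw [← hG1] at hd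
    exact (hle hd).2
  have iF : (Fr E2).relIndex (E1 ⊓ E2) = p ^ 2 := by
    rw [← Subgroup.relIndex_mul_relIndex (Fr E2) K (E1 ⊓ E2) hF2K hK, i2K, hidxF, pow_two]
  have iV : p ^ 2 ≤ M2.relIndex V := by
    rw [← iF]
    refine relIndex_le_of_hom (fun d => d ^ p) hFpV hM2n (fun a ha b hb => hpw a ha.2 b hb.2) (fun d hd h => hker d hd.2 h)
  have iM2 : M2.relIndex (Fr E2) ≤ p ^ 3 := by
    refine hR _ _ hM2F (fun a ha b hb => hcM2 a ha b (Fr_le E2 hb)) hpM2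
  have iMJ : M2.relIndex J ≤ p ^ 2 := by
    rw [← Subgroup.relIndex_mul_relIndex M2 J (Fr E2) hM2J inf_le_right, iJ2] at iM2
    have h1 : M2.relIndex J * p ≤ p ^ 2 * p := by
      calc M2.relIndex J * p ≤ p ^ 3 := iM2
        _ = p ^ 2 * p := by ring
    exact Nat.le_of_mul_le_mul_right h1 hp.out.pos
  have hVJ' : V = J := by
    have h1 := Subgroup.relIndex_mul_relIndex M2 V J hM2V hVJ
    have h3 : p ^ 2 * V.relIndex J ≤ p ^ 2 * 1 := by
      calc p ^ 2 * V.relIndex J ≤ M2.relIndex V * V.relIndex J := Nat.mul_le_mul_right _ iV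
        _ = M2.relIndex J := h1
        _ ≤ p ^ 2 * 1 := by rw [mul_one]; exact iMJ
    have h4 := Nat.le_of_mul_le_mul_left h3 (pow_pos hp.out.pos 2)
    have h5 := relIndex_ne V J
    have h6 : V.relIndex J = 1 := by omega
    rw [Subgroup.relIndex_eq_one] at h6
    exact le_antisymm hVJ h6
  -- `Φ(K)M₂/M₂` is small
  have hsmall : ¬ J ≤ Fr K ⊔ M2 := by
    intro hcon
    have hKab : ∀ a ∈ K, ∀ b ∈ K, ⁅a, b⁆ ∈ M2 :=
      abel_of_index hF2K (dvd_of_eq i2K) (fun f hf k hk => hcM2 f hf k (hKE2 hk))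
    let Q : Subgroup S :=
      { carrier := {z | ∃ k ∈ K, (k ^ p)⁻¹ * z ∈ M2}
        mul_mem' := by
          rintro a b ⟨d, hd, ha⟩ ⟨d', hd', hb⟩
          refine ⟨d * d', K.mul_mem hd hd', ?_⟩
          have h1 := hmk d (hKE2 hd) d' (hKE2 hd')
          rw [← QuotientGroup.eq] at ha hb ⊢
          rw [h1, QuotientGroup.mk_mul, ha, hb]
        one_mem' := ⟨1, K.one_mem, by
          rw [one_pow, inv_one, one_mul]
          exact M2.one_mem⟩
        inv_mem' := by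
          rintro a ⟨d, hd, ha⟩
          refine ⟨d⁻¹, K.inv_mem hd, ?_⟩
          rw [← QuotientGroup.eq] at ha ⊢
          rw [QuotientGroup.mk_inv, ← ha, inv_pow, QuotientGroup.mk_inv] }
    have hMQ : M2 ≤ Q := fun z hz => ⟨1, K.one_mem, by
      rw [one_pow, inv_one, one_mul]
      exact hz⟩
    have hFrQ : Fr K ≤ Q ⊓ K := by
      refine Fr_le_of hS inf_le_right (fun a ha b hb => ⟨hMQ (hKab a ha b hb), ?_⟩) (fun a ha => ⟨⟨a, ha, ?_⟩, K.pow_mem ha p⟩)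
      · show ⁅a, b⁆ ∈ K
        exact cm_of_mem_left ha
      · rw [inv_mul_cancel]
        exact M2.one_mem
    have hQ : Fr K ⊔ M2 ≤ Q := sup_le (hFrQ.trans inf_le_left) hMQ
    have h1 : M2.relIndex Q ≤ p := by
      rw [← i2K]
      refine relIndex_le_of_surj (fun d => d ^ p) (fun d hd => ⟨d, hd, ?_⟩) hM2n (fun a ha b hb => hpw a (hKE2 ha) b (hKE2 hb))
        (fun d _ hd => hpM2 d hd) (fun m hm => hm)
      rw [inv_mul_cancel]
      exact M2.one_mem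
    have h3 : M2.relIndex J ≤ p := (Subgroup.relIndex_le_of_le_right (hcon.trans hQ) (relIndex_ne _ _)).trans h1
    rw [hVJ'] at iV
    have := p_lt_sq (p := p)
    omega
  -- B4
  have hB4 : ¬ ∀ e ∈ E1, ∀ k ∈ K, ⁅e, k⁆ ∈ Fr K := by
    intro h
    apply hsmall
    rw [← hVJ']
    refine sup_le ?_ le_sup_right
    rw [Subgroup.commutator_le]
    intro f hf e he
    exact (le_sup_left : Fr K ≤ Fr K ⊔ M2) (cm_symm (h e he f (hF2K hf)))
  -- B5
  have hFKJ : Fr K ≤ J := le_inf (Fr_mono' hS hKE1) (Fr_mono' hS hKE2)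
  have hJK : J ≤ K := inf_le_left.trans hF1K
  have iFJ : (Fr K).relIndex J ≤ p := by
    apply le_of_mul_le_cube
    rw [← iJK, Subgroup.relIndex_mul_relIndex _ _ _ hFKJ hJK]
    exact Rk.fr hS hR K
  have hJeq : ⁅K, E1⁆ ⊔ Fr K = J := by
    have hle : ⁅K, E1⁆ ⊔ Fr K ≤ J := by
      refine sup_le ?_ hFKJ
      rw [Subgroup.commutator_le]
      exact fun k hk e he => ⟨hcK1 k hk e, hcK2 k hk e⟩
    rcases between (N := Fr K) (X := ⁅K, E1⁆ ⊔ Fr K) (M := J) le_sup_right hle (rel_dvd hS iFJ) with h | h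
    · exfalso
      apply hB4
      intro e he k hk
      apply cm_symm
      rw [← h]
      exact (le_sup_left : _ ≤ ⁅K, E1⁆ ⊔ Fr K) (Subgroup.commutator_mem_commutator hk he)
    · exact h
  have hJi : Inv A1 J := by
    rw [← hJeq]
    exact (N1.invK.comm Inv.self).sup N1.invK.Fr
  -- B6
  have ht1 := nr_triv D1 D2 hne hS h2 N1 R2
  have ht2 := N1.triv J (Fr K) hJi N1.invK.Fr (fun m hm s => comm_mem_of_prime hS hFKJ (rel_dvd hS iFJ) hm s)
  have ht3 : ∀ k ∈ K, k⁻¹ * τ k ∈ Fr K := by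
    intro k hk
    exact triv_trans hS h2 N1.sq (ht2 _ ⟨N1.pos k hk, ht1 k hk⟩)
  exact hB4 (N1.cent_of_triv D1 hS h2 N1.invK N1.invK.Fr ht3 (fun k hk m hm => comm_mem_Fr hS hk hm))

/-- **The natural/regular case.** -/
theorem nr_main (D1 : EssData p E1 A1 B) (D2 : EssData p E2 A2 B) (hne : E1 ≠ E2) (hS : IsPGroup p S) (h2 : p ≠ 2)
    (hR : Rk p S) (N1 : NT p E1 A1 B K W τ) (R2 : RT p E2 A2) : NRConcl p E1 E2 := by
  by_cases hA : K = Fr E1
  · exact nr_A_final D1 D2 hne hS h2 hR N1 R2 hA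
  · exact (nr_B D1 D2 hne hS h2 hR N1 R2 hA).elim

end Cfsg.Agent.H767.TE
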