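import Cfsg.Agent.H767.TETypes
import Cfsg.Agent.H802.FusNorm
import Cfsg.Agent.H802.FusEss
import Cfsg.Agent.H765.Ess
import Cfsg.Agent.H765.GL3b
import Cfsg.Agent.H765.Sec
import Cfsg.Prelude.Def_CaseTheorems

/-!
# From fusion systems to the abstract data of a maximal subgroup (helper767)
-/

set_option autoImplicit false
set_option linter.unusedSectionVars false
set_option linter.unusedVariables false

namespace Cfsg.Agent.H767.TE

open Subgroup Cfsg Cfsg.FusionSystem Cfsg.Agent.H802
open scoped commutatorElement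

universe u

theorem rk_of_sectional {S : Type*} [Group S] {p : ℕ} (h : SectionalPRankLE p 3 S) : Rk p S := by
  intro N M hNM hc hpow
  have hn : (N.subgroupOf M).Normal := by
    refine ⟨fun n hn g => ?_⟩
    rw [Subgroup.mem_subgroupOf] at hn ⊢
    have h1 := hc g g.2 n n.2
    rw [commutatorElement_def] at h1
    have h2 := N.mul_mem h1 hn
    rwa [inv_mul_cancel_right] at h2
  have h1 := h M (N.subgroupOf M) ⊤ ⟨⟨by
    rintro ⟨a, ha⟩ ⟨b, hb⟩
    apply Subtype.ext
    show a * b = b * a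
    induction a using QuotientGroup.induction_on with
    | H x =>
      induction b using QuotientGroup.induction_on with
      | H y =>
        show (QuotientGroup.mk (x * y) : M ⧸ N.subgroupOf M) = QuotientGroup.mk (y * x)
        rw [QuotientGroup.eq, Subgroup.mem_subgroupOf]
        have h3 := hc _ (M.inv_mem y.2) _ (M.inv_mem x.2)
        have e : (((x * y)⁻¹ * (y * x) : M) : S) = ⁅(y : S)⁻¹, (x : S)⁻¹⁆ := by
          rw [commutatorElement_def]
          push_cast
          group
        rw [e]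
        exact h3⟩⟩ (by
    intro a _
    induction a using QuotientGroup.induction_on with
    | H x =>
      rw [← QuotientGroup.mk_pow, QuotientGroup.eq_one_iff, Subgroup.mem_subgroupOf]
      exact hpow x x.2)
  rw [Subgroup.card_top] at h1
  exact h1

variable {Ω : Type u} [Group Ω] {S : Subgroup Ω} {p : ℕ} [hp : Fact p.Prime]

/-- the identification -/
noncomputable def eS {E : Subgroup Ω} (h : E ≤ S) : (E.subgroupOf S) ≃* E := Subgroup.subgroupOfEquivOfLe h

theorem eS_coe {E : Subgroup Ω} (h : E ≤ S) (x : E.subgroupOf S) : ((eS h x : E) : Ω) = ((x : S) : Ω) := rfl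

theorem eS_symm_coe {E : Subgroup Ω} (h : E ≤ S) (x : E) : (((eS h).symm x : S) : Ω) = x := rfl

/-- `Aut_F(E)` acting on `E` as a subgroup of the type `S` -/
noncomputable def AF (F : FusionSystem S) {E : Subgroup Ω} (h : E ≤ S) : Subgroup (MulAut (E.subgroupOf S)) :=
  (F.autGroup E).comap (MulAut.congr (eS h)).toMonoidHom

theorem mem_AF {F : FusionSystem S} {E : Subgroup Ω} {h : E ≤ S} {α : MulAut (E.subgroupOf S)} :
    α ∈ AF F h ↔ MulAut.congr (eS h) α ∈ F.autGroup E := Iff.rfl

theorem congr_coe {E : Subgroup Ω} (h : E ≤ S) (α : MulAut (E.subgroupOf S)) (x : E) :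
    ((MulAut.congr (eS h) α x : E) : Ω) = ((α ((eS h).symm x) : S) : Ω) := rfl

theorem congr_symm_coe {E : Subgroup Ω} (h : E ≤ S) (α : MulAut E) (x : E.subgroupOf S) :
    ((((MulAut.congr (eS h)).symm α x : E.subgroupOf S) : S) : Ω) = α (eS h x) := rfl

theorem symm_mem_AF {F : FusionSystem S} {E : Subgroup Ω} {h : E ≤ S} {α : MulAut E} (hα : α ∈ F.autGroup E) :
    (MulAut.congr (eS h)).symm α ∈ AF F h := by
  rw [mem_AF, MulEquiv.apply_symm_apply]
  exact hα

theorem conj_mem_autTop (F : FusionSystem S) (s : S) : MulAut.conj s ∈ F.autGroup S := by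
  rw [mem_autGroup_iff F le_rfl]
  exact mem_of_apply_eq (F.conj_mem le_rfl s.2) (fun x => rfl)

theorem normal_of_inv (F : FusionSystem S) {E : Subgroup Ω}
    (hc : ∀ φ : MulAut S, φ ∈ F.autGroup S → (E.subgroupOf S).map φ.toMonoidHom = E.subgroupOf S) : (E.subgroupOf S).Normal := by
  refine ⟨fun n hn g => ?_⟩
  have h1 := hc _ (conj_mem_autTop F g)
  rw [← h1]
  exact ⟨n, hn, rfl⟩

section ess

variable [Finite S] {F : FusionSystem S} {E : Subgroup Ω}

/-- the data without restriction of automorphisms of `S` -/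
structure ED0 {S : Type*} [Group S] [Finite S] (p : ℕ) (E : Subgroup S) [hE : E.Normal] (A : Subgroup (MulAut E))
    (B : Subgroup (MulAut S)) : Prop where
  index : E.index = p
  cent : ∀ s : S, (∀ e ∈ E, s * e = e * s) → s ∈ E
  conjA : ∀ s : S, MulAut.conjNormal (H := E) s ∈ A
  radical : ∀ N : Subgroup (MulAut E), N ≤ A → (∀ α ∈ A, ∀ n ∈ N, α * n * α⁻¹ ∈ N) → IsPGroup p N →
    ∀ n ∈ N, ∃ e ∈ E, n = MulAut.conjNormal (H := E) e
  sylow : ∀ Q : Subgroup (MulAut E), Q ≤ A → IsPGroup p Q → (MulAut.conjNormal (H := E)).range ≤ Q →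
    Q = (MulAut.conjNormal (H := E)).range
  ext : ∀ α ∈ A, (∀ s : S, ∃ s' : S, α * MulAut.conjNormal (H := E) s * α⁻¹ = MulAut.conjNormal (H := E) s') →
    ∃ β ∈ B, ∀ e : E, β e = α e

theorem ed0_of (hS : IsPGroup p S) (hF : F.IsSaturated p) (hE : F.IsEssential p E)
    [hn : (E.subgroupOf S).Normal] (hidx : (E.subgroupOf S).index = p) :
    ED0 p (E.subgroupOf S) (AF F hE.1.1) (F.autGroup S) := by
  have hES : E ≤ S := hE.1.1
  have hfin : Finite E := finite_of_le hES
  have hrec := isReceptive_of_isFullyNormalized hS hF hE.2.1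
  have haut := isFullyAutomized_of_isFullyNormalized hS hF hE.2.1
  have hnorm : ∀ s : S, (s : Ω) ∈ Subgroup.normalizer (E : Set Ω) := by
    intro s
    rw [Subgroup.mem_normalizer_iff]
    intro x
    constructor
    · intro hx
      exact hn.conj_mem ⟨x, hES hx⟩ hx s
    · intro hx
      have hxS : x ∈ S := by
        have := S.mul_mem (S.mul_mem (S.inv_mem s.2) (hES hx)) s.2
        have e : (s : Ω)⁻¹ * (s * x * (s : Ω)⁻¹) * s = x := by group
        rwa [e] at this
      have h1 := hn.conj_mem ⟨s * x * (s : Ω)⁻¹, hES hx⟩ hx s⁻¹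
      rw [Subgroup.mem_subgroupOf] at h1
      have e : ((s⁻¹ * ⟨s * x * (s : Ω)⁻¹, hES hx⟩ * s⁻¹⁻¹ : S) : Ω) = x := by
        show (s : Ω)⁻¹ * (s * x * (s : Ω)⁻¹) * ((s : Ω)⁻¹)⁻¹ = x
        group
      rwa [e] at h1
  -- conjugations
  have hconj : ∀ s : S, MulAut.congr (eS hES) (MulAut.conjNormal (H := E.subgroupOf S) s) ∈ autInducedBy S E := by
    intro s
    rw [mem_autInducedBy_iff]
    exact ⟨s, s.2, fun x => by rw [congr_coe, MulAut.conjNormal_apply]; rfl⟩
  have hconj' : ∀ α ∈ autInducedBy S E, ∃ s : S, (MulAut.congr (eS hES)).symm α = MulAut.conjNormal (H := E.subgroupOf S) s := by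
    intro α hα
    obtain ⟨g, hg, h⟩ := (mem_autInducedBy_iff S E α).1 hα
    refine ⟨⟨g, hg⟩, ?_⟩
    ext x
    rw [congr_symm_coe, MulAut.conjNormal_apply, h]
    rfl
  refine ⟨hidx, ?_, ?_, ?_, ?_, ?_⟩
  · intro s hs
    have h1 : (s : Ω) ∈ centralizerIn S E := by
      refine ⟨s.2, Subgroup.mem_centralizer_iff.2 fun x hx => ?_⟩
      have := hs ⟨x, hES hx⟩ hx
      exact (congrArg Subtype.val this).symm
    exact hE.1.2 E (isConj_refl F hES) h1
  · intro s
    exact autInducedBy_le_autGroup F hES (hconj s)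
  · intro N hN hNn hNp n hnN
    have h1 := Cfsg.Agent.H765.Ess.le_inn hS hE (N.map (MulAut.congr (eS hES)).toMonoidHom) (by
      rintro _ ⟨m, hm, rfl⟩
      exact hN hm) (by
      rintro a ha _ ⟨m, hm, rfl⟩
      refine ⟨(MulAut.congr (eS hES)).symm a * m * ((MulAut.congr (eS hES)).symm a)⁻¹, hNn _ (symm_mem_AF ha) m hm, ?_⟩
      show MulAut.congr (eS hES) ((MulAut.congr (eS hES)).symm a * m * ((MulAut.congr (eS hES)).symm a)⁻¹) = a * MulAut.congr (eS hES) m * a⁻¹
      rw [map_mul, map_mul, map_inv, MulEquiv.apply_symm_apply]) (hNp.map _)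
    obtain ⟨e, he⟩ := h1 ⟨n, hnN, rfl⟩
    refine ⟨⟨e, hES e.2⟩, e.2, ?_⟩
    have h2 : n = (MulAut.congr (eS hES)).symm (MulAut.conj e) := by
      rw [MulEquiv.eq_symm_apply]
      exact he.symm
    rw [h2]
    ext x
    rw [congr_symm_coe, MulAut.conjNormal_apply]
    rfl
  · intro Q hQ hQp hle
    obtain ⟨-, R, hR⟩ := haut
    have hQm : (Q.map (MulAut.congr (eS hES)).toMonoidHom) ≤ F.autGroup E := by
      rintro _ ⟨m, hm, rfl⟩
      exact hQ hm
    have h1 : IsPGroup p ((Q.map (MulAut.congr (eS hES)).toMonoidHom).subgroupOf (F.autGroup E)) :=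
      (hQp.map _).comap_of_injective _ (Subgroup.subtype_injective _)
    have h2 : (R : Subgroup (F.autGroup E)) ≤ (Q.map (MulAut.congr (eS hES)).toMonoidHom).subgroupOf (F.autGroup E) := by
      rw [hR]
      intro x hx
      rw [Subgroup.mem_subgroupOf] at hx ⊢
      obtain ⟨s, hs⟩ := hconj' _ hx
      refine ⟨(MulAut.congr (eS hES)).symm x, hle ⟨s, hs.symm⟩, ?_⟩
      exact MulEquiv.apply_symm_apply _ _
    have h3 := R.is_maximal' h1 h2
    refine le_antisymm ?_ hle
    intro q hq
    have h4 : MulAut.congr (eS hES) q ∈ autInducedBy S E := by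
      have h5 : (⟨MulAut.congr (eS hES) q, hQ hq⟩ : F.autGroup E) ∈ (Q.map (MulAut.congr (eS hES)).toMonoidHom).subgroupOf (F.autGroup E) :=
        ⟨q, hq, rfl⟩
      rw [h3, hR] at h5
      exact h5
    obtain ⟨s, hs⟩ := hconj' _ h4
    rw [MulEquiv.symm_apply_apply] at hs
    exact ⟨s, hs.symm⟩
  · intro α hα hs
    have hα' := (mem_autGroup_iff F hES _).1 (mem_AF.1 hα)
    have hr : (E.subtype.comp (MulAut.congr (eS hES) α).toMonoidHom).range = E :=
      range_eq_of_mapsTo hα' (fun x => (MulAut.congr (eS hES) α x).2)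
    obtain ⟨ψ, hψ, he⟩ := hrec.2 E _ hα' hr
    have hext : extender S E (E.subtype.comp (MulAut.congr (eS hES) α).toMonoidHom) = S := by
      apply le_antisymm (extender_le _ _ _)
      intro g hg
      rw [mem_extender_iff]
      refine ⟨hg, hnorm ⟨g, hg⟩, ?_⟩
      obtain ⟨s', hs'⟩ := hs ⟨g, hg⟩
      refine ⟨s', s'.2, fun x hx => ?_⟩
      have h1 : α * MulAut.conjNormal (H := E.subgroupOf S) ⟨g, hg⟩ = MulAut.conjNormal (H := E.subgroupOf S) s' * α := by
        rw [← hs', inv_mul_cancel_right]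
      have h2 := congrArg (fun β : MulAut (E.subgroupOf S) => ((β ((eS hES).symm x) : S) : Ω)) h1
      simp only [MulAut.mul_apply, MulAut.conjNormal_apply] at h2
      have h3 : MulAut.conjNormal (H := E.subgroupOf S) ⟨g, hg⟩ ((eS hES).symm x) = (eS hES).symm ⟨g * x * g⁻¹, hx⟩ := by
        apply Subtype.ext
        rw [MulAut.conjNormal_apply]
        rfl
      rw [h3] at h2
      exact h2
    have hψS : ∃ ψ' ∈ F.Hom S, ∀ (x : Ω) (hx : x ∈ E), ψ' ⟨x, hES hx⟩ = (MulAut.congr (eS hES) α ⟨x, hx⟩ : E) := by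
      refine ⟨ψ.comp (Subgroup.inclusion hext.ge), restrict_mem hψ hext.ge, fun x hx => ?_⟩
      exact he x hx _
    obtain ⟨ψ', hψ', he'⟩ := hψS
    obtain ⟨β, hβ, hβe⟩ := exists_aut hψ' (range_eq_of_mapsTo hψ' (fun x => hom_apply_mem hψ' x))
    refine ⟨β, hβ, fun e => ?_⟩
    apply Subtype.ext
    have h1 := he' e e.2
    rw [hβe]
    exact h1

theorem essData_of (hS : IsPGroup p S) (hF : F.IsSaturated p) (hE : F.IsEssential p E)
    (hc : ∀ φ : MulAut S, φ ∈ F.autGroup S → (E.subgroupOf S).map φ.toMonoidHom = E.subgroupOf S)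
    [hn : (E.subgroupOf S).Normal] (hidx : (E.subgroupOf S).index = p) :
    EssData p (E.subgroupOf S) (AF F hE.1.1) (F.autGroup S) := by
  have hES : E ≤ S := hE.1.1
  have hfin : Finite E := finite_of_le hES
  have h := ed0_of hS hF hE hidx
  refine ⟨h.index, h.cent, h.conjA, h.radical, h.sylow, h.ext, ?_⟩
  · intro β hβ
    have hβE : ∀ x : E, ((β ⟨x, hES x.2⟩ : S) : Ω) ∈ E := by
      intro x
      have h1 := hc β hβ
      have h2 : β ⟨x, hES x.2⟩ ∈ E.subgroupOf S := by
        rw [← h1]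
        exact ⟨⟨x, hES x.2⟩, x.2, rfl⟩
      exact h2
    have hβ' := (mem_autGroup_iff F le_rfl β).1 hβ
    have h3 := restrict_mem hβ' hES
    obtain ⟨α, hα, hαe⟩ := exists_aut h3 (range_eq_of_mapsTo h3 (fun x => hβE x))
    refine ⟨(MulAut.congr (eS hES)).symm α, symm_mem_AF hα, fun e => ?_⟩
    apply Subtype.ext
    rw [congr_symm_coe, hαe]
    rfl

theorem index_of (hS : IsPGroup p S) (h2 : p ≠ 2) (hR : Rk p S) (hF : F.IsSaturated p) (hE : F.IsEssential p E)
    [hn : (E.subgroupOf S).Normal] : (E.subgroupOf S).index = p := by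
  have hES : E ≤ S := hE.1.1
  have hfin : Finite E := finite_of_le hES
  have hconj : ∀ s : S, MulAut.congr (eS hES) (MulAut.conjNormal (H := E.subgroupOf S) s) ∈ autInducedBy S E := by
    intro s
    rw [mem_autInducedBy_iff]
    exact ⟨s, s.2, fun x => by rw [congr_coe, MulAut.conjNormal_apply]; rfl⟩
  have hle := autInducedBy_le_autGroup F hES
  -- the action on `E/Φ(E)`
  obtain ⟨f, hf⟩ : ∃ f : F.autGroup E →* MulAut (FV hS (E.subgroupOf S)),
      ∀ a : F.autGroup E, f a = actV hS (E.subgroupOf S) ((MulAut.congr (eS hES)).symm a) :=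
    ⟨(actV hS (E.subgroupOf S)).comp ((MulAut.congr (eS hES)).symm.toMonoidHom.comp (F.autGroup E).subtype), fun a => rfl⟩
  have hker : f.ker = (Inn E).subgroupOf (F.autGroup E) := by
    apply le_antisymm
    · intro x hx
      have h1 := Cfsg.Agent.H765.Ess.le_inn hS hE (f.ker.map (F.autGroup E).subtype) (Subgroup.map_subtype_le _) (by
        rintro a ha _ ⟨m, hm, rfl⟩
        have h3 : f.ker.Normal := inferInstance
        exact ⟨⟨a, ha⟩ * m * (⟨a, ha⟩ : F.autGroup E)⁻¹, h3.conj_mem m hm ⟨a, ha⟩, rfl⟩) (by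
        have h3 : IsPGroup p f.ker := by
          rintro ⟨y, hy⟩
          have hy' : (⟨(MulAut.congr (eS hES)).symm y, symm_mem_AF y.2⟩ : AF F hES) ∈ (rho hS (AF F hES)).ker := by
            rw [MonoidHom.mem_ker, hf] at hy
            rw [MonoidHom.mem_ker]
            exact hy
          obtain ⟨k, hk⟩ := rho_ker hS ⟨_, hy'⟩
          refine ⟨k, ?_⟩
          apply Subtype.ext
          apply Subtype.ext
          show (y : MulAut E) ^ p ^ k = 1
          have h4 : ((MulAut.congr (eS hES)).symm (y : MulAut E)) ^ p ^ k = 1 :=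
            congrArg (fun z : (rho hS (AF F hES)).ker => ((z : AF F hES) : MulAut (E.subgroupOf S))) hk
          rw [← map_pow] at h4
          exact (MulAut.congr (eS hES)).symm.injective (by rw [h4, map_one])
        exact h3.map _)
      exact h1 ⟨x, hx, rfl⟩
    · intro x hx
      rw [Subgroup.mem_subgroupOf] at hx
      obtain ⟨e, he⟩ := hx
      rw [MonoidHom.mem_ker, hf]
      have h2 : (MulAut.congr (eS hES)).symm (x : MulAut E) = MulAut.conjNormal (H := E.subgroupOf S) ⟨e, hES e.2⟩ := by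
        rw [← he]
        ext z
        rw [congr_symm_coe, MulAut.conjNormal_apply]
        rfl
      rw [h2]
      exact inner_triv hS (show (⟨e, hES e.2⟩ : S) ∈ E.subgroupOf S from e.2)
  obtain ⟨hcen, hfn, hnorm, M, hM⟩ := hE
  have hfinX : Finite (F.autGroup E ⧸ (Inn E).subgroupOf (F.autGroup E)) := inferInstance
  let g : (F.autGroup E ⧸ (Inn E).subgroupOf (F.autGroup E)) →* MulAut (FV hS (E.subgroupOf S)) :=
    QuotientGroup.lift _ f (fun x hx => by
      rw [← hker] at hx
      exact hx)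
  have hginj : Function.Injective g := by
    rw [injective_iff_map_eq_one]
    intro x hx
    induction x using QuotientGroup.induction_on with
    | H y =>
      rw [QuotientGroup.eq_one_iff, ← hker]
      exact hx
  have hexp : ∀ q : Additive (FV hS (E.subgroupOf S)), p • q = 0 := by
    intro q
    obtain ⟨e, he⟩ := mkV_surj hS (E.subgroupOf S) (Additive.toMul q)
    apply Additive.toMul.injective
    show (Additive.toMul q) ^ p = 1
    rw [← he, ← map_pow, mkV_one]
    exact pow_mem_Fr hS e.2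
  obtain ⟨i3, ρ, hρ⟩ := Cfsg.Agent.H765.exists_rep_aux hexp
    (fun x : (F.autGroup E ⧸ (Inn E).subgroupOf (F.autGroup E)) => MonoidHom.toAdditive (g x).toMonoidHom)
    (fun q => by
      show Additive.ofMul (g 1 (Additive.toMul q)) = q
      rw [map_one]
      rfl)
    (fun x y q => by
      show Additive.ofMul (g (x * y) (Additive.toMul q)) = Additive.ofMul (g x (g y (Additive.toMul q)))
      rw [map_mul]
      rfl)
  have hρinj : Function.Injective ρ := by
    intro x y hxy
    apply hginj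
    ext q
    have h1 : ρ x (Additive.ofMul q) = ρ y (Additive.ofMul q) := by rw [hxy]
    rw [hρ, hρ] at h1
    exact congrArg Additive.toMul h1
  have hfr : Module.finrank (ZMod p) (Additive (FV hS (E.subgroupOf S))) ≤ 3 := by
    have h1 : Nat.card (Additive (FV hS (E.subgroupOf S))) = Nat.card (ZMod p) ^ Module.finrank (ZMod p) (Additive (FV hS (E.subgroupOf S))) :=
      Module.natCard_eq_pow_finrank
    have h3 : Nat.card (Additive (FV hS (E.subgroupOf S))) = Nat.card (FV hS (E.subgroupOf S)) := rfl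
    rw [h3, card_FV, Nat.card_zmod] at h1
    have h4 : (Fr (E.subgroupOf S)).relIndex (E.subgroupOf S) ≤ p ^ 3 :=
      hR _ _ (Fr_le _) (fun a ha b hb => comm_mem_Fr hS ha hb) (fun a ha => pow_mem_Fr hS ha)
    rw [h1] at h4
    exact (Nat.pow_le_pow_iff_right hp.out.one_lt).1 h4
  have hnd := Cfsg.Agent.H765.GL3.not_sq_dvd hρinj hfr hM
  -- the order of `S/E`
  let h : S →* (F.autGroup E ⧸ (Inn E).subgroupOf (F.autGroup E)) :=
    (QuotientGroup.mk' ((Inn E).subgroupOf (F.autGroup E))).comp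
      (((MulAut.congr (eS hES)).toMonoidHom.comp (MulAut.conjNormal (H := E.subgroupOf S))).codRestrict (F.autGroup E)
        (fun s => hle (hconj s)))
  have hk : h.ker = E.subgroupOf S := by
    ext s
    rw [MonoidHom.mem_ker]
    constructor
    · intro hs
      have h1 : (⟨MulAut.congr (eS hES) (MulAut.conjNormal (H := E.subgroupOf S) s), hle (hconj s)⟩ : F.autGroup E) ∈
          (Inn E).subgroupOf (F.autGroup E) := (QuotientGroup.eq_one_iff _).1 hs
      rw [Subgroup.mem_subgroupOf] at h1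
      exact mem_of_conj_mem_inn hES (hcen.2 E (isConj_refl F hES)) s.2
        (fun x => by rw [congr_coe, MulAut.conjNormal_apply]; rfl) h1
    · intro hs
      show (QuotientGroup.mk (⟨MulAut.congr (eS hES) (MulAut.conjNormal (H := E.subgroupOf S) s), hle (hconj s)⟩ : F.autGroup E) :
        (F.autGroup E ⧸ (Inn E).subgroupOf (F.autGroup E))) = 1
      rw [QuotientGroup.eq_one_iff, Subgroup.mem_subgroupOf]
      refine ⟨⟨s, hs⟩, ?_⟩
      ext x
      rw [congr_coe, MulAut.conjNormal_apply]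
      rfl
  have hdvd : (E.subgroupOf S).index ∣ Nat.card (F.autGroup E ⧸ (Inn E).subgroupOf (F.autGroup E)) := by
    rw [← hk, Subgroup.index_ker]
    exact Subgroup.card_subgroup_dvd_card _
  obtain ⟨k, hk2⟩ := hS.index (E.subgroupOf S)
  have hk1 : k ≤ 1 := by
    by_contra hcon
    push Not at hcon
    apply hnd
    rw [hk2] at hdvd
    exact (pow_dvd_pow p hcon).trans hdvd
  have hk0 : k ≠ 0 := by
    rintro rfl
    rw [pow_zero, Subgroup.index_eq_one] at hk2
    apply ne_of_isEssential hS hF ⟨hcen, hfn, hnorm, M, hM⟩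
    apply le_antisymm hES
    rwa [Subgroup.subgroupOf_eq_top] at hk2
  have hk3 : k = 1 := by omega
  rw [hk2, hk3, pow_one]

end ess

end Cfsg.Agent.H767.TE
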