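import Cfsg.Agent.H767.TERR
import Cfsg.Agent.H767.TEFus
import Cfsg.Agent.H771.ModelUnique
import Cfsg.Agent.H782.NormSys
import Cfsg.Agent.H781.NormSys

/-!
# Models of the normalizers of the essential subgroups (helper767)
-/

set_option autoImplicit false
set_option linter.unusedSectionVars false
set_option linter.unusedVariables false

namespace Cfsg.Agent.H767.TE

open Subgroup Cfsg Cfsg.FusionSystem Cfsg.Agent.H802
open scoped commutatorElement

universe u

variable {Ω : Type u} [Group Ω] {S : Subgroup Ω} {p : ℕ} [hp : Fact p.Prime]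
variable [Finite S] {F : FusionSystem S} {E : Subgroup Ω}

theorem le_normalizer_of_subgroupOf (hES : E ≤ S) [hn : (E.subgroupOf S).Normal] : S ≤ Subgroup.normalizer (E : Set Ω) := by
  intro s hs
  rw [Subgroup.mem_normalizer_iff]
  have h1 : ∀ s ∈ S, ∀ x ∈ E, s * x * s⁻¹ ∈ E := by
    intro s hs x hx
    exact hn.conj_mem ⟨x, hES hx⟩ hx ⟨s, hs⟩
  intro x
  constructor
  · exact h1 s hs x
  · intro hx
    have h2 := h1 s⁻¹ (S.inv_mem hs) _ hx
    have e : s⁻¹ * (s * x * s⁻¹) * s⁻¹⁻¹ = x := by group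
    rwa [e] at h2

theorem exists_mdl (hS : IsPGroup p S) (hF : F.IsSaturated p) (hE : F.IsEssential p E)
    [hn : (E.subgroupOf S).Normal] :
    ∃ (G : Type u) (_ : Group G) (_ : Finite G) (ι : S →* G), Mdl p (E.subgroupOf S) (AF F hE.1.1) ι := by
  have hES : E ≤ S := hE.1.1
  have hfinE : Finite E := finite_of_le hES
  have hT : normalizerIn S E = S := inf_eq_left.2 (le_normalizer_of_subgroupOf hES)
  have hfinN : Finite (normalizerIn S E) := finite_of_le inf_le_left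
  obtain ⟨N, hN⟩ := exists_normalizerSystem F hES
  have hNsat := normalizerSystem_isSaturated hS hF hE.2.1 hN
  have hNn := Cfsg.Agent.H782.NormSys.isNormal_of_isNormalizerSystem hES hN
  have hNc := Cfsg.Agent.H782.NormSys.isCentric_of_isNormalizerSystem hE.1 hN
  have hNp : IsPGroup p (normalizerIn S E) := hS.of_injective (Subgroup.inclusion inf_le_left) (Subgroup.inclusion_injective _)
  obtain ⟨L, hL, ι0, ⟨hfin, hreal, ⟨P, hP⟩, -⟩, hnor, hcen⟩ := Cfsg.Agent.H771.exists_model hNp hNsat hNn hNc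
  have hSN : ∀ s : S, (s : Ω) ∈ normalizerIn S E := fun s => by rw [hT]; exact s.2
  let ι : S →* L := ι0.comp (MulEquiv.subgroupCongr hT.symm).toMonoidHom
  have hι : ∀ s : S, ι s = ι0 ⟨s, hSN s⟩ := fun s => rfl
  have hEN : E ≤ normalizerIn S E := le_normalizerIn hES
  refine ⟨L, hL, hfin, ι, ?_, ?_, ?_, ?_, ?_⟩
  · intro a b hab
    have h1 := hreal.1 hab
    have h2 : (a : Ω) = (b : Ω) := congrArg (fun z : normalizerIn S E => (z : Ω)) h1
    exact Subtype.ext h2
  · refine ⟨P, ?_⟩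
    rw [hP]
    apply le_antisymm
    · rintro _ ⟨x, rfl⟩
      exact ⟨⟨x, x.2.1⟩, rfl⟩
    · rintro _ ⟨x, rfl⟩
      exact ⟨_, rfl⟩
  · intro g hg
    have h1 : g ∈ Subgroup.centralizer (((E.subgroupOf (normalizerIn S E)).map ι0 : Subgroup L) : Set L) := by
      rw [Subgroup.mem_centralizer_iff]
      rintro _ ⟨e, he, rfl⟩
      exact (hg ⟨e, e.2.1⟩ he).symm
    obtain ⟨e, he, h2⟩ := hcen h1
    exact ⟨⟨e, e.2.1⟩, he, h2⟩
  · intro g
    have h1 : ∀ e : E, ∃ x : E, ι0 ⟨x, hEN x.2⟩ = g * ι0 ⟨e, hEN e.2⟩ * g⁻¹ := by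
      intro e
      obtain ⟨x, hx, h2⟩ := hnor.conj_mem _ ⟨⟨e, hEN e.2⟩, e.2, rfl⟩ g
      exact ⟨⟨x, hx⟩, h2⟩
    choose f hf using h1
    let φ : E →* Ω := MonoidHom.mk' (fun e => (f e : Ω)) (by
      intro a b
      have h2 : (⟨f (a * b), hEN (f (a * b)).2⟩ : normalizerIn S E) = ⟨f a, hEN (f a).2⟩ * ⟨f b, hEN (f b).2⟩ := by
        apply hreal.1
        rw [map_mul, hf, hf, hf]
        have h3 : (⟨((a * b : E) : Ω), hEN (a * b).2⟩ : normalizerIn S E) = ⟨a, hEN a.2⟩ * ⟨b, hEN b.2⟩ := rfl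
        rw [h3, map_mul]
        group
      exact congrArg Subtype.val h2)
    have hφ : ∀ x : E, φ x ∈ normalizerIn S E := fun x => hEN (f x).2
    have h2 : φ ∈ N.Hom E := (hreal.2 E hEN φ hφ).2 ⟨g, fun x => hf x⟩
    have h3 : φ ∈ F.Hom E := by
      rw [hN] at h2
      exact h2.1
    obtain ⟨α, hα, hαe⟩ := exists_aut h3 (range_eq_of_mapsTo h3 (fun x => (f x).2))
    refine ⟨(MulAut.congr (eS hES)).symm α, symm_mem_AF hα, fun e => ?_⟩
    have h4 := hf (eS hES e)
    have h5 : ((((MulAut.congr (eS hES)).symm α e : E.subgroupOf S) : S) : Ω) = f (eS hES e) := by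
      rw [congr_symm_coe, hαe]
      rfl
    have h6 : ι (((MulAut.congr (eS hES)).symm α e : E.subgroupOf S) : S) = ι0 ⟨f (eS hES e), hEN (f (eS hES e)).2⟩ := by
      rw [hι]
      congr 1
      exact Subtype.ext h5
    rw [h6, h4]
    rfl
  · intro α hα
    have h1 : MulAut.congr (eS hES) α ∈ N.autGroup E := by
      rw [Cfsg.Agent.H781.autGroup_normalizerSystem hES hN]
      exact hα
    have h2 := (mem_autGroup_iff N hEN _).1 h1
    obtain ⟨g, hg⟩ := (hreal.2 E hEN _ (fun x => hEN (MulAut.congr (eS hES) α x).2)).1 h2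
    refine ⟨g, fun e => ?_⟩
    exact hg (eS hES e)

end Cfsg.Agent.H767.TE
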