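import Cfsg.Agent.H767.TENNFin
import Cfsg.Agent.H767.TEModel
import Cfsg.Agent.H767.TEElimNR
import Cfsg.Agent.H767.Sp4Syl
import Cfsg.Agent.J2Type.ExtCube

/-!
# Two essential subgroups invariant under `Aut_F(S)`: the conclusion (helper767)
-/

set_option autoImplicit false
set_option linter.unusedSectionVars false
set_option linter.unusedVariables false

namespace Cfsg.Agent.H767.TE

open Subgroup Cfsg Cfsg.FusionSystem Cfsg.Agent.H802
open scoped commutatorElement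

universe u

variable {Ω : Type u} [Group Ω] {S : Subgroup Ω} {p : ℕ} [hp : Fact p.Prime]
variable [Finite S]

theorem nr_iso (h2 : p ≠ 2) {E1 E2 : Subgroup S} (hE2 : E2.Normal) (C : NRConcl p E1 E2) :
    ∃ P : Sylow p ↥(Matrix.symplecticGroup (Fin 2) (ZMod p)),
        Nonempty (↥S ≃* ↥(P : Subgroup ↥(Matrix.symplecticGroup (Fin 2) (ZMod p)))) := by
  obtain ⟨y, hy, v, hv, hne⟩ := C.reg
  refine Cfsg.Agent.H767.Sp4Syl.iso_sylow_of_regular h2 C.card hE2 C.comm2 C.exp2 C.card2 (C.exp1 y hy) hv ?_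
  intro h
  apply hne
  have h1 : y * v * y⁻¹ ∈ E2 := hE2.conj_mem v hv y
  have h3 : ⁅y, v⁆ = v⁻¹ * (y * v * y⁻¹) := by
    rw [commutatorElement_def]
    exact C.comm2 _ h1 _ (E2.inv_mem hv)
  rw [commutatorElement_def y ⁅y, v⁆, h3, h, mul_inv_cancel]

theorem nr_struct {E₁ E₂ : Subgroup Ω} (h1 : E₁ ≤ S) (h2 : E₂ ≤ S) (C : NRConcl p (E₁.subgroupOf S) (E₂.subgroupOf S)) :
    Cfsg.IsExtraspecial p ↥E₁ ∧ Nat.card E₁ = p ^ 3 ∧ (∀ x ∈ E₁, x ^ p = 1) ∧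
          Cfsg.IsElementaryAbelian p E₂ ∧ Nat.card E₂ = p ^ 3 := by
  have hfin1 : Finite E₁ := finite_of_le h1
  have hc1 : Nat.card E₁ = p ^ 3 := by
    rw [← C.card1]
    exact (Nat.card_congr (eS h1).toEquiv).symm
  have hc2 : Nat.card E₂ = p ^ 3 := by
    rw [← C.card2]
    exact (Nat.card_congr (eS h2).toEquiv).symm
  refine ⟨?_, hc1, ?_, ⟨⟨⟨?_⟩⟩, ?_⟩, hc2⟩
  · apply Cfsg.Agent.J2Type.ExtCube.isExtraspecial_of_card_cube hc1
    obtain ⟨a, ha, b, hb, hab⟩ := C.ncomm1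
    refine ⟨⟨a, ha⟩, ⟨b, hb⟩, fun h => hab ?_⟩
    apply Subtype.ext
    exact congrArg (fun z : E₁ => (z : Ω)) h
  · intro x hx
    have h3 := C.exp1 ⟨x, h1 hx⟩ hx
    exact congrArg Subtype.val h3
  · intro a b
    have h3 := C.comm2 ⟨a, h2 a.2⟩ a.2 ⟨b, h2 b.2⟩ b.2
    apply Subtype.ext
    exact congrArg (fun z : S => (z : Ω)) h3
  · intro a ha
    have h3 := C.exp2 ⟨a, h2 ha⟩ ha
    exact congrArg Subtype.val h3

end Cfsg.Agent.H767.TE
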