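import Cfsg.Agent.H767.TENT

/-!
# Elimination of the configuration `W = E₁ ∩ E₂` (helper767)
-/

set_option autoImplicit false
set_option linter.unusedSectionVars false
set_option linter.unusedVariables false

namespace Cfsg.Agent.H767.TE

open Subgroup
open scoped commutatorElement

variable {S : Type*} [Group S] [Finite S] {p : ℕ} [hp : Fact p.Prime]

section single

variable {E : Subgroup S} [hE : E.Normal] {A : Subgroup (MulAut E)} {B : Subgroup (MulAut S)} {K W : Subgroup S} {τ : MulAut S}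

theorem Rk.fr (hS : IsPGroup p S) (hR : Rk p S) (M : Subgroup S) : (Fr M).relIndex M ≤ p ^ 3 :=
  hR _ _ (Fr_le M) (fun a ha b hb => comm_mem_Fr hS ha hb) (fun a ha => pow_mem_Fr hS ha)

theorem le_of_mul_le_cube {a : ℕ} (h : a * p ^ 2 ≤ p ^ 3) : a ≤ p := by
  have h1 : a * p ^ 2 ≤ p * p ^ 2 := by
    calc a * p ^ 2 ≤ p ^ 3 := h
      _ = p * p ^ 2 := by ring
  exact Nat.le_of_mul_le_mul_right h1 (pow_pos hp.out.pos 2)

theorem NT.idxWE (D : EssData p E A B) (N : NT p E A B K W τ) : W.relIndex E ∣ p := by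
  have hWn := N.invW.normal D
  have h1 : W.relIndex (K ⊔ W) = W.relIndex K := Subgroup.relIndex_sup_right K W
  have h3 : (W ⊓ K).relIndex K = W.relIndex K := Subgroup.inf_relIndex_right W K
  rw [N.sup] at h1
  rw [h1, ← h3, inf_comm, N.inf]
  exact N.idxK

theorem p_lt_sq : p < p ^ 2 := by
  rw [pow_two]
  calc p = p * 1 := (mul_one p).symm
    _ < p * p := Nat.mul_lt_mul_of_pos_left hp.out.one_lt hp.out.pos

theorem NT.centW (D : EssData p E A B) (hS : IsPGroup p S) (h2 : p ≠ 2) (hR : Rk p S) (N : NT p E A B K W τ) :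
    ∀ e ∈ E, ∀ x ∈ W, ⁅e, x⁆ ∈ Fr W := by
  have hWn := N.invW.normal D
  have hle : Fr W ≤ Fr E := Fr_mono' hS N.invW.le
  have hsm : (Fr W).relIndex (Fr E) ≤ p := by
    apply le_of_mul_le_cube
    rw [← N.idxW D, Subgroup.relIndex_mul_relIndex _ _ _ hle N.frW]
    exact Rk.fr hS hR W
  refine triv_lemma D N.invW Inv.self.Fr N.invW.Fr hle N.frW (fun U hU h1 h3 => N.irrW U hU h1 h3) ?_ hsm
    (fun e he x hx => comm_mem_Fr hS he (N.invW.le hx)) ?_ N.invW.le (N.idxWE D) (fun f hf x hx => comm_mem_Fr hS hf hx)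
  · rw [N.idxW D]
    exact p_lt_sq
  · intro e he m hm
    exact cm_symm (comm_mem_of_prime hS hle (rel_dvd hS hsm) hm e)

end single

variable {E1 E2 : Subgroup S} [hE1 : E1.Normal] [hE2 : E2.Normal] {A1 : Subgroup (MulAut E1)} {A2 : Subgroup (MulAut E2)}
  {B : Subgroup (MulAut S)} {K1 W1 K2 W2 : Subgroup S} {τ1 τ2 : MulAut S}

theorem pair_sup (D1 : EssData p E1 A1 B) (D2 : EssData p E2 A2 B) (hne : E1 ≠ E2) : E1 ⊔ E2 = ⊤ := by
  have h1 : E1.relIndex ⊤ ∣ p := by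
    rw [Subgroup.relIndex_top_right, D1.index]
  rcases between (X := E1 ⊔ E2) le_sup_left le_top h1 with h | h
  · exfalso
    have h3 : E2 ≤ E1 := by
      rw [← h]
      exact le_sup_right
    apply hne
    have h4 : E2.relIndex ⊤ ∣ p := by
      rw [Subgroup.relIndex_top_right, D2.index]
    rcases between h3 le_top h4 with h5 | h5
    · exact h5
    · exfalso
      have := D1.index
      rw [h5, Subgroup.index_top] at this
      exact hp.out.one_lt.ne this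
  · exact h

theorem pair_mul (D1 : EssData p E1 A1 B) (D2 : EssData p E2 A2 B) (hne : E1 ≠ E2) (s : S) : ∃ a ∈ E1, ∃ b ∈ E2, a * b = s := by
  have h : s ∈ E1 ⊔ E2 := by
    rw [pair_sup D1 D2 hne]
    exact mem_top s
  exact Subgroup.mem_sup_of_normal_left.1 h

theorem pair_idx1 (D1 : EssData p E1 A1 B) (D2 : EssData p E2 A2 B) (hne : E1 ≠ E2) : (E1 ⊓ E2).relIndex E1 = p := by
  rw [Subgroup.inf_relIndex_left]
  have h1 : E2.relIndex (E1 ⊔ E2) = E2.relIndex E1 := Subgroup.relIndex_sup_right E1 E2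
  rw [← h1, pair_sup D1 D2 hne, Subgroup.relIndex_top_right, D2.index]

theorem pair_idx2 (D1 : EssData p E1 A1 B) (D2 : EssData p E2 A2 B) (hne : E1 ≠ E2) : (E1 ⊓ E2).relIndex E2 = p := by
  rw [inf_comm]
  exact pair_idx1 D2 D1 hne.symm

theorem pair_comm (D1 : EssData p E1 A1 B) (D2 : EssData p E2 A2 B) (a b : S) : ⁅a, b⁆ ∈ E1 ⊓ E2 :=
  ⟨comm_mem_of_index D1.index a b, comm_mem_of_index D2.index a b⟩

theorem pair_cent (D1 : EssData p E1 A1 B) (D2 : EssData p E2 A2 B) (hne : E1 ≠ E2) {M N : Subgroup S} (hN : N.Normal)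
    (h1 : ∀ e ∈ E1, ∀ m ∈ M, ⁅e, m⁆ ∈ N) (h2 : ∀ e ∈ E2, ∀ m ∈ M, ⁅e, m⁆ ∈ N) : ∀ m ∈ M, ∀ s, ⁅m, s⁆ ∈ N := by
  intro m hm s
  obtain ⟨a, ha, b, hb, rfl⟩ := pair_mul D1 D2 hne s
  exact cm_symm (cm_mul_left (h1 a ha m hm) (h2 b hb m hm))

theorem pair_tau1 (D1 : EssData p E1 A1 B) (D2 : EssData p E2 A2 B) {β : MulAut S} (hβ : β ∈ B) {x : S} (hx : x ∈ E1 ⊓ E2) :
    β x ∈ E1 ⊓ E2 := ⟨Inv.self.map D1 hβ hx.1, Inv.self.map D2 hβ hx.2⟩

theorem Fr_le_inf (D1 : EssData p E1 A1 B) (D2 : EssData p E2 A2 B) (hS : IsPGroup p S) : Fr E1 ≤ E1 ⊓ E2 :=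
  Fr_le_of hS inf_le_left (fun a ha b hb => pair_comm D1 D2 a b)
    (fun a ha => ⟨E1.pow_mem ha p, pow_mem_of_index D2.index a⟩)

/-- `τ₁` is trivial on `S/D` if `W₁ = D`. -/
theorem NT.W_triv (D1 : EssData p E1 A1 B) (D2 : EssData p E2 A2 B) (hS : IsPGroup p S) (h2 : p ≠ 2)
    (N1 : NT p E1 A1 B K1 W1 τ1) (hW : W1 = E1 ⊓ E2) (s : S) : s⁻¹ * τ1 s ∈ E1 ⊓ E2 := by
  have hWn := N1.invW.normal D1
  have h1 : ∀ e ∈ E1, e⁻¹ * τ1 e ∈ W1 := by
    intro e he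
    rw [← N1.sup] at he
    obtain ⟨k, hk, w, hw, rfl⟩ := (Subgroup.mem_sup_of_normal_right (t := W1)).1 he
    have h3 := N1.frW (N1.pos k hk)
    have h4 : τ1 w ∈ W1 := N1.invW.map D1 N1.mem hw
    have e1 : (k * w)⁻¹ * τ1 (k * w) = w⁻¹ * (k⁻¹ * τ1 k) * w⁻¹⁻¹ * (w⁻¹ * τ1 w) := by
      rw [map_mul]
      group
    rw [e1]
    exact W1.mul_mem (hWn.conj_mem _ h3 _) (W1.mul_mem (W1.inv_mem hw) h4)
  rw [← hW]
  exact triv_trans hS h2 N1.sq (h1 _ (N1.quo s))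

/-- **Case a.** -/
theorem no_W_reg (D1 : EssData p E1 A1 B) (D2 : EssData p E2 A2 B) (hne : E1 ≠ E2) (hS : IsPGroup p S) (h2 : p ≠ 2)
    (N1 : NT p E1 A1 B K1 W1 τ1) (hW : W1 = E1 ⊓ E2) (R2 : RT p E2 A2) : False := by
  have hDn : (E1 ⊓ E2).Normal := inferInstance
  have h1 : G1 E2 = E1 ⊓ E2 := by
    refine R2.eq_G1 D2 hS ?_ inf_le_right (pair_idx2 D1 D2 hne)
    rw [inf_comm]
    exact Fr_le_inf D2 D1 hS
  have h3 : E1 ⊓ E2 ≤ Fr ⊤ := by
    rw [← h1]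
    refine sup_le ?_ (Fr_mono' hS le_top)
    rw [Subgroup.commutator_le]
    intro a ha b hb
    exact comm_mem_Fr hS (mem_top a) (mem_top b)
  have h4 := fix_of_Fr hS h2 N1.sq (M := ⊤) (fun m hm => mem_top _) (fun m hm => h3 (N1.W_triv D1 D2 hS h2 hW m))
  apply N1.K_ne
  have hKn := N1.invK.normal D1
  apply le_antisymm N1.invK.le
  intro e he
  refine mem_of_inv_triv hS h2 (N1.negE D1 he) ?_
  rw [h4 e (mem_top e), inv_mul_cancel]
  exact K1.one_mem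

/-- **Case b.** -/
theorem no_W_W (D1 : EssData p E1 A1 B) (D2 : EssData p E2 A2 B) (hne : E1 ≠ E2) (hS : IsPGroup p S) (h2 : p ≠ 2)
    (hR : Rk p S) (N1 : NT p E1 A1 B K1 W1 τ1) (hW : W1 = E1 ⊓ E2) (N2 : NT p E2 A2 B K2 W2 τ2) (hW2 : W2 = E1 ⊓ E2) : False := by
  have hWn := N1.invW.normal D1
  have hFn : (Fr W1).Normal := Fr_normal
  have h1 := N1.centW D1 hS h2 hR
  have h3 := N2.centW D2 hS h2 hR
  rw [hW2, ← hW] at h3
  have h4 := pair_cent D1 D2 hne hFn h1 h3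
  exact N1.notcentW D1 hS h2 (fun w hw s => Fr_mono' hS N1.invW.le (h4 w hw s))

/-- **Case c.** -/
theorem no_W_K (D1 : EssData p E1 A1 B) (D2 : EssData p E2 A2 B) (hne : E1 ≠ E2) (hS : IsPGroup p S) (h2 : p ≠ 2)
    (hR : Rk p S) (N1 : NT p E1 A1 B K1 W1 τ1) (hW : W1 = E1 ⊓ E2) (N2 : NT p E2 A2 B K2 W2 τ2) (hK2 : K2 ≤ E1 ⊓ E2) : False := by
  have hWn := N1.invW.normal D1
  have hK2n := N2.invK.normal D2
  have hFr1n : (Fr E1).Normal := Fr_normal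
  rw [← hW] at hK2
  have hWE2 : W1 ≤ E2 := by rw [hW]; exact inf_le_right
  have hidx1 : W1.relIndex E1 = p := by rw [hW]; exact pair_idx1 D1 D2 hne
  have hidx2 : W1.relIndex E2 = p := by rw [hW]; exact pair_idx2 D1 D2 hne
  have hidxK : K2.relIndex W1 = p := by
    have h1 := Subgroup.relIndex_mul_relIndex K2 W1 E2 hK2 hWE2
    rw [hidx2, N2.idx, pow_two] at h1
    exact Nat.eq_of_mul_eq_mul_right hp.out.pos h1
  have hFr2 : Fr W1 ≤ K2 := (Fr_mono' hS hWE2).trans N2.frK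
  -- `τ₁` is trivial on `D/K₂`
  have htriv : ∀ d ∈ W1, d⁻¹ * τ1 d ∈ K2 := by
    have hWt := N1.W_triv D1 D2 hS h2 hW
    have hcd : ∀ d ∈ W1, ∀ s, ⁅d, s⁆ ∈ K2 := fun d hd s => comm_mem_of_prime hS hK2 (dvd_of_eq hidxK) hd s
    let T : Subgroup S :=
      { carrier := {d | d ∈ W1 ∧ d⁻¹ * τ1 d ∈ K2}
        mul_mem' := by
          rintro a b ⟨ha, ha'⟩ ⟨hb, hb'⟩
          refine ⟨W1.mul_mem ha hb, ?_⟩
          have e1 : (a * b)⁻¹ * τ1 (a * b) = b⁻¹ * (a⁻¹ * τ1 a) * b⁻¹⁻¹ * (b⁻¹ * τ1 b) := by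
            rw [map_mul]
            group
          rw [e1]
          exact K2.mul_mem (hK2n.conj_mem _ ha' _) hb'
        one_mem' := ⟨W1.one_mem, by
          rw [map_one, inv_one, one_mul]
          exact K2.one_mem⟩
        inv_mem' := by
          rintro a ⟨ha, ha'⟩
          refine ⟨W1.inv_mem ha, ?_⟩
          have e1 : a⁻¹⁻¹ * τ1 a⁻¹ = a * (a⁻¹ * τ1 a)⁻¹ * a⁻¹ := by
            rw [map_inv]
            group
          rw [e1]
          exact hK2n.conj_mem _ (K2.inv_mem ha') _ }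
    have hK2T : K2 ≤ T := by
      intro k hk
      exact ⟨hK2 hk, K2.mul_mem (K2.inv_mem hk) (N2.invK.map D2 N1.mem hk)⟩
    have hTW : T ≤ W1 := fun x hx => hx.1
    rcases between hK2T hTW (dvd_of_eq hidxK) with h | h
    · exfalso
      apply N2.notcent D2 hS h2
      intro e he s
      have hes : ⁅e, s⁆ ∈ W1 := by
        rw [hW]
        exact pair_comm D1 D2 e s
      have h3 : ⁅e, s⁆ ∈ T := by
        refine ⟨hes, ?_⟩
        rw [map_commutatorElement]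
        rw [← QuotientGroup.eq]
        show ⁅(QuotientGroup.mk e : S ⧸ K2), (QuotientGroup.mk s : S ⧸ K2)⁆ = ⁅(QuotientGroup.mk (τ1 e) : S ⧸ K2), (QuotientGroup.mk (τ1 s) : S ⧸ K2)⁆
        have hc : ∀ x : S, ∀ d ∈ W1, (QuotientGroup.mk d : S ⧸ K2) * QuotientGroup.mk x = QuotientGroup.mk x * QuotientGroup.mk d := by
          intro x d hd
          have : ⁅(QuotientGroup.mk d : S ⧸ K2), (QuotientGroup.mk x : S ⧸ K2)⁆ = 1 := (QuotientGroup.eq_one_iff _).2 (hcd d hd x)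
          rwa [commutatorElement_eq_one_iff_mul_comm] at this
        have hτ : ∀ x : S, ∃ d ∈ W1, (QuotientGroup.mk (τ1 x) : S ⧸ K2) = QuotientGroup.mk x * QuotientGroup.mk d := by
          intro x
          refine ⟨x⁻¹ * τ1 x, ?_, ?_⟩
          · rw [hW]
            exact hWt x
          · rw [← QuotientGroup.mk_mul, mul_inv_cancel_left]
        obtain ⟨d1, hd1, q1⟩ := hτ e
        obtain ⟨d2, hd2, q2⟩ := hτ s
        rw [q1, q2]
        have c1 := hc e d1 hd1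
        have c2 := hc s d1 hd1
        have c3 := hc e d2 hd2
        have c4 := hc s d2 hd2
        have c5 := hc d1 d2 hd2
        set a : S ⧸ K2 := QuotientGroup.mk e
        set b : S ⧸ K2 := QuotientGroup.mk s
        set u : S ⧸ K2 := QuotientGroup.mk d1
        set v : S ⧸ K2 := QuotientGroup.mk d2
        rw [commutatorElement_def, commutatorElement_def]
        have e1 : a * u * (b * v) = a * b * (u * v) := by
          calc a * u * (b * v) = a * (u * b) * v := by group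
            _ = a * b * (u * v) := by rw [c2]; group
        have e2 : (a * u)⁻¹ * (b * v)⁻¹ = (u * v)⁻¹ * (a⁻¹ * b⁻¹) := by
          have h5 : (b * v) * (a * u) = (b * a) * (u * v) := by
            calc (b * v) * (a * u) = b * (v * a) * u := by group
              _ = b * a * (v * u) := by rw [c3]; group
              _ = (b * a) * (u * v) := by rw [c5]
          have h6 := congrArg (fun z => z⁻¹) h5
          simp only [mul_inv_rev] at h6 ⊢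
          rw [mul_assoc, mul_assoc] at h6
          rw [mul_assoc, mul_assoc]
          exact h6
        calc a * b * a⁻¹ * b⁻¹ = a * b * (u * v) * ((u * v)⁻¹ * (a⁻¹ * b⁻¹)) := by group
          _ = a * u * (b * v) * ((a * u)⁻¹ * (b * v)⁻¹) := by rw [e1, e2]
          _ = a * u * (b * v) * (a * u)⁻¹ * (b * v)⁻¹ := by group
      rw [h] at h3
      exact h3
    · intro d hd
      rw [← h] at hd
      exact hd.2
  -- `E₁` centralises `D/Φ(D)` and `[D,τ₁]Φ(D)` is invariant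
  have hcW := N1.centW D1 hS h2 hR
  have hct : Inv A1 (ct W1 τ1 (Fr W1)) := N1.ct_inv D1 N1.invW N1.invW.Fr hcW
  have hctn := hct.normal D1
  have hctK : ct W1 τ1 (Fr W1) ≤ K2 := ct_le hFr2 htriv
  have hWct : W1 ≤ ct W1 τ1 (Fr W1) ⊔ Fr E1 := by
    intro w hw
    apply sq_mem hS h2
    have h1 := N1.neg w hw
    have h3 : w⁻¹ * τ1 w ∈ ct W1 τ1 (Fr W1) ⊔ Fr E1 := (le_sup_left : _ ≤ ct W1 τ1 (Fr W1) ⊔ Fr E1) (mem_ct hw)
    have h4 : w * (τ1 w * w) * w⁻¹ ∈ ct W1 τ1 (Fr W1) ⊔ Fr E1 := (le_sup_right : _ ≤ ct W1 τ1 (Fr W1) ⊔ Fr E1) (hFr1n.conj_mem _ h1 w)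
    have h5 : w * (w⁻¹ * τ1 w) * w⁻¹ ∈ ct W1 τ1 (Fr W1) ⊔ Fr E1 := Subgroup.Normal.conj_mem inferInstance _ h3 w
    have h6 := mul_mem (inv_mem h5) h4
    have e1 : (w * (w⁻¹ * τ1 w) * w⁻¹)⁻¹ * (w * (τ1 w * w) * w⁻¹) = w * (τ1 w)⁻¹ * w * τ1 w := by group
    rw [e1] at h6
    -- `w τ(w)⁻¹ w τ(w) = w² [w⁻¹ ...]`
    have h7 : ⁅(τ1 w)⁻¹, w⁆ ∈ ct W1 τ1 (Fr W1) ⊔ Fr E1 :=
      (le_sup_right : _ ≤ ct W1 τ1 (Fr W1) ⊔ Fr E1) (comm_mem_Fr hS (E1.inv_mem (N1.tE D1 (N1.invW.le hw))) (N1.invW.le hw))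
    have h8 : w * ⁅(τ1 w)⁻¹, w⁆ * w⁻¹ ∈ ct W1 τ1 (Fr W1) ⊔ Fr E1 := Subgroup.Normal.conj_mem inferInstance _ h7 w
    have h9 := mul_mem (inv_mem h8) h6
    have e2 : ∀ a b : S, (a * ⁅b⁻¹, a⁆ * a⁻¹)⁻¹ * (a * b⁻¹ * a * b) = a * a := by
      intro a b
      rw [commutatorElement_def]
      group
      exact zpow_two a
    rwa [e2] at h9
  have hidxct : (ct W1 τ1 (Fr W1)).relIndex W1 ≤ p := by
    have hle : ct W1 τ1 (Fr W1) ⊔ Fr E1 = W1 := le_antisymm (sup_le (hctK.trans hK2) N1.frW) hWct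
    have h1 : (ct W1 τ1 (Fr W1)).relIndex (ct W1 τ1 (Fr W1) ⊔ Fr E1) = (ct W1 τ1 (Fr W1)).relIndex (Fr E1) :=
      Subgroup.relIndex_sup_left _ _
    rw [hle] at h1
    rw [h1]
    refine (relIndex_mono_left _ le_ct).trans ?_
    apply le_of_mul_le_cube
    rw [← N1.idxW D1, Subgroup.relIndex_mul_relIndex _ _ _ (Fr_mono' hS N1.invW.le) N1.frW]
    exact Rk.fr hS hR W1
  have hT : ct W1 τ1 (Fr W1) = K2 := eq_of_relIndex hctK hK2 (by rw [hidxK]; exact hidxct)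
  rw [hT] at hct hWct
  -- `R = K₂ ∩ Φ(E₁)`
  have hsupT : K2 ⊔ Fr E1 = W1 := le_antisymm (sup_le hK2 N1.frW) hWct
  have hidxR : (K2 ⊓ Fr E1).relIndex K2 = p ^ 2 := by
    rw [Subgroup.inf_relIndex_left]
    have h1 : (Fr E1).relIndex (K2 ⊔ Fr E1) = (Fr E1).relIndex K2 := Subgroup.relIndex_sup_right K2 (Fr E1)
    rw [← h1, hsupT, N1.idxW D1]
  have hFrT : Fr K2 ≤ K2 ⊓ Fr E1 := le_inf (Fr_le K2) (Fr_mono' hS (hK2.trans N1.invW.le))
  have hRn : (K2 ⊓ Fr E1).Normal := inferInstance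
  have hidxR2 : (Fr K2).relIndex (K2 ⊓ Fr E1) ≤ p := by
    apply le_of_mul_le_cube
    rw [← hidxR, Subgroup.relIndex_mul_relIndex _ _ _ hFrT inf_le_left]
    exact Rk.fr hS hR K2
  have hFrn : (Fr K2).Normal := Fr_normal
  have c1 : ∀ e ∈ E1, ∀ x ∈ K2, ⁅e, x⁆ ∈ K2 ⊓ Fr E1 := fun e he x hx =>
    ⟨cm_of_mem_right hx, comm_mem_Fr hS he (N1.invW.le (hK2 hx))⟩
  have c2 : ∀ e ∈ E1, ∀ x ∈ K2 ⊓ Fr E1, ⁅e, x⁆ ∈ Fr K2 := fun e he x hx =>
    cm_symm (comm_mem_of_prime hS hFrT (rel_dvd hS hidxR2) hx e)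
  have c3 := quad_Fr hS c1 c2 (fun m hm => pow_mem_Fr hS hm.1)
  -- `D` centralises `T/Φ(T)`
  have c4 : ∀ d ∈ W1, ∀ x ∈ K2, ⁅d, x⁆ ∈ Fr K2 := by
    intro d hd x hx
    rw [← hsupT] at hd
    obtain ⟨a, ha, b, hb, rfl⟩ := Subgroup.mem_sup_of_normal_left.1 hd
    exact cm_mul_left (comm_mem_Fr hS ha hx) (c3 b hb x hx)
  have hC : Inv A2 (cmod E2 K2 (Fr K2) hFrn) := Inv.cmod Inv.self N2.invK N2.invK.Fr hFrn
  rcases N2.irr _ hC (fun x hx => ⟨N2.invK.le hx, fun m hm => comm_mem_Fr hS hx hm⟩) with h | h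
  · have h1 : W1 ≤ K2 := by
      rw [← h]
      exact fun d hd => ⟨hWE2 hd, fun m hm => c4 d hd m hm⟩
    have h3 : K2.relIndex W1 = 1 := by
      rw [Subgroup.relIndex_eq_one]
      exact h1
    rw [hidxK] at h3
    exact hp.out.one_lt.ne' h3
  · have c5 : ∀ e ∈ E2, ∀ x ∈ K2, ⁅e, x⁆ ∈ K2 ⊓ Fr E1 := by
      intro e he x hx
      rw [← h] at he
      exact hFrT (he.2 x hx)
    have c6 := pair_cent D1 D2 hne hRn c1 c5
    have hRi : Inv A1 (K2 ⊓ Fr E1) := hct.inf Inv.self.Fr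
    have c7 := N1.triv K2 _ hct hRi c6
    have c8 : K2 ≤ Fr E1 := fun t ht => mem_of_inv_triv hS h2 (N1.neg t (hK2 ht)) (c7 t ht).2
    have h3 : (K2 ⊓ Fr E1).relIndex K2 = 1 := by
      rw [Subgroup.relIndex_eq_one]
      exact le_inf le_rfl c8
    rw [hidxR] at h3
    have := p_lt_sq (p := p)
    have := hp.out.one_lt
    omega

end Cfsg.Agent.H767.TE
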