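import Cfsg.Agent.H767.TEReg

/-!
# Maximal subgroups with a group of automorphisms: basic notions (helper767)
-/

set_option autoImplicit false
set_option linter.unusedSectionVars false
set_option linter.unusedVariables false

namespace Cfsg.Agent.H767.TE

open Subgroup
open scoped commutatorElement

variable {S : Type*} [Group S] [Finite S] {p : ℕ} [hp : Fact p.Prime]

/-- `M ≤ E` is invariant under the group `A` of automorphisms of `E` -/
structure Inv {E : Subgroup S} (A : Subgroup (MulAut E)) (M : Subgroup S) : Prop where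
  le : M ≤ E
  inv : ∀ α ∈ A, ∀ x : E, (x : S) ∈ M → ((α x : E) : S) ∈ M

variable {E : Subgroup S} {A : Subgroup (MulAut E)}

theorem Inv.iff {M : Subgroup S} (h : Inv A M) {α : MulAut E} (hα : α ∈ A) (x : E) :
    ((α x : E) : S) ∈ M ↔ (x : S) ∈ M := by
  constructor
  · intro h1
    have h2 := h.inv α⁻¹ (A.inv_mem hα) _ h1
    rwa [MulAut.inv_apply_self] at h2
  · exact h.inv α hα x

theorem Inv.self : Inv A E := ⟨le_rfl, fun α _ x _ => (α x).2⟩

theorem Inv.bot : Inv A ⊥ := ⟨bot_le, fun α _ x hx => by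
  rw [Subgroup.mem_bot] at hx ⊢
  have : x = 1 := Subtype.ext hx
  rw [this, map_one]
  rfl⟩

theorem Inv.inf {M N : Subgroup S} (hM : Inv A M) (hN : Inv A N) : Inv A (M ⊓ N) :=
  ⟨inf_le_left.trans hM.le, fun α hα x hx => ⟨hM.inv α hα x hx.1, hN.inv α hα x hx.2⟩⟩

/-- the image of `M` under an automorphism of `E` -/
def im (α : MulAut E) (M : Subgroup S) : Subgroup S := ((M.subgroupOf E).map α.toMonoidHom).map E.subtype

theorem mem_im {α : MulAut E} {M : Subgroup S} (x : E) : ((α x : E) : S) ∈ im α M ↔ (x : S) ∈ M := by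
  constructor
  · rintro ⟨y, ⟨z, hz, hzy⟩, hyx⟩
    have h1 : y = α x := Subtype.ext hyx
    have h2 : α z = α x := hzy.trans h1
    have h3 : z = x := α.injective h2
    rw [← h3]
    exact hz
  · intro h
    exact ⟨α x, ⟨x, h, rfl⟩, rfl⟩

theorem Inv.of_closure {T : Set S} (hT : T ⊆ E) (h : ∀ α ∈ A, ∀ x : E, (x : S) ∈ T → ((α x : E) : S) ∈ Subgroup.closure T) :
    Inv A (Subgroup.closure T) := by
  refine ⟨(Subgroup.closure_le _).2 hT, fun α hα x hx => ?_⟩
  have key : ∀ z : S, ∀ hz : z ∈ Subgroup.closure T, ∀ hzE : z ∈ E,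
      ((α ⟨z, hzE⟩ : E) : S) ∈ Subgroup.closure T := by
    intro z hz
    induction hz using Subgroup.closure_induction with
    | mem z hz => exact fun hzE => h α hα ⟨z, hzE⟩ hz
    | one =>
      intro hzE
      have : (⟨1, hzE⟩ : E) = 1 := rfl
      rw [this, map_one]
      exact one_mem _
    | mul a b ha hb iha ihb =>
      intro hzE
      have haE : a ∈ E := ((Subgroup.closure_le _).2 hT) ha
      have hbE : b ∈ E := ((Subgroup.closure_le _).2 hT) hb
      have : (⟨a * b, hzE⟩ : E) = ⟨a, haE⟩ * ⟨b, hbE⟩ := rfl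
      rw [this, map_mul]
      exact mul_mem (iha haE) (ihb hbE)
    | inv a ha iha =>
      intro hzE
      have haE : a ∈ E := ((Subgroup.closure_le _).2 hT) ha
      have : (⟨a⁻¹, hzE⟩ : E) = (⟨a, haE⟩)⁻¹ := rfl
      rw [this, map_inv]
      exact inv_mem (iha haE)
  exact key x hx x.2

theorem Inv.sup {M N : Subgroup S} (hM : Inv A M) (hN : Inv A N) : Inv A (M ⊔ N) := by
  have h1 : M ⊔ N = Subgroup.closure ((M : Set S) ∪ N) := (Subgroup.closure_union _ _).trans (by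
    rw [Subgroup.closure_eq, Subgroup.closure_eq]) |>.symm
  rw [h1]
  refine Inv.of_closure ?_ ?_
  · rintro x (hx | hx)
    · exact hM.le hx
    · exact hN.le hx
  · rintro α hα x (hx | hx)
    · exact Subgroup.subset_closure (Or.inl (hM.inv α hα x hx))
    · exact Subgroup.subset_closure (Or.inr (hN.inv α hα x hx))

theorem Inv.comm {M N : Subgroup S} (hM : Inv A M) (hN : Inv A N) : Inv A ⁅M, N⁆ := by
  rw [Subgroup.commutator_def]
  refine Inv.of_closure ?_ ?_
  · rintro _ ⟨a, ha, b, hb, rfl⟩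
    rw [SetLike.mem_coe, commutatorElement_def]
    exact E.mul_mem (E.mul_mem (E.mul_mem (hM.le ha) (hN.le hb)) (E.inv_mem (hM.le ha))) (E.inv_mem (hN.le hb))
  · rintro α hα x ⟨a, ha, b, hb, hab⟩
    apply Subgroup.subset_closure
    refine ⟨α ⟨a, hM.le ha⟩, hM.inv α hα ⟨a, hM.le ha⟩ ha, α ⟨b, hN.le hb⟩, hN.inv α hα ⟨b, hN.le hb⟩ hb, ?_⟩
    have h1 : x = ⁅(⟨a, hM.le ha⟩ : E), ⟨b, hN.le hb⟩⁆ := Subtype.ext hab.symm
    rw [h1, map_commutatorElement]
    rfl

/-- characteristic subgroups of invariant subgroups -/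
theorem Inv.char {M : Subgroup S} (hM : Inv A M) (C : Subgroup M) [hC : C.Characteristic] : Inv A (C.map M.subtype) := by
  refine ⟨(Subgroup.map_subtype_le _).trans hM.le, ?_⟩
  intro α hα x hx
  obtain ⟨c, hc, hcx⟩ := hx
  -- the restriction of `α` to `M`
  let f : M →* M :=
    { toFun := fun m => ⟨α ⟨m, hM.le m.2⟩, hM.inv α hα ⟨m, hM.le m.2⟩ m.2⟩
      map_one' := Subtype.ext (by
        show ((α (1 : E) : E) : S) = 1
        rw [map_one]
        rfl)
      map_mul' := fun a b => Subtype.ext (by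
        show ((α ((⟨a, hM.le a.2⟩ : E) * ⟨b, hM.le b.2⟩) : E) : S) = _
        rw [map_mul]
        rfl) }
  have hf : Function.Bijective f := by
    have hi : Function.Injective f := by
      intro a b hab
      have h0 : ((α ⟨a, hM.le a.2⟩ : E) : S) = ((α ⟨b, hM.le b.2⟩ : E) : S) := congrArg (fun z : M => (z : S)) hab
      have h1 : α ⟨a, hM.le a.2⟩ = α ⟨b, hM.le b.2⟩ := Subtype.ext h0
      have h2 := α.injective h1
      have h3 : (a : S) = (b : S) := congrArg (fun z : E => (z : S)) h2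
      exact Subtype.ext h3
    exact (Finite.injective_iff_bijective).1 hi
  rw [Subgroup.characteristic_iff_map_le] at hC
  have h3 := hC (MulEquiv.ofBijective f hf) ⟨c, hc, rfl⟩
  refine ⟨f c, h3, ?_⟩
  show ((α ⟨c, hM.le c.2⟩ : E) : S) = α x
  have h4 : (⟨c, hM.le c.2⟩ : E) = x := Subtype.ext hcx
  rw [h4]

theorem Inv.Fr {M : Subgroup S} (hM : Inv A M) : Inv A (Fr M) := hM.char (frattini M)

/-- the elements of `E` centralising `M` modulo `N` -/
def cmod (E M N : Subgroup S) (hN : N.Normal) : Subgroup S where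
  carrier := {e | e ∈ E ∧ ∀ m ∈ M, ⁅e, m⁆ ∈ N}
  mul_mem' := by
    rintro a b ⟨ha, ha'⟩ ⟨hb, hb'⟩
    refine ⟨mul_mem ha hb, fun m hm => ?_⟩
    have e : ⁅a * b, m⁆ = a * ⁅b, m⁆ * a⁻¹ * ⁅a, m⁆ := by
      rw [commutatorElement_def, commutatorElement_def, commutatorElement_def]
      group
    rw [e]
    exact mul_mem (hN.conj_mem _ (hb' m hm) a) (ha' m hm)
  one_mem' := ⟨one_mem _, fun m _ => by
    rw [commutatorElement_one_left]
    exact N.one_mem⟩
  inv_mem' := by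
    rintro a ⟨ha, ha'⟩
    refine ⟨inv_mem ha, fun m hm => ?_⟩
    have e : ⁅a⁻¹, m⁆ = a⁻¹ * (⁅a, m⁆)⁻¹ * a⁻¹⁻¹ := by
      rw [commutatorElement_def, commutatorElement_def]
      group
    rw [e]
    exact hN.conj_mem _ (inv_mem (ha' m hm)) _

theorem mem_cmod {E M N : Subgroup S} {hN : N.Normal} {x : S} : x ∈ cmod E M N hN ↔ x ∈ E ∧ ∀ m ∈ M, ⁅x, m⁆ ∈ N := Iff.rfl

theorem Inv.cmod {C M N : Subgroup S} (hC : Inv A C) (hM : Inv A M) (hN : Inv A N) (hn : N.Normal) :
    Inv A (cmod C M N hn) := by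
  refine ⟨fun x hx => hC.le hx.1, ?_⟩
  rintro α hα x ⟨hx1, hx2⟩
  refine ⟨hC.inv α hα x hx1, fun m hm => ?_⟩
  have h1 : ((α⁻¹ ⟨m, hM.le hm⟩ : E) : S) ∈ M := hM.inv α⁻¹ (A.inv_mem hα) ⟨m, hM.le hm⟩ hm
  have h2 := hx2 _ h1
  have h3 := hN.inv α hα ⁅x, α⁻¹ ⟨m, hM.le hm⟩⁆ h2
  rw [map_commutatorElement, MulAut.apply_inv_self] at h3
  exact h3

/-- data of a maximal subgroup `E` of the `p`-group `S` with automorphism groups `A` of `E` and `B` of `S` -/
structure EssData (p : ℕ) (E : Subgroup S) [hE : E.Normal] (A : Subgroup (MulAut E)) (B : Subgroup (MulAut S)) :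
    Prop where
  index : E.index = p
  cent : ∀ s : S, (∀ e ∈ E, s * e = e * s) → s ∈ E
  conjA : ∀ s : S, MulAut.conjNormal (H := E) s ∈ A
  radical : ∀ N : Subgroup (MulAut E), N ≤ A → (∀ α ∈ A, ∀ n ∈ N, α * n * α⁻¹ ∈ N) → IsPGroup p N →
    ∀ n ∈ N, ∃ e ∈ E, n = MulAut.conjNormal (H := E) e
  sylow : ∀ Q : Subgroup (MulAut E), Q ≤ A → IsPGroup p Q → (MulAut.conjNormal (H := E)).range ≤ Q →
    Q = (MulAut.conjNormal (H := E)).range
  ext : ∀ α ∈ A, (∀ s : S, ∃ s' : S, α * MulAut.conjNormal (H := E) s * α⁻¹ = MulAut.conjNormal (H := E) s') →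
    ∃ β ∈ B, ∀ e : E, β e = α e
  res : ∀ β ∈ B, ∃ α ∈ A, ∀ e : E, ((α e : E) : S) = β e

/-- the rank hypothesis -/
def Rk (p : ℕ) (S : Type*) [Group S] : Prop :=
  ∀ N M : Subgroup S, N ≤ M → (∀ a ∈ M, ∀ b ∈ M, ⁅a, b⁆ ∈ N) → (∀ a ∈ M, a ^ p ∈ N) → N.relIndex M ≤ p ^ 3

variable [hE : E.Normal] {B : Subgroup (MulAut S)}

theorem Inv.normal (D : EssData p E A B) {M : Subgroup S} (hM : Inv A M) : M.Normal := by
  refine ⟨fun m hm s => ?_⟩
  have h1 := hM.inv _ (D.conjA s) ⟨m, hM.le hm⟩ hm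
  rwa [MulAut.conjNormal_apply] at h1

theorem Inv.map {M : Subgroup S} (D : EssData p E A B) (hM : Inv A M) {β : MulAut S} (hβ : β ∈ B) {m : S} (hm : m ∈ M) :
    β m ∈ M := by
  obtain ⟨α, hα, h⟩ := D.res β hβ
  have h1 := hM.inv α hα ⟨m, hM.le hm⟩ hm
  rwa [h] at h1

/-- generating `S` by `E` and `y` -/
theorem EssData.exists_zpow (D : EssData p E A B) {y : S} (hy : y ∉ E) (s : S) : ∃ (n : ℤ) (e : S), e ∈ E ∧ s = y ^ n * e := by
  have hc : Nat.card (S ⧸ E) = p := D.index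
  have : IsCyclic (S ⧸ E) := isCyclic_of_prime_card hc
  have h1 : (QuotientGroup.mk y : S ⧸ E) ≠ 1 := fun h => hy ((QuotientGroup.eq_one_iff y).1 h)
  have h2 : zpowers (QuotientGroup.mk y : S ⧸ E) = ⊤ := by
    apply Subgroup.eq_top_of_le_card
    rw [hc, Nat.card_zpowers]
    have h3 : orderOf (QuotientGroup.mk y : S ⧸ E) ∣ p := by
      rw [← hc]
      exact orderOf_dvd_natCard _
    rcases (Nat.dvd_prime hp.out).1 h3 with h4 | h4
    · exact (h1 (orderOf_eq_one_iff.1 h4)).elim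
    · exact h4.ge
  have h3 : (QuotientGroup.mk s : S ⧸ E) ∈ zpowers (QuotientGroup.mk y : S ⧸ E) := by rw [h2]; exact mem_top _
  obtain ⟨n, hn⟩ := h3
  simp only at hn
  rw [← QuotientGroup.mk_zpow, QuotientGroup.eq] at hn
  exact ⟨n, (y ^ n)⁻¹ * s, hn, by group⟩

theorem EssData.exists_notMem (D : EssData p E A B) : ∃ y : S, y ∉ E := by
  by_contra h
  push Not at h
  have h1 : E = ⊤ := by
    rw [eq_top_iff]
    exact fun x _ => h x
  have h2 := D.index
  rw [h1, Subgroup.index_top] at h2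
  exact hp.out.one_lt.ne h2

/-- conjugation is faithful modulo the centralizer -/
theorem EssData.conj_eq (D : EssData p E A B) {s t : S} (h : MulAut.conjNormal (H := E) s = MulAut.conjNormal (H := E) t) :
    s⁻¹ * t ∈ E := by
  apply D.cent
  intro e he
  have h1 := congrArg (fun α : MulAut E => ((α ⟨e, he⟩ : E) : S)) h
  simp only [MulAut.conjNormal_apply] at h1
  calc s⁻¹ * t * e = s⁻¹ * (t * e * t⁻¹) * t := by group
    _ = s⁻¹ * (s * e * s⁻¹) * t := by rw [h1]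
    _ = e * (s⁻¹ * t) := by group

end Cfsg.Agent.H767.TE
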