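import Cfsg.Agent.H767.TEThird

/-!
# The natural/natural case: the final contradiction (helper767)
-/

set_option autoImplicit false
set_option linter.unusedSectionVars false
set_option linter.unusedVariables false

namespace Cfsg.Agent.H767.TE

open Subgroup Cfsg Cfsg.FusionSystem Cfsg.Agent.H802
open scoped commutatorElement

universe u

variable {Ω : Type u} [Group Ω] {S : Subgroup Ω} {p : ℕ} [hp : Fact p.Prime]

/-- the subsystem of the maps respecting `T` -/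
def respSys (F : FusionSystem S) (T : Subgroup Ω) (hT : ∀ g ∈ S, ∀ x ∈ S, (g * x * g⁻¹ ∈ T ↔ x ∈ T)) :
    FusionSystem S where
  Hom P := {φ | φ ∈ F.Hom P ∧ ∀ x : P, φ x ∈ T ↔ (x : Ω) ∈ T}
  le_of_mem h := F.le_of_mem h.1
  injective_of_mem h := F.injective_of_mem h.1
  conj_mem := fun {P g} hP hg => ⟨F.conj_mem hP hg, fun x => hT g hg x (hP x.2)⟩
  comp_mem := fun {P Q φ ψ} hφ hψ h => ⟨F.comp_mem hφ.1 hψ.1 h, fun x => (hψ.2 _).trans (hφ.2 x)⟩
  inv_mem := fun {P φ} hφ => by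
    obtain ⟨ψ, hψ, h⟩ := F.inv_mem hφ.1
    refine ⟨ψ, ⟨hψ, ?_⟩, h⟩
    rintro ⟨_, x, rfl⟩
    rw [h x]
    exact (hφ.2 x).symm

/-- a subgroup invariant under `Aut_F(S)` and all `Aut_F(Q)`, `Q` essential, is strongly closed -/
theorem stronglyClosed_of_ess [Finite S] (hS : IsPGroup p S) {F : FusionSystem S} (hF : F.IsSaturated p) (T : Subgroup Ω)
    (hTS : T ≤ S) (hB : ∀ β ∈ F.autGroup S, ∀ x : S, (x : Ω) ∈ T → ((β x : S) : Ω) ∈ T)
    (hess : ∀ Q : Subgroup Ω, F.IsEssential p Q → ∀ α ∈ F.autGroup Q, ∀ x : Q, (x : Ω) ∈ T → ((α x : Q) : Ω) ∈ T) :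
    F.StronglyClosed T := by
  have hT : ∀ g ∈ S, ∀ x ∈ S, (g * x * g⁻¹ ∈ T ↔ x ∈ T) := by
    have h1 : ∀ g ∈ S, ∀ x ∈ S, x ∈ T → g * x * g⁻¹ ∈ T := by
      intro g hg x hx hxT
      exact hB _ (conj_mem_autTop F ⟨g, hg⟩) ⟨x, hx⟩ hxT
    intro g hg x hx
    refine ⟨fun h => ?_, h1 g hg x hx⟩
    have h3 := h1 g⁻¹ (S.inv_mem hg) _ (S.mul_mem (S.mul_mem hg hx) (S.inv_mem hg)) h
    have e : g⁻¹ * (g * x * g⁻¹) * g⁻¹⁻¹ = x := by group
    rwa [e] at h3
  have hmem : ∀ Q : Subgroup Ω, Q ≤ S → (∀ α ∈ F.autGroup Q, ∀ x : Q, (x : Ω) ∈ T → ((α x : Q) : Ω) ∈ T) →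
      F.autGroup Q ≤ (respSys F T hT).autGroup Q := by
    intro Q hQ h α hα
    rw [mem_autGroup_iff _ hQ]
    refine ⟨(mem_autGroup_iff F hQ α).1 hα, fun x => ⟨fun h1 => ?_, h α hα x⟩⟩
    have h3 := h α⁻¹ ((F.autGroup Q).inv_mem hα) (α x) h1
    rwa [MulAut.inv_apply_self] at h3
  have hall := le_of_essential hS hF (respSys F T hT) (hmem S le_rfl hB) (fun Q hQ _ => hmem Q hQ.1.1 (hess Q hQ))
  exact ⟨hTS, fun R hR φ hφ x => ((hall R hφ).2 x).2 (hR x.2)⟩

variable [Finite S] {F : FusionSystem S} {E₁ E₂ : Subgroup Ω}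

theorem nn_false (h2 : p ≠ 2) (hS : IsPGroup p S) (hR : Rk p S) (hR2 : ¬ Cfsg.SectionalPRankLE p 2 S) (hF : F.IsSaturated p)
    (hO : F.core = ⊥) (hne : E₁.subgroupOf S ≠ E₂.subgroupOf S)
    [hn1 : (E₁.subgroupOf S).Normal] [hn2 : (E₂.subgroupOf S).Normal]
    {A1 : Subgroup (MulAut (E₁.subgroupOf S))} {A2 : Subgroup (MulAut (E₂.subgroupOf S))}
    {K1 W1 K2 W2 : Subgroup S} {τ1 τ2 : MulAut S}
    (D1 : EssData p (E₁.subgroupOf S) A1 (F.autGroup S)) (D2 : EssData p (E₂.subgroupOf S) A2 (F.autGroup S))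
    (N1 : NT p (E₁.subgroupOf S) A1 (F.autGroup S) K1 W1 τ1) (N2 : NT p (E₂.subgroupOf S) A2 (F.autGroup S) K2 W2 τ2) : False := by
  obtain ⟨hKK, hKD, hDc⟩ := nn_main D1 D2 hne hS h2 hR N1 N2
  set T : Subgroup Ω := K1.map S.subtype with hT
  have hTS : T ≤ S := Subgroup.map_subtype_le _
  have hTm : ∀ x : S, (x : Ω) ∈ T ↔ x ∈ K1 := by
    intro x
    constructor
    · rintro ⟨y, hy, hxy⟩
      have : y = x := Subtype.ext hxy
      rwa [← this]
    · intro h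
      exact ⟨x, h, rfl⟩
  have hcen : ∀ {v : S}, v ∈ E₁.subgroupOf S ⊓ E₂.subgroupOf S ↔ ∀ s : S, v * s = s * v := nn_center D1 D2 hDc
  have hsc : F.StronglyClosed T := by
    refine stronglyClosed_of_ess hS hF T hTS ?_ ?_
    · intro β hβ x hx
      rw [hTm] at hx ⊢
      exact N1.invK.map D1 hβ hx
    · intro Q hQ α hα x hx
      have hQS : Q ≤ S := hQ.1.1
      -- `Q` contains the centre
      have hDQ : (E₁.subgroupOf S) ⊓ (E₂.subgroupOf S) ≤ Q.subgroupOf S := by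
        intro d hd
        have h1 : (d : Ω) ∈ centralizerIn S Q := by
          refine ⟨d.2, Subgroup.mem_centralizer_iff.2 fun z hz => ?_⟩
          have h3 := hcen.1 hd ⟨z, hQS hz⟩
          exact (congrArg Subtype.val h3).symm
        exact hQ.1.2 Q (isConj_refl F hQS) h1
      have hn : (Q.subgroupOf S).Normal := by
        refine ⟨fun n hn g => ?_⟩
        have h1 := hDQ (pair_comm D1 D2 g n)
        rw [commutatorElement_def] at h1
        have h3 := (Q.subgroupOf S).mul_mem h1 hn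
        rwa [inv_mul_cancel_right] at h3
      have hfin : Finite Q := finite_of_le hQS
      have D3 := ed0_of hS hF hQ (index_of hS h2 hR hF hQ)
      have h3 := nn_third D1 D2 hne hS h2 N1 hKD hDc D3
      have h4 := h3.inv _ (symm_mem_AF hα) ((eS hQS).symm x) (by
        rw [← hTm]
        exact hx)
      rw [← hTm, congr_symm_coe, MulEquiv.apply_symm_apply] at h4
      exact h4
  have hnorm : F.IsNormal T := by
    refine Cfsg.Agent.H759.isNormal_of_abelian hS hF hsc ?_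
    rw [eq_bot_iff, Subgroup.commutator_le]
    intro a ha b hb
    rw [Subgroup.mem_bot, commutatorElement_eq_one_iff_mul_comm]
    have h1 := hcen.1 (hKD ((hTm ⟨a, hTS ha⟩).1 ha)) ⟨b, hTS hb⟩
    exact congrArg Subtype.val h1
  have hTb : T = ⊥ := by
    rw [eq_bot_iff, ← hO]
    exact Cfsg.Agent.H759.IsNormal.le_core hnorm
  have hK : K1 = ⊥ := by
    rw [eq_bot_iff]
    intro x hx
    have h1 := (hTm x).2 hx
    rw [hTb, Subgroup.mem_bot] at h1
    rw [Subgroup.mem_bot]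
    exact Subtype.ext h1
  exact hR2 (nn_rank D1 D2 hne hS h2 N1 hK)

end Cfsg.Agent.H767.TE
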