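import Cfsg.Agent.H767.TEPair

/-!
# Properties of the natural and the regular type (helper767)
-/

set_option autoImplicit false
set_option linter.unusedSectionVars false
set_option linter.unusedVariables false

namespace Cfsg.Agent.H767.TE

open Subgroup
open scoped commutatorElement

variable {S : Type*} [Group S] [Finite S] {p : ℕ} [hp : Fact p.Prime]

variable {E : Subgroup S} [hE : E.Normal] {A : Subgroup (MulAut E)} {B : Subgroup (MulAut S)} {K W : Subgroup S} {τ : MulAut S}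

theorem eq_of_relIndex {N M X : Subgroup S} (h1 : N ≤ M) (h2 : M ≤ X) (h : N.relIndex X ≤ M.relIndex X) : N = M := by
  have h3 := Subgroup.relIndex_mul_relIndex N M X h1 h2
  have h4 := relIndex_ne M X
  have h5 : N.relIndex M * M.relIndex X ≤ 1 * M.relIndex X := by rw [h3, one_mul]; exact h
  have h6 := Nat.le_of_mul_le_mul_right h5 (Nat.pos_of_ne_zero h4)
  have h7 := relIndex_ne N M
  have h8 : N.relIndex M = 1 := by omega
  rw [Subgroup.relIndex_eq_one] at h8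
  exact le_antisymm h1 h8

theorem p_le_relIndex (hS : IsPGroup p S) {N M : Subgroup S} (hne : ¬ M ≤ N) : p ≤ N.relIndex M := by
  obtain ⟨k, hk⟩ := rel_pow hS N M
  have hk0 : k ≠ 0 := by
    rintro rfl
    rw [pow_zero, Subgroup.relIndex_eq_one] at hk
    exact hne hk
  rw [hk]
  calc p = p ^ 1 := (pow_one p).symm
    _ ≤ p ^ k := Nat.pow_le_pow_right hp.out.pos (by omega)

theorem NT.K_ne (N : NT p E A B K W τ) : K ≠ E := by
  intro h
  have h1 := N.idx
  rw [h, Subgroup.relIndex_self] at h1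
  have := Nat.one_lt_pow (n := 2) (by norm_num) hp.out.one_lt
  omega

theorem NT.tE (D : EssData p E A B) (N : NT p E A B K W τ) {e : S} (he : e ∈ E) : τ e ∈ E := Inv.self.map D N.mem he

theorem NT.negE (D : EssData p E A B) (N : NT p E A B K W τ) {e : S} (he : e ∈ E) : τ e * e ∈ K := by
  have hKn := N.invK.normal D
  rw [← N.sup] at he
  obtain ⟨k, hk, w, hw, rfl⟩ := Subgroup.mem_sup_of_normal_left.1 he
  have h1 := N.frK (N.neg w hw)
  have h2 : τ k ∈ K := N.invK.map D N.mem hk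
  have h3 := hKn.conj_mem k hk (τ w)
  have e1 : τ (k * w) * (k * w) = τ k * (τ w * k * (τ w)⁻¹) * (τ w * w) := by
    rw [map_mul]
    group
  rw [e1]
  exact K.mul_mem (K.mul_mem h2 h3) h1

theorem NT.pow (D : EssData p E A B) (hS : IsPGroup p S) (h2 : p ≠ 2) (N : NT p E A B K W τ) (s : S) : s ^ p ∈ K := by
  have hKn := N.invK.normal D
  set e := s⁻¹ * τ s with he
  have heE : e ∈ E := N.quo s
  have hτs : τ s = s * e := by rw [he]; group
  have h1 := comm2 hS N.invK.le N.idx.le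
  have h3 : ⁅s, e⁆ ∈ E := cm_of_mem_right heE
  have h4 : ⁅s, ⁅s, e⁆⁆ ∈ K := cm_symm (h1 (Subgroup.commutator_mem_commutator
    (by
      rw [Subgroup.commutator_comm]
      exact Subgroup.commutator_mem_commutator (mem_top s) heE) (mem_top s)))
  have h5 := pow_mod h2 (N := K) (a := s) (b := e) h4 (N.frK (comm_mem_Fr hS heE h3)) (N.frK (pow_mem_Fr hS h3))
  have h6 : e ^ p ∈ K := N.frK (pow_mem_Fr hS heE)
  rw [← hτs] at h5
  have h7 : (s ^ p)⁻¹ * τ (s ^ p) ∈ K := by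
    have h8 := K.mul_mem h6 h5
    have e1 : e ^ p * ((s ^ p * e ^ p)⁻¹ * τ s ^ p) = (s ^ p)⁻¹ * τ (s ^ p) := by
      rw [map_pow]
      group
    rwa [e1] at h8
  exact mem_of_inv_triv hS h2 (N.negE D (pow_mem_of_index D.index s)) h7

theorem NT.fix (D : EssData p E A B) (hS : IsPGroup p S) (h2 : p ≠ 2) (N : NT p E A B K W τ) {M : Subgroup S}
    (hM : Inv A M) (h : ∀ m ∈ M, ∀ s, ⁅m, s⁆ ∈ Fr M) : ∀ m ∈ M, τ m = m :=
  fix_of_Fr hS h2 N.sq (fun m hm => hM.map D N.mem hm) (N.triv M (Fr M) hM hM.Fr h)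

theorem NT.gen (D : EssData p E A B) (hS : IsPGroup p S) (h2 : p ≠ 2) (N : NT p E A B K W τ) {U : Subgroup S}
    (hK : K ≤ U) (h : ∀ e ∈ E, e⁻¹ * τ e ∈ U) : E ≤ U := by
  intro e he
  apply sq_mem hS h2
  have h1 := h e he
  have h3 := hK (N.negE D he)
  have huE : e⁻¹ * τ e ∈ E := E.mul_mem (E.inv_mem he) (N.tE D he)
  have h4 := hK (N.frK (comm_mem_Fr hS (E.inv_mem huE) (E.inv_mem he)))
  have h5 := U.mul_mem (U.mul_mem h3 (U.inv_mem h4)) (U.inv_mem h1)
  have e1 : ∀ a u : S, a * u * a * (⁅u⁻¹, a⁻¹⁆)⁻¹ * u⁻¹ = a * a := by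
    intro a u
    rw [commutatorElement_def]
    group
  have e2 : τ e * e = e * (e⁻¹ * τ e) * e := by group
  rw [e2, e1] at h5
  exact h5

theorem NT.uC (D : EssData p E A B) (N : NT p E A B K W τ) {M L : Subgroup S}
    (hM : Inv A M) (hL : Inv A L) (hτ : ∀ m ∈ M, m⁻¹ * τ m ∈ L) {e m : S} (hm : m ∈ M) : ⁅e⁻¹ * τ e, m⁆ ∈ L := by
  have hLn := hL.normal D
  have hMn := hM.normal D
  have hmk : ∀ x ∈ M, (QuotientGroup.mk (τ x) : S ⧸ L) = QuotientGroup.mk x := by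
    intro x hx
    exact ((QuotientGroup.eq).2 (hτ x hx)).symm
  have h3 : ⁅e, m⁆ ∈ M := cm_of_mem_right hm
  have h4 := hmk _ h3
  rw [map_commutatorElement] at h4
  have h5 : ⁅(QuotientGroup.mk (τ e) : S ⧸ L), (QuotientGroup.mk m : S ⧸ L)⁆ = ⁅(QuotientGroup.mk e : S ⧸ L), (QuotientGroup.mk m : S ⧸ L)⁆ := by
    have h6 : ⁅(QuotientGroup.mk (τ e) : S ⧸ L), (QuotientGroup.mk (τ m) : S ⧸ L)⁆ = ⁅(QuotientGroup.mk e : S ⧸ L), (QuotientGroup.mk m : S ⧸ L)⁆ := h4
    rwa [hmk m hm] at h6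
  apply (QuotientGroup.eq_one_iff (N := L) _).1
  show ⁅(QuotientGroup.mk e : S ⧸ L)⁻¹ * QuotientGroup.mk (τ e), (QuotientGroup.mk m : S ⧸ L)⁆ = 1
  rw [commutatorElement_eq_one_iff_mul_comm]
  rw [commutatorElement_def, commutatorElement_def] at h5
  set x : S ⧸ L := QuotientGroup.mk (τ e)
  set y : S ⧸ L := QuotientGroup.mk e
  set z : S ⧸ L := QuotientGroup.mk m
  have h6 : x * z * x⁻¹ = y * z * y⁻¹ := mul_right_cancel h5
  calc y⁻¹ * x * z = y⁻¹ * (x * z * x⁻¹) * x := by group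
    _ = z * (y⁻¹ * x) := by rw [h6]; group

theorem NT.cent_of_triv (D : EssData p E A B) (hS : IsPGroup p S) (h2 : p ≠ 2) (N : NT p E A B K W τ) {M L : Subgroup S}
    (hM : Inv A M) (hL : Inv A L) (hτ : ∀ m ∈ M, m⁻¹ * τ m ∈ L) (hK : ∀ k ∈ K, ∀ m ∈ M, ⁅k, m⁆ ∈ L) :
    ∀ e ∈ E, ∀ m ∈ M, ⁅e, m⁆ ∈ L := by
  have hLn := hL.normal D
  have h1 : E ≤ cmod E M L hLn := by
    refine N.gen D hS h2 (fun k hk => ⟨N.invK.le hk, hK k hk⟩) ?_
    intro e he
    exact ⟨E.mul_mem (E.inv_mem he) (N.tE D he), fun m hm => N.uC D hM hL hτ hm⟩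
  intro e he m hm
  exact (h1 he).2 m hm

theorem NT.notcent (D : EssData p E A B) (hS : IsPGroup p S) (h2 : p ≠ 2) (N : NT p E A B K W τ) :
    ¬ ∀ e ∈ E, ∀ s, ⁅e, s⁆ ∈ K := by
  intro h
  have hKn := N.invK.normal D
  have h1 := N.triv E K Inv.self N.invK h
  apply N.K_ne
  apply le_antisymm N.invK.le
  intro e he
  exact mem_of_inv_triv hS h2 (N.negE D he) (h1 e he)

theorem NT.notcentW (D : EssData p E A B) (hS : IsPGroup p S) (h2 : p ≠ 2) (N : NT p E A B K W τ) :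
    ¬ ∀ w ∈ W, ∀ s, ⁅w, s⁆ ∈ Fr E := by
  intro h
  have h1 := N.triv W (Fr E) N.invW Inv.self.Fr h
  apply N.K_ne
  have h3 : W ≤ K := fun w hw => N.frK (mem_of_inv_triv hS h2 (N.neg w hw) (h1 w hw))
  rw [← N.sup]
  exact (sup_eq_left.2 h3).symm

theorem NT.idxW (D : EssData p E A B) (N : NT p E A B K W τ) : (Fr E).relIndex W = p ^ 2 := by
  have hKn := N.invK.normal D
  rw [← N.inf, Subgroup.inf_relIndex_right, ← N.idx, ← N.sup, Subgroup.relIndex_sup_left]

/-- the subgroup generated by `[M, τ]` and `N` -/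
def ct (M : Subgroup S) (τ : MulAut S) (N : Subgroup S) : Subgroup S :=
  Subgroup.closure ({x | ∃ m ∈ M, x = m⁻¹ * τ m} ∪ N)

theorem le_ct {M : Subgroup S} {τ : MulAut S} {N : Subgroup S} : N ≤ ct M τ N :=
  fun x hx => Subgroup.subset_closure (Or.inr hx)

theorem mem_ct {M : Subgroup S} {τ : MulAut S} {N : Subgroup S} {m : S} (hm : m ∈ M) : m⁻¹ * τ m ∈ ct M τ N :=
  Subgroup.subset_closure (Or.inl ⟨m, hm, rfl⟩)

theorem ct_le {M : Subgroup S} {τ : MulAut S} {N U : Subgroup S} (h : N ≤ U) (h1 : ∀ m ∈ M, m⁻¹ * τ m ∈ U) : ct M τ N ≤ U := by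
  refine (Subgroup.closure_le _).2 ?_
  rintro x (⟨m, hm, rfl⟩ | hx)
  · exact h1 m hm
  · exact h hx

theorem NT.ct_inv (D : EssData p E A B) (N : NT p E A B K W τ) {M L : Subgroup S} (hM : Inv A M) (hL : Inv A L)
    (hE : ∀ e ∈ E, ∀ m ∈ M, ⁅e, m⁆ ∈ L) : Inv A (ct M τ L) := by
  have hLn := hL.normal D
  refine Inv.of_closure ?_ ?_
  · rintro x (⟨m, hm, rfl⟩ | hx)
    · exact E.mul_mem (E.inv_mem (hM.le hm)) (N.tE D (hM.le hm))
    · exact hL.le hx
  · rintro α hα x (⟨m, hm, hx⟩ | hx)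
    · obtain ⟨e, he, h⟩ := N.comm α hα
      set m0 : E := ⟨m, hM.le hm⟩ with hm0
      have h1 := h m0 ⟨τ m, N.tE D (hM.le hm)⟩ rfl
      have hx' : x = m0⁻¹ * ⟨τ m, N.tE D (hM.le hm)⟩ := Subtype.ext hx
      have h3 : ((α m0 : E) : S) ∈ M := hM.inv α hα m0 hm
      rw [hx', map_mul, map_inv, Subgroup.coe_mul, Subgroup.coe_inv, h1]
      set z : S := ((α m0 : E) : S) with hz
      have e1 : z⁻¹ * (e * τ z * e⁻¹) = (z⁻¹ * τ z) * (⁅e, (τ z)⁻¹⁆)⁻¹ := by
        rw [commutatorElement_def]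
        group
      rw [e1]
      refine mul_mem (mem_ct h3) (inv_mem (le_ct (hE e he _ (M.inv_mem (hM.map D N.mem h3)))))
    · exact le_ct (hL.inv α hα x hx)

theorem NT.cases (D : EssData p E A B) (hS : IsPGroup p S) (h2 : p ≠ 2) (N : NT p E A B K W τ) {F : Subgroup S}
    (hF : F ≤ E) (hFr : Fr E ≤ F) (hidx : F.relIndex E = p) (hτ : ∀ d ∈ F, τ d ∈ F) : K ≤ F ∨ W = F := by
  have hKn := N.invK.normal D
  by_cases h : ∃ d ∈ F, d ∉ W
  · left
    obtain ⟨d, hd, hdW⟩ := h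
    have hdE := hF hd
    rw [← N.sup] at hdE
    obtain ⟨k, hk, w, hw, rfl⟩ := Subgroup.mem_sup_of_normal_left.1 hdE
    have hkE := N.invK.le hk
    have hwE := N.invW.le hw
    have hk2 : k * k ∈ F := by
      have h1 := F.mul_mem (hτ _ hd) hd
      have h3 : τ (k * w) * (k * w) = τ k * (⁅τ w, k⁆ * k * (τ w * w)) := by
        rw [map_mul, commutatorElement_def]
        group
      rw [h3] at h1
      have h4 := F.inv_mem (hFr (N.neg w hw))
      have h5 : τ k * (⁅τ w, k⁆ * k * (τ w * w)) * (τ w * w)⁻¹ = k * (k⁻¹ * τ k) * ⁅τ w, k⁆ * k := by group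
      have h6 := F.mul_mem h1 h4
      rw [h5] at h6
      have hFrn : (Fr E).Normal := Fr_normal
      have h7 : (k⁻¹ * τ k) * ⁅τ w, k⁆ ∈ Fr E := (Fr E).mul_mem (N.pos k hk) (comm_mem_Fr hS (N.tE D hwE) hkE)
      have h8 := hFr (hFrn.conj_mem _ h7 k)
      have h9 := F.mul_mem (F.inv_mem h8) h6
      have e1 : ∀ a b c : S, (a * (b * c) * a⁻¹)⁻¹ * (a * b * c * a) = a * a := by
        intro a b c
        group
      rwa [e1] at h9
    have hkF : k ∈ F := sq_mem hS h2 hk2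
    have hkFr : k ∉ Fr E := fun h => hdW (W.mul_mem (N.frW h) hw)
    rcases between (X := K ⊓ F) (le_inf N.frK hFr) inf_le_left N.idxK with h1 | h1
    · exact (hkFr (h1 ▸ ⟨hk, hkF⟩)).elim
    · rw [← h1]
      exact inf_le_right
  · push Not at h
    have hFW : F ≤ W := h
    rcases between hFW N.invW.le (dvd_of_eq hidx) with h1 | h1
    · right
      exact h1
    · left
      have h3 : K ≤ Fr E := by
        rw [← N.inf, h1]
        exact le_inf le_rfl N.invK.le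
      exact h3.trans hFr

/-! ### The regular type -/

/-- `[E,S]Φ(E)` -/
def G1 (E : Subgroup S) : Subgroup S := ⁅E, (⊤ : Subgroup S)⁆ ⊔ Fr E

/-- `[E,S,S]Φ(E)` -/
def G2 (E : Subgroup S) : Subgroup S := ⁅G1 E, (⊤ : Subgroup S)⁆ ⊔ Fr E

instance G1_normal : (G1 E).Normal := by
  unfold G1
  infer_instance

instance G2_normal : (G2 E).Normal := by
  unfold G2
  infer_instance

theorem Fr_le_G1 : Fr E ≤ G1 E := le_sup_right

theorem Fr_le_G2 : Fr E ≤ G2 E := le_sup_right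

theorem G1_le : G1 E ≤ E := sup_le (Subgroup.commutator_le_left E ⊤) (Fr_le E)

theorem G2_le : G2 E ≤ G1 E := sup_le (Subgroup.commutator_le_left _ ⊤) Fr_le_G1

theorem RT.ne (D : EssData p E A B) (N : RT p E A) : ¬ ⁅⁅E, (⊤ : Subgroup S)⁆, (⊤ : Subgroup S)⁆ ≤ Fr E := by
  intro h
  obtain ⟨y, hy⟩ := D.exists_notMem
  obtain ⟨e, he, hne⟩ := N.reg y hy
  apply hne
  have h1 : ⁅y, e⁆ ∈ ⁅E, (⊤ : Subgroup S)⁆ := by
    rw [Subgroup.commutator_comm]
    exact Subgroup.commutator_mem_commutator (mem_top y) he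
  exact cm_symm (h (Subgroup.commutator_mem_commutator h1 (mem_top y)))

theorem RT.chain (D : EssData p E A B) (hS : IsPGroup p S) (N : RT p E A) :
    (G1 E).relIndex E = p ∧ (G2 E).relIndex (G1 E) = p ∧ (Fr E).relIndex (G2 E) = p := by
  have n1 : ¬ G2 E ≤ Fr E := by
    intro h
    apply N.ne D
    exact (Subgroup.commutator_mono (le_sup_left : ⁅E, (⊤ : Subgroup S)⁆ ≤ G1 E) le_rfl).trans ((le_sup_left : _ ≤ G2 E).trans h)
  have n2 : ¬ G1 E ≤ G2 E := by
    intro h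
    have h1 : Fr E ≠ G1 E := by
      intro h3
      apply n1
      rw [h3]
      exact G2_le
    exact comm_ne hS (N := Fr E) (M := G1 E) Fr_le_G1 h1 (le_antisymm G2_le h)
  have n3 : ¬ E ≤ G1 E := by
    intro h
    have h1 : Fr E ≠ E := by
      intro h3
      apply n1
      rw [h3]
      exact G2_le.trans G1_le
    exact comm_ne hS (N := Fr E) (M := E) (Fr_le E) h1 (le_antisymm G1_le h)
  have h1 := Subgroup.relIndex_mul_relIndex (Fr E) (G2 E) (G1 E) Fr_le_G2 G2_le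
  have h3 := Subgroup.relIndex_mul_relIndex (Fr E) (G1 E) E Fr_le_G1 G1_le
  rw [N.idx, ← h1] at h3
  have i1 := p_le_relIndex hS n1
  have i2 := p_le_relIndex hS n2
  have i3 := p_le_relIndex hS n3
  set a := (Fr E).relIndex (G2 E)
  set b := (G2 E).relIndex (G1 E)
  set c := (G1 E).relIndex E
  have hp0 := hp.out.pos
  have ha : a ≤ p := by
    have h5 : a * (p * p) ≤ p * (p * p) := by
      calc a * (p * p) ≤ a * (b * c) := Nat.mul_le_mul_left _ (Nat.mul_le_mul i2 i3)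
        _ = p ^ 3 := by rw [← mul_assoc]; exact h3
        _ = p * (p * p) := by ring
    exact Nat.le_of_mul_le_mul_right h5 (Nat.mul_pos hp0 hp0)
  have hb : b ≤ p := by
    have h5 : b * (p * p) ≤ p * (p * p) := by
      calc b * (p * p) ≤ b * (a * c) := Nat.mul_le_mul_left _ (Nat.mul_le_mul i1 i3)
        _ = p ^ 3 := by rw [← h3]; ring
        _ = p * (p * p) := by ring
    exact Nat.le_of_mul_le_mul_right h5 (Nat.mul_pos hp0 hp0)
  have hc : c ≤ p := by
    have h5 : c * (p * p) ≤ p * (p * p) := by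
      calc c * (p * p) ≤ c * (a * b) := Nat.mul_le_mul_left _ (Nat.mul_le_mul i1 i2)
        _ = p ^ 3 := by rw [← h3]; ring
        _ = p * (p * p) := by ring
    exact Nat.le_of_mul_le_mul_right h5 (Nat.mul_pos hp0 hp0)
  exact ⟨le_antisymm hc i3, le_antisymm hb i2, le_antisymm ha i1⟩

/-- a normal subgroup of index `p` in `E` containing `Φ(E)` is `[E,S]Φ(E)` -/
theorem RT.eq_G1 (D : EssData p E A B) (hS : IsPGroup p S) (N : RT p E A) {X : Subgroup S} [hX : X.Normal] (hF : Fr E ≤ X)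
    (hXE : X ≤ E) (hidx : X.relIndex E = p) : G1 E = X := by
  refine eq_of_relIndex (sup_le (comm1 hS hXE hidx.le) hF) hXE ?_
  rw [(N.chain D hS).1, hidx]

theorem RT.eq_G2 (D : EssData p E A B) (hS : IsPGroup p S) (N : RT p E A) {X : Subgroup S} [hX : X.Normal] (hF : Fr E ≤ X)
    (hXE : X ≤ G1 E) (hidx : X.relIndex (G1 E) = p) : G2 E = X := by
  refine eq_of_relIndex (sup_le (comm1 hS hXE hidx.le) hF) hXE ?_
  rw [(N.chain D hS).2.1, hidx]

end Cfsg.Agent.H767.TE
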