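import Cfsg.Agent.H767.TEBasic

/-!
# Transvection groups on elementary abelian groups of order at most `p³` (helper767)
-/

set_option autoImplicit false
set_option linter.unusedSectionVars false
set_option linter.unusedVariables false

namespace Cfsg.Agent.H767.TE

open Subgroup

section

variable {X V : Type*} [Group X] [Finite X] [CommGroup V] [Finite V] {p : ℕ} [hp : Fact p.Prime]

/-- `v ↦ α(v)v⁻¹` -/
def dl (α : MulAut V) : V →* V where
  toFun v := α v * v⁻¹
  map_one' := by simp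
  map_mul' a b := by
    rw [map_mul, mul_inv]
    exact mul_mul_mul_comm _ _ _ _

theorem dl_apply (α : MulAut V) (v : V) : dl α v = α v * v⁻¹ := rfl

theorem apply_eq (α : MulAut V) (v : V) : α v = v * dl α v := by
  rw [dl_apply, mul_comm (α v), mul_inv_cancel_left]

theorem pow_apply_choose (α : MulAut V) {v a b : V} (h1 : α v = v * a) (h2 : α a = a * b) (h3 : α b = b) (n : ℕ) :
    (α ^ n) v = v * a ^ n * b ^ (n.choose 2) := by
  induction n with
  | zero => simp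
  | succ n ih =>
    rw [pow_succ', MulAut.mul_apply, ih, map_mul, map_mul, map_pow, map_pow, h1, h2, h3]
    have h4 : ((n + 1).choose 2 : ℕ) = n + n.choose 2 := by
      rw [Nat.choose_succ_succ' n 1, Nat.choose_one_right]
    rw [h4, mul_pow, pow_add b, pow_succ a]
    simp only [mul_assoc, mul_comm]

theorem zpow_apply (α : MulAut V) {v a : V} (h1 : α v = v * a) (h2 : α a = a) (n : ℤ) :
    (α ^ n) v = v * a ^ n := by
  have hnat : ∀ (β : MulAut V) (b : V), β v = v * b → β b = b → ∀ m : ℕ, (β ^ m) v = v * b ^ m := by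
    intro β b e1 e2 m
    have := pow_apply_choose β e1 (b := 1) (by rw [mul_one]; exact e2) (map_one β) m
    rw [one_pow, mul_one] at this
    exact this
  cases n with
  | ofNat m =>
    show (α ^ ((m : ℕ) : ℤ)) v = v * a ^ ((m : ℕ) : ℤ)
    rw [zpow_natCast, zpow_natCast]
    exact hnat α a h1 h2 m
  | negSucc m =>
    have e2 : α⁻¹ a = a := by
      rw [MulAut.inv_apply, MulEquiv.symm_apply_eq, h2]
    have e1 : α⁻¹ v = v * a⁻¹ := by
      rw [MulAut.inv_apply, MulEquiv.symm_apply_eq, map_mul, map_inv, h1, h2, mul_inv_cancel_right]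
    have := hnat α⁻¹ a⁻¹ e1 (by rw [map_inv, e2]) (m + 1)
    rw [zpow_negSucc, zpow_negSucc, ← inv_pow, ← inv_pow]
    exact this

variable (ρ : X →* MulAut V)

/-- the subgroup of `X` stabilising the chain `1 ≤ c₁ ≤ c₂ ≤ V` -/
def stab (c1 c2 : Subgroup V) (hle : c1 ≤ c2) : Subgroup X where
  carrier := {x | (∀ v, ρ x v * v⁻¹ ∈ c2) ∧ (∀ v ∈ c2, ρ x v * v⁻¹ ∈ c1) ∧ (∀ v ∈ c1, ρ x v = v)}
  mul_mem' := by
    rintro x y ⟨hx1, hx2, hx3⟩ ⟨hy1, hy2, hy3⟩
    have key : ∀ v, ρ (x * y) v * v⁻¹ = (ρ x (ρ y v) * (ρ y v)⁻¹) * (ρ y v * v⁻¹) := by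
      intro v
      rw [map_mul, MulAut.mul_apply]
      group
    refine ⟨fun v => ?_, fun v hv => ?_, fun v hv => ?_⟩
    · rw [key]
      exact mul_mem (hx1 _) (hy1 _)
    · rw [key]
      have h1 : ρ y v ∈ c2 := by
        have := c2.mul_mem (hle (hy2 v hv)) hv
        rwa [inv_mul_cancel_right] at this
      exact mul_mem (hx2 _ h1) (hy2 _ hv)
    · rw [map_mul, MulAut.mul_apply, hy3 v hv, hx3 v hv]
  one_mem' := by
    refine ⟨fun v => ?_, fun v hv => ?_, fun v hv => ?_⟩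
    · rw [map_one, MulAut.one_apply, mul_inv_cancel]
      exact c2.one_mem
    · rw [map_one, MulAut.one_apply, mul_inv_cancel]
      exact c1.one_mem
    · rw [map_one, MulAut.one_apply]
  inv_mem' := by
    rintro x ⟨hx1, hx2, hx3⟩
    have e : ∀ v, ρ x (ρ x⁻¹ v) = v := by
      intro v
      rw [← MulAut.mul_apply, ← map_mul, mul_inv_cancel, map_one, MulAut.one_apply]
    have key : ∀ v, ρ x⁻¹ v * v⁻¹ = (ρ x (ρ x⁻¹ v) * (ρ x⁻¹ v)⁻¹)⁻¹ := by
      intro v
      rw [e v]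
      group
    have h1 : ∀ v, ρ x⁻¹ v * v⁻¹ ∈ c2 := fun v => by
      rw [key]
      exact inv_mem (hx1 _)
    refine ⟨h1, fun v hv => ?_, fun v hv => ?_⟩
    · rw [key]
      refine inv_mem (hx2 _ ?_)
      have := c2.mul_mem (h1 v) hv
      rwa [inv_mul_cancel_right] at this
    · have h2 := hx3 v hv
      have h3 : ρ x⁻¹ (ρ x v) = v := by
        rw [← MulAut.mul_apply, ← map_mul, inv_mul_cancel, map_one, MulAut.one_apply]
      rwa [h2] at h3

/-- the chain stabiliser is a `p`-group when the kernel is -/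
theorem isPGroup_stab (hexp : ∀ v : V, v ^ p = 1) (h2 : p ≠ 2) (hker : IsPGroup p ρ.ker) (c1 c2 : Subgroup V)
    (hle : c1 ≤ c2) : IsPGroup p (stab ρ c1 c2 hle) := by
  rintro ⟨x, hx1, hx2, hx3⟩
  have h1 : (ρ x) ^ p = 1 := by
    ext v
    have e := pow_apply_choose (ρ x) (v := v) (a := dl (ρ x) v) (b := dl (ρ x) (dl (ρ x) v)) (apply_eq _ _)
      (apply_eq _ _) (hx3 _ (hx2 _ (hx1 v))) p
    have hdvd : p ∣ p.choose 2 := hp.out.dvd_choose_self (by norm_num) (lt_of_le_of_ne hp.out.two_le (Ne.symm h2))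
    obtain ⟨k, hk⟩ := hdvd
    rw [hexp, mul_one, hk, pow_mul, hexp, one_pow, mul_one] at e
    exact e
  have h3 : x ^ p ∈ ρ.ker := by rw [MonoidHom.mem_ker, map_pow, h1]
  obtain ⟨k, hk⟩ := hker ⟨x ^ p, h3⟩
  refine ⟨k + 1, ?_⟩
  apply Subtype.ext
  show x ^ p ^ (k + 1) = 1
  rw [pow_succ', pow_mul]
  exact congrArg Subtype.val hk

/-- two subgroups whose product group is a `p`-group -/
theorem conj_eq_of_le {Q : Subgroup X} (hmax : ∀ R : Subgroup X, IsPGroup p R → Q ≤ R → R = Q) {x : X} {R : Subgroup X}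
    (hR : IsPGroup p R) (h1 : Q ≤ R) (h2 : Q.map (MulAut.conj x).toMonoidHom ≤ R) :
    Q.map (MulAut.conj x).toMonoidHom = Q := by
  have h3 := hmax R hR h1
  rw [h3] at h2
  refine Subgroup.eq_of_le_of_card_ge h2 ?_
  rw [Subgroup.card_map_of_injective (MulAut.conj x).injective]

/-- the data of a group acting with quadratic `p`-elements -/
structure QData (p : ℕ) (ρ : X →* MulAut V) (Q : Subgroup X) (g : X) : Prop where
  exp : ∀ v : V, v ^ p = 1
  card : Nat.card V ≤ p ^ 3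
  odd : p ≠ 2
  ker : IsPGroup p ρ.ker
  pQ : IsPGroup p Q
  max : ∀ R : Subgroup X, IsPGroup p R → Q ≤ R → R = Q
  gQ : g ∈ Q
  gen : ∀ q ∈ Q, ∃ n : ℤ, ρ q = (ρ g) ^ n
  ne : ρ g ≠ 1
  quad : ∀ v : V, ρ g (dl (ρ g) v) = dl (ρ g) v

variable {ρ} {Q : Subgroup X} {g : X}

theorem QData.card_range (D : QData p ρ Q g) : Nat.card (dl (ρ g)).range = p := by
  have h1 := (dl (ρ g)).ker.card_mul_index
  rw [Subgroup.index_ker] at h1
  have h2 : (dl (ρ g)).range ≤ (dl (ρ g)).ker := by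
    rintro _ ⟨v, rfl⟩
    rw [MonoidHom.mem_ker, dl_apply, D.quad, mul_inv_cancel]
  have h3 := Subgroup.card_le_of_le h2
  have hV : IsPGroup p V := fun v => ⟨1, by rw [pow_one]; exact D.exp v⟩
  obtain ⟨k, hk⟩ := (IsPGroup.iff_card.1 (hV.to_subgroup (dl (ρ g)).range))
  have hk0 : k ≠ 0 := by
    rintro rfl
    rw [pow_zero] at hk
    have h4 := Subgroup.eq_bot_of_card_eq _ hk
    apply D.ne
    ext v
    have h5 : dl (ρ g) v ∈ (dl (ρ g)).range := ⟨v, rfl⟩
    rw [h4, Subgroup.mem_bot, dl_apply, mul_inv_eq_one] at h5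
    exact h5
  have hk1 : k ≤ 1 := by
    by_contra h
    have h4 : p ^ (2 * k) ≤ p ^ 3 := by
      calc p ^ (2 * k) = p ^ k * p ^ k := by rw [two_mul, pow_add]
        _ = Nat.card (dl (ρ g)).range * Nat.card (dl (ρ g)).range := by rw [hk]
        _ ≤ Nat.card (dl (ρ g)).ker * Nat.card (dl (ρ g)).range := Nat.mul_le_mul_right _ h3
        _ = Nat.card V := h1
        _ ≤ p ^ 3 := D.card
    rw [Nat.pow_le_pow_iff_right hp.out.one_lt] at h4
    omega
  have hk' : k = 1 := by omega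
  rw [hk, hk', pow_one]

/-- conjugating the data -/
theorem QData.conj (D : QData p ρ Q g) (x : X) :
    QData p ρ (Q.map (MulAut.conj x).toMonoidHom) (x * g * x⁻¹) where
  exp := D.exp
  card := D.card
  odd := D.odd
  ker := D.ker
  pQ := D.pQ.map _
  max R hR hQR := by
    have h1 := D.max (R.map (MulAut.conj x⁻¹).toMonoidHom) (hR.map _) (by
      intro q hq
      refine ⟨x * q * x⁻¹, hQR ⟨q, hq, rfl⟩, ?_⟩
      show x⁻¹ * (x * q * x⁻¹) * x⁻¹⁻¹ = q
      group)
    rw [← h1, Subgroup.map_map]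
    have h2 : ((MulAut.conj x).toMonoidHom).comp (MulAut.conj x⁻¹).toMonoidHom = MonoidHom.id X := by
      ext z
      show x * (x⁻¹ * z * x⁻¹⁻¹) * x⁻¹ = z
      group
    rw [h2, Subgroup.map_id]
  gQ := ⟨g, D.gQ, rfl⟩
  gen := by
    rintro _ ⟨q, hq, rfl⟩
    obtain ⟨n, hn⟩ := D.gen q hq
    refine ⟨n, ?_⟩
    show ρ (x * q * x⁻¹) = (ρ (x * g * x⁻¹)) ^ n
    rw [map_mul, map_mul, map_mul, map_mul, hn, map_inv, conj_zpow]
  ne := by
    intro h
    rw [map_mul, map_mul, map_inv, mul_inv_eq_one] at h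
    exact D.ne (mul_eq_left.1 h)
  quad v := by
    have e : ∀ v, dl (ρ (x * g * x⁻¹)) v = ρ x (dl (ρ g) (ρ x⁻¹ v)) := by
      intro v
      have e2 : ρ x (ρ x⁻¹ v) = v := by
        rw [← MulAut.mul_apply, ← map_mul, mul_inv_cancel, map_one, MulAut.one_apply]
      rw [dl_apply, dl_apply, map_mul (ρ x), map_inv (ρ x), e2, map_mul ρ, map_mul ρ, MulAut.mul_apply,
        MulAut.mul_apply]
    have e2 : ρ x⁻¹ (dl (ρ (x * g * x⁻¹)) v) = dl (ρ g) (ρ x⁻¹ v) := by
      rw [e, ← MulAut.mul_apply, ← map_mul, inv_mul_cancel, map_one, MulAut.one_apply]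
    have e3 : ρ (x * g * x⁻¹) (dl (ρ (x * g * x⁻¹)) v) = ρ x (ρ g (ρ x⁻¹ (dl (ρ (x * g * x⁻¹)) v))) := by
      rw [map_mul, map_mul, MulAut.mul_apply, MulAut.mul_apply]
    rw [e3, e2, D.quad, e]

/-- If `h` fixes `[V, g]` then `g` and `h` generate a `p`-group. -/
theorem QData.pair {Q' : Subgroup X} {h : X} (D : QData p ρ Q g) (D' : QData p ρ Q' h)
    (hfix : ∀ v, ρ h (dl (ρ g) v) = dl (ρ g) v) : Q' = Q := by
  set c1 := (dl (ρ g)).range with hc1
  set c2 := (dl (ρ g)).range ⊔ (dl (ρ h)).range with hc2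
  have hle : c1 ≤ c2 := le_sup_left
  -- `g` and `h` fix `c1`; they act trivially on `c2/c1`
  have hg : g ∈ stab ρ c1 c2 hle := by
    refine ⟨fun v => hle ⟨v, rfl⟩, fun v _ => ⟨v, rfl⟩, ?_⟩
    rintro _ ⟨v, rfl⟩
    exact D.quad v
  have hh : h ∈ stab ρ c1 c2 hle := by
    refine ⟨fun v => (le_sup_right : (dl (ρ h)).range ≤ c2) ⟨v, rfl⟩, fun v hv => ?_, ?_⟩
    · -- `h` fixes `c2`
      obtain ⟨a, ⟨a', rfl⟩, b, ⟨b', rfl⟩, rfl⟩ := Subgroup.mem_sup.1 hv
      rw [map_mul, hfix, D'.quad, mul_inv_cancel]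
      exact c1.one_mem
    · rintro _ ⟨v, rfl⟩
      exact hfix v
  have hp1 := isPGroup_stab ρ D.exp D.odd D.ker c1 c2 hle
  -- all of `Q` and `Q'`
  have hkerle : ρ.ker ≤ stab ρ c1 c2 hle := by
    intro x hx
    rw [MonoidHom.mem_ker] at hx
    refine ⟨fun v => ?_, fun v _ => ?_, fun v _ => ?_⟩
    · rw [hx, MulAut.one_apply, mul_inv_cancel]
      exact c2.one_mem
    · rw [hx, MulAut.one_apply, mul_inv_cancel]
      exact c1.one_mem
    · rw [hx, MulAut.one_apply]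
  have key : ∀ (y x : X) (n : ℤ), x ∈ stab ρ c1 c2 hle → ρ y = (ρ x) ^ n → y ∈ stab ρ c1 c2 hle := by
    intro y x n hx hy
    have h1 : y * (x ^ n)⁻¹ ∈ ρ.ker := by
      rw [MonoidHom.mem_ker, map_mul, map_inv, map_zpow, hy, mul_inv_cancel]
    have h2 := mul_mem (hkerle h1) (zpow_mem hx n)
    rwa [inv_mul_cancel_right] at h2
  have hQ : Q ≤ stab ρ c1 c2 hle := by
    intro q hq
    obtain ⟨n, hn⟩ := D.gen q hq
    exact key q g n hg hn
  have hQ' : Q' ≤ stab ρ c1 c2 hle := by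
    intro q hq
    obtain ⟨n, hn⟩ := D'.gen q hq
    exact key q h n hh hn
  rw [← D.max _ hp1 hQ]
  exact (D'.max _ hp1 hQ').symm

theorem zpowers_eq_of_prime {Z : Subgroup V} (hZ : Nat.card Z = p) {z : V} (hz : z ∈ Z) (hz1 : z ≠ 1) :
    zpowers z = Z := by
  refine Subgroup.eq_of_le_of_card_ge (by rw [zpowers_le]; exact hz) ?_
  rw [hZ, Nat.card_zpowers]
  have h1 : orderOf z ∣ p := by
    rw [← hZ]
    exact Subgroup.orderOf_dvd_natCard _ hz
  rcases (Nat.dvd_prime hp.out).1 h1 with h2 | h2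
  · exact (hz1 (orderOf_eq_one_iff.1 h2)).elim
  · exact h2.ge

/-- The conclusions for a transvection group. -/
structure NatOut (p : ℕ) (ρ : X →* MulAut V) (Q : Subgroup X) (V0 V1 : Subgroup V) (τ : X) : Prop where
  mem : τ ∈ Subgroup.normalClosure (Q : Set X)
  inv0 : ∀ x, ∀ v ∈ V0, ρ x v ∈ V0
  inv1 : ∀ x, ∀ v ∈ V1, ρ x v ∈ V1
  inf : V0 ⊓ V1 = ⊥
  sup : V0 ⊔ V1 = ⊤
  card : Nat.card V0 = p ^ 2
  neg : ∀ v ∈ V0, ρ τ v = v⁻¹
  pos : ∀ v ∈ V1, ρ τ v = v
  irr : ∀ U ≤ V0, (∀ x, ∀ v ∈ U, ρ x v ∈ U) → U = ⊥ ∨ U = V0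
  triv : ∀ x ∈ Subgroup.normalClosure (Q : Set X), ∀ v ∈ V1, ρ x v = v
  comm : ∀ x ∈ Subgroup.normalClosure (Q : Set X), ∀ v, ρ x v * v⁻¹ ∈ V0

theorem QData.main (D : QData p ρ Q g) (hx : ∃ x : X, Q.map (MulAut.conj x).toMonoidHom ≠ Q) :
    ∃ (V0 V1 : Subgroup V) (τ : X), NatOut p ρ Q V0 V1 τ := by
  obtain ⟨x, hx⟩ := hx
  set h := x * g * x⁻¹ with hh
  set Q' := Q.map (MulAut.conj x).toMonoidHom with hQ'
  have D' : QData p ρ Q' h := D.conj x
  have nfix1 : ¬ ∀ v, ρ h (dl (ρ g) v) = dl (ρ g) v := fun hf => hx (D.pair D' hf)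
  have nfix2 : ¬ ∀ v, ρ g (dl (ρ h) v) = dl (ρ h) v := fun hf => hx (D'.pair D hf).symm
  push Not at nfix1 nfix2
  obtain ⟨v1, hv1⟩ := nfix1
  obtain ⟨v2, hv2⟩ := nfix2
  set f := dl (ρ h) v2 with hf
  set e := dl (ρ g) f with he
  have hge : ρ g e = e := D.quad f
  have hgf : ρ g f = f * e := apply_eq _ _
  have hhf : ρ h f = f := D'.quad v2
  have he1 : e ≠ 1 := by
    intro h1
    rw [h1, mul_one] at hgf
    exact hv2 hgf
  have hf1 : f ≠ 1 := by
    intro h1
    apply hv2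
    rw [h1, map_one]
  have hRe : zpowers e = (dl (ρ g)).range := zpowers_eq_of_prime D.card_range ⟨f, rfl⟩ he1
  have hRf : zpowers f = (dl (ρ h)).range := zpowers_eq_of_prime D'.card_range ⟨v2, rfl⟩ hf1
  have hhe : ρ h e ≠ e := by
    intro h1
    apply hv1
    have h2 : dl (ρ g) v1 ∈ zpowers e := by rw [hRe]; exact ⟨v1, rfl⟩
    obtain ⟨n, hn⟩ := h2
    simp only at hn
    rw [← hn, map_zpow, h1]
  set f1 := dl (ρ h) e with hf1'
  have hf11 : f1 ≠ 1 := by
    intro h1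
    apply hhe
    rw [apply_eq (ρ h) e, ← hf1', h1, mul_one]
  have hhe' : ρ h e = e * f1 := apply_eq _ _
  have hhf1 : ρ h f1 = f1 := D'.quad e
  have hRf1 : zpowers f1 = zpowers f := by
    rw [hRf]
    exact zpowers_eq_of_prime D'.card_range ⟨e, rfl⟩ hf11
  have hoe : orderOf e = p := orderOf_eq_prime (D.exp e) he1
  have hof : orderOf f = p := orderOf_eq_prime (D.exp f) hf1
  have hof1 : orderOf f1 = p := orderOf_eq_prime (D.exp f1) hf11
  obtain ⟨b, hb⟩ : ∃ b : ℤ, f1 ^ b = f⁻¹ := by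
    have h1 : f⁻¹ ∈ zpowers f1 := by rw [hRf1]; exact inv_mem (mem_zpowers f)
    exact h1
  -- the two subspaces
  set V0 := zpowers e ⊔ zpowers f with hV0
  set V1 := (dl (ρ g)).ker ⊓ (dl (ρ h)).ker with hV1
  have heV : e ∈ V0 := (le_sup_left : zpowers e ≤ V0) (mem_zpowers e)
  have hfV : f ∈ V0 := (le_sup_right : zpowers f ≤ V0) (mem_zpowers f)
  have hgz : ∀ a ∈ zpowers e, ρ g a = a := by
    rintro _ ⟨n, rfl⟩
    simp only
    rw [map_zpow, hge]
  have hhz : ∀ a ∈ zpowers f, ρ h a = a := by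
    rintro _ ⟨n, rfl⟩
    simp only
    rw [map_zpow, hhf]
  have hgfz : ∀ n : ℤ, ρ g (f ^ n) = f ^ n * e ^ n := by
    intro n
    rw [map_zpow, hgf, mul_zpow]
  have hhez : ∀ n : ℤ, ρ h (e ^ n) = e ^ n * f1 ^ n := by
    intro n
    rw [map_zpow, hhe', mul_zpow]
  have hdisj : zpowers e ⊓ zpowers f = ⊥ := by
    rw [eq_bot_iff]
    rintro z ⟨hz1, hz2⟩
    obtain ⟨n, hn⟩ := hz2
    simp only at hn
    have h1 := hgfz n
    rw [hn, hgz z hz1] at h1
    have h2 : e ^ n = 1 := mul_eq_left.1 h1.symm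
    have h3 : (p : ℤ) ∣ n := by rw [← hoe]; exact orderOf_dvd_iff_zpow_eq_one.2 h2
    obtain ⟨m, rfl⟩ := h3
    rw [Subgroup.mem_bot, ← hn, zpow_mul, zpow_natCast, D.exp, one_zpow]
  have hcardV0 : Nat.card V0 = p ^ 2 := by
    have h1 := Subgroup.relIndex_mul_relIndex ⊥ (zpowers e) V0 bot_le le_sup_left
    rw [Subgroup.relIndex_bot_left, Subgroup.relIndex_bot_left, hV0, Subgroup.relIndex_sup_left,
      ← Subgroup.inf_relIndex_right, hdisj, Subgroup.relIndex_bot_left, Nat.card_zpowers, Nat.card_zpowers, hoe,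
      hof] at h1
    rw [← h1, pow_two]
  have hmemV0 : ∀ z ∈ V0, ∃ m n : ℤ, z = e ^ m * f ^ n := by
    intro z hz
    obtain ⟨a, ⟨m, rfl⟩, c, ⟨n, rfl⟩, rfl⟩ := Subgroup.mem_sup.1 hz
    exact ⟨m, n, rfl⟩
  have hinf : V0 ⊓ V1 = ⊥ := by
    rw [eq_bot_iff]
    rintro z ⟨hz, hz1, hz2⟩
    obtain ⟨m, n, rfl⟩ := hmemV0 z hz
    have h1 : ρ g (e ^ m * f ^ n) = e ^ m * f ^ n := by
      have : dl (ρ g) (e ^ m * f ^ n) = 1 := hz1
      rwa [dl_apply, mul_inv_eq_one] at this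
    rw [map_mul, hgfz, hgz _ (zpow_mem (mem_zpowers e) m), ← mul_assoc] at h1
    have h2 : e ^ n = 1 := mul_eq_left.1 h1
    have h3 : (p : ℤ) ∣ n := by rw [← hoe]; exact orderOf_dvd_iff_zpow_eq_one.2 h2
    obtain ⟨k, rfl⟩ := h3
    have h4 : f ^ ((p : ℤ) * k) = 1 := by rw [zpow_mul, zpow_natCast, D.exp, one_zpow]
    have h5 : ρ h (e ^ m * f ^ ((p : ℤ) * k)) = e ^ m * f ^ ((p : ℤ) * k) := by
      have : dl (ρ h) (e ^ m * f ^ ((p : ℤ) * k)) = 1 := hz2
      rwa [dl_apply, mul_inv_eq_one] at this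
    rw [h4, mul_one, hhez] at h5
    have h6 : f1 ^ m = 1 := mul_eq_left.1 h5
    have h7 : (p : ℤ) ∣ m := by rw [← hof1]; exact orderOf_dvd_iff_zpow_eq_one.2 h6
    obtain ⟨l, rfl⟩ := h7
    rw [Subgroup.mem_bot, h4, mul_one, zpow_mul, zpow_natCast, D.exp, one_zpow]
  have hsup : V0 ⊔ V1 = ⊤ := by
    rw [eq_top_iff]
    intro v _
    have h1 : dl (ρ g) v ∈ zpowers e := by rw [hRe]; exact ⟨v, rfl⟩
    obtain ⟨m, hm⟩ := h1
    simp only at hm
    have h2 : dl (ρ h) (v * (f ^ m)⁻¹) ∈ zpowers f1 := by rw [hRf1, hRf]; exact ⟨_, rfl⟩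
    obtain ⟨n, hn⟩ := h2
    simp only at hn
    have hde : dl (ρ g) e = 1 := by rw [dl_apply, hge, mul_inv_cancel]
    have hdf : dl (ρ g) f = e := rfl
    have hde' : dl (ρ h) e = f1 := rfl
    have h3 : v * (f ^ m)⁻¹ * (e ^ n)⁻¹ ∈ V1 := by
      refine ⟨?_, ?_⟩
      · show dl (ρ g) (v * (f ^ m)⁻¹ * (e ^ n)⁻¹) = 1
        rw [map_mul, map_mul, map_inv, map_inv, map_zpow, map_zpow, hdf, hde, ← hm, one_zpow, inv_one, mul_one,
          mul_inv_cancel]
      · show dl (ρ h) (v * (f ^ m)⁻¹ * (e ^ n)⁻¹) = 1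
        rw [map_mul, ← hn, map_inv, map_zpow, hde', mul_inv_cancel]
    have h4 : v = (e ^ n * f ^ m) * (v * (f ^ m)⁻¹ * (e ^ n)⁻¹) := by
      rw [mul_assoc v, ← mul_inv_rev, mul_left_comm, mul_inv_cancel, mul_one]
    rw [h4]
    exact Subgroup.mul_mem_sup (mul_mem (zpow_mem heV n) (zpow_mem hfV m)) h3
  -- the subgroup of elements acting trivially on `V/V0` and `V1`
  let Pg : Subgroup X :=
    { carrier := {y | (∀ v, ρ y v * v⁻¹ ∈ V0) ∧ (∀ v ∈ V1, ρ y v = v)}
      mul_mem' := by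
        rintro y z ⟨hy1, hy2⟩ ⟨hz1, hz2⟩
        refine ⟨fun v => ?_, fun v hv => ?_⟩
        · have key : ρ (y * z) v * v⁻¹ = (ρ y (ρ z v) * (ρ z v)⁻¹) * (ρ z v * v⁻¹) := by
            rw [map_mul, MulAut.mul_apply]
            group
          rw [key]
          exact mul_mem (hy1 _) (hz1 _)
        · rw [map_mul, MulAut.mul_apply, hz2 v hv, hy2 v hv]
      one_mem' := by
        refine ⟨fun v => ?_, fun v hv => ?_⟩
        · rw [map_one, MulAut.one_apply, mul_inv_cancel]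
          exact V0.one_mem
        · rw [map_one, MulAut.one_apply]
      inv_mem' := by
        rintro y ⟨hy1, hy2⟩
        refine ⟨fun v => ?_, fun v hv => ?_⟩
        · have e2 : ρ y (ρ y⁻¹ v) = v := by
            rw [← MulAut.mul_apply, ← map_mul, mul_inv_cancel, map_one, MulAut.one_apply]
          have key : ρ y⁻¹ v * v⁻¹ = (ρ y (ρ y⁻¹ v) * (ρ y⁻¹ v)⁻¹)⁻¹ := by
            rw [e2]
            group
          rw [key]
          exact inv_mem (hy1 _)
        · have h2 := hy2 v hv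
          have h3 : ρ y⁻¹ (ρ y v) = v := by
            rw [← MulAut.mul_apply, ← map_mul, inv_mul_cancel, map_one, MulAut.one_apply]
          rwa [h2] at h3 }
  have hPz : ∀ (y z : X) (n : ℤ), z ∈ Pg → ρ y = (ρ z) ^ n → y ∈ Pg := by
    intro y z n hz hy
    obtain ⟨h1, h2⟩ := zpow_mem hz n
    refine ⟨fun v => ?_, fun v hv => ?_⟩
    · have h3 := h1 v
      rwa [map_zpow, ← hy] at h3
    · have h3 := h2 v hv
      rwa [map_zpow, ← hy] at h3
  have hgP : g ∈ Pg := by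
    refine ⟨fun v => ?_, fun v hv => ?_⟩
    · apply (le_sup_left : zpowers e ≤ V0)
      rw [hRe]
      exact ⟨v, rfl⟩
    · have h3 : dl (ρ g) v = 1 := hv.1
      rwa [dl_apply, mul_inv_eq_one] at h3
  have hhP : h ∈ Pg := by
    refine ⟨fun v => ?_, fun v hv => ?_⟩
    · apply (le_sup_right : zpowers f ≤ V0)
      rw [hRf]
      exact ⟨v, rfl⟩
    · have h3 : dl (ρ h) v = 1 := hv.2
      rwa [dl_apply, mul_inv_eq_one] at h3
  have hQP : Q ≤ Pg := by
    intro q hq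
    obtain ⟨n, hn⟩ := D.gen q hq
    exact hPz q g n hgP hn
  have hQP' : Q' ≤ Pg := by
    intro q hq
    obtain ⟨n, hn⟩ := D'.gen q hq
    exact hPz q h n hhP hn
  -- all conjugates of `Q` lie in `Pg`
  have hall : ∀ y : X, Q.map (MulAut.conj y).toMonoidHom ≤ Pg := by
    intro y
    have D'' := D.conj y
    set r := y * g * y⁻¹ with hr
    obtain ⟨u, hu, hu1, hru⟩ : ∃ u ∈ V0, u ≠ 1 ∧ ρ r u = u := by
      by_contra hcon
      push Not at hcon
      have hinj : Function.Injective ((dl (ρ r)).comp V0.subtype) := by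
        rw [injective_iff_map_eq_one]
        intro z hz
        by_contra hz1
        have h1 : dl (ρ r) z = 1 := hz
        rw [dl_apply, mul_inv_eq_one] at h1
        exact hcon z z.2 (fun h2 => hz1 (Subtype.ext h2)) h1
      have h1 : Nat.card V0 ≤ Nat.card (dl (ρ r)).range := by
        have hmap : ∀ z : V0, dl (ρ r) z ∈ (dl (ρ r)).range := fun z => ⟨z, rfl⟩
        exact Nat.card_le_card_of_injective (fun z => (⟨dl (ρ r) z, hmap z⟩ : (dl (ρ r)).range))
          (fun a c hac => hinj (congrArg Subtype.val hac))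
      rw [hcardV0, D''.card_range, pow_two] at h1
      have := hp.out.one_lt
      nlinarith
    obtain ⟨a, ha, c, hc, hac⟩ := Subgroup.mem_sup.1 hu
    by_cases hc1 : c = 1
    · rw [hc1, mul_one] at hac
      rw [hac] at ha
      have h1 : zpowers u = (dl (ρ g)).range := by
        refine zpowers_eq_of_prime D.card_range ?_ hu1
        rw [← hRe]
        exact ha
      have h2 := D.pair D'' (fun v => by
        have h3 : dl (ρ g) v ∈ zpowers u := by rw [h1]; exact ⟨v, rfl⟩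
        obtain ⟨n, hn⟩ := h3
        simp only at hn
        rw [← hn, map_zpow, hru])
      rw [h2]
      exact hQP
    · have h1 : zpowers c = zpowers f := by
        rw [hRf]
        refine zpowers_eq_of_prime D'.card_range ?_ hc1
        rw [← hRf]
        exact hc
      obtain ⟨m, hm⟩ : ∃ m : ℤ, c ^ m = f := by
        have h2 : f ∈ zpowers c := by rw [h1]; exact mem_zpowers f
        exact h2
      obtain ⟨n, hn⟩ : ∃ n : ℤ, e ^ n = a ^ m := zpow_mem ha m
      have hum : u ^ m = f * e ^ n := by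
        rw [← hac, mul_zpow, hm, hn, mul_comm]
      have hgn : ρ (g ^ n) f = f * e ^ n := by
        rw [map_zpow]
        exact zpow_apply (ρ g) hgf hge n
      have D3 := D'.conj (g ^ n)
      have h2 := D3.pair D'' (fun v => by
        have e1 : dl (ρ (g ^ n * h * (g ^ n)⁻¹)) v = ρ (g ^ n) (dl (ρ h) (ρ (g ^ n)⁻¹ v)) := by
          have e2 : ρ (g ^ n) (ρ (g ^ n)⁻¹ v) = v := by
            rw [← MulAut.mul_apply, ← map_mul, mul_inv_cancel, map_one, MulAut.one_apply]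
          rw [dl_apply, dl_apply, map_mul (ρ (g ^ n)), map_inv (ρ (g ^ n)), e2, map_mul ρ, map_mul ρ,
            MulAut.mul_apply, MulAut.mul_apply]
        have e3 : dl (ρ h) (ρ (g ^ n)⁻¹ v) ∈ zpowers f := by rw [hRf]; exact ⟨_, rfl⟩
        obtain ⟨j, hj⟩ := e3
        simp only at hj
        rw [e1, ← hj, map_zpow, hgn, ← hum, map_zpow, map_zpow, hru])
      rw [h2]
      rintro _ ⟨q, hq, rfl⟩
      exact mul_mem (mul_mem (zpow_mem hgP n) (hQP' hq)) (inv_mem (zpow_mem hgP n))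
  have hL : Subgroup.normalClosure (Q : Set X) ≤ Pg := by
    rw [Subgroup.normalClosure, Subgroup.closure_le]
    intro z hz
    obtain ⟨q, hq, hqz⟩ := Group.mem_conjugatesOfSet_iff.1 hz
    obtain ⟨y, rfl⟩ := isConj_iff.1 hqz
    exact hall y ⟨q, hq, rfl⟩
  have hgL : g ∈ Subgroup.normalClosure (Q : Set X) := Subgroup.subset_normalClosure D.gQ
  have hhL : h ∈ Subgroup.normalClosure (Q : Set X) := by
    have : (Subgroup.normalClosure (Q : Set X)).Normal := Subgroup.normalClosure_normal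
    exact this.conj_mem _ hgL x
  -- invariance
  have hinv1 : ∀ y, ∀ v ∈ V1, ρ y v ∈ V1 := by
    intro y v hv
    have key : ∀ k ∈ Subgroup.normalClosure (Q : Set X), ρ k (ρ y v) = ρ y v := by
      intro k hk
      have hn : (Subgroup.normalClosure (Q : Set X)).Normal := Subgroup.normalClosure_normal
      have h1 := (hL (hn.conj_mem _ hk y⁻¹)).2 v hv
      have h2 : ρ (y * (y⁻¹ * k * y⁻¹⁻¹)) v = ρ y v := by
        rw [map_mul, MulAut.mul_apply, h1]
      rw [← MulAut.mul_apply, ← map_mul, ← h2]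
      congr 2
      group
    refine ⟨?_, ?_⟩
    · show dl (ρ g) (ρ y v) = 1
      rw [dl_apply, key g hgL, mul_inv_cancel]
    · show dl (ρ h) (ρ y v) = 1
      rw [dl_apply, key h hhL, mul_inv_cancel]
  have hinvc : ∀ (y k : X) (v : V), k ∈ Subgroup.normalClosure (Q : Set X) → ρ y (dl (ρ k) v) ∈ V0 := by
    intro y k v hk
    have hn : (Subgroup.normalClosure (Q : Set X)).Normal := Subgroup.normalClosure_normal
    have h1 := (hL (hn.conj_mem _ hk y)).1 (ρ y v)
    have e2 : ρ (y * k * y⁻¹) (ρ y v) * (ρ y v)⁻¹ = ρ y (dl (ρ k) v) := by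
      rw [dl_apply, map_mul (ρ y), map_inv (ρ y), ← MulAut.mul_apply, ← MulAut.mul_apply, ← map_mul, ← map_mul]
      congr 3
      group
    rwa [e2] at h1
  have hinv0 : ∀ y, ∀ v ∈ V0, ρ y v ∈ V0 := by
    intro y v hv
    obtain ⟨m, n, rfl⟩ := hmemV0 v hv
    rw [map_mul, map_zpow, map_zpow]
    exact mul_mem (zpow_mem (hinvc y g f hgL) m) (zpow_mem (hinvc y h v2 hhL) n)
  -- the involution
  set k := h ^ b with hk
  have hke : ρ k e = e * f⁻¹ := by
    rw [hk, map_zpow, zpow_apply (ρ h) hhe' hhf1 b, hb]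
  have hkf : ρ k f = f := by
    have := zpow_apply (ρ h) (v := f) (a := 1) (by rw [mul_one]; exact hhf) (map_one _) b
    rw [one_zpow, mul_one] at this
    rw [hk, map_zpow, this]
  set w := g * k * g with hw
  have hwe : ρ w e = f⁻¹ := by
    rw [hw, map_mul, map_mul, MulAut.mul_apply, MulAut.mul_apply, hge, hke, map_mul, map_inv, hge, hgf, mul_inv,
      mul_comm f⁻¹, mul_inv_cancel_left]
  have hwf : ρ w f = e := by
    rw [hw, map_mul, map_mul, MulAut.mul_apply, MulAut.mul_apply, hgf, map_mul, hke, hkf, mul_comm e,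
      mul_inv_cancel_left, hge]
  have hwL : w ∈ Subgroup.normalClosure (Q : Set X) := mul_mem (mul_mem hgL (zpow_mem hhL b)) hgL
  refine ⟨V0, V1, w * w, ?_⟩
  refine ⟨mul_mem hwL hwL, hinv0, hinv1, hinf, hsup, hcardV0, ?_, ?_, ?_, ?_, ?_⟩
  · intro v hv
    obtain ⟨m, n, rfl⟩ := hmemV0 v hv
    have e1 : ρ (w * w) e = e⁻¹ := by rw [map_mul, MulAut.mul_apply, hwe, map_inv, hwf]
    have e2 : ρ (w * w) f = f⁻¹ := by rw [map_mul, MulAut.mul_apply, hwf, hwe]
    rw [map_mul, map_zpow, map_zpow, e1, e2, mul_inv, inv_zpow, inv_zpow]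
  · intro v hv
    exact (hL (mul_mem hwL hwL)).2 v hv
  · intro U hU hUinv
    by_cases hUb : U = ⊥
    · exact Or.inl hUb
    right
    have hdlU : ∀ y v, v ∈ U → dl (ρ y) v ∈ U := fun y v hv => U.mul_mem (hUinv y v hv) (U.inv_mem hv)
    obtain ⟨⟨u, hu⟩, hu1'⟩ := Subgroup.ne_bot_iff_exists_ne_one.1 hUb
    have hu1 : u ≠ 1 := fun h => hu1' (Subtype.ext h)
    have heU : e ∈ U := by
      obtain ⟨a, ha, c, hc, hac⟩ := Subgroup.mem_sup.1 (hU hu)
      by_cases hc1 : c = 1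
      · rw [hc1, mul_one] at hac
        rw [hac] at ha
        have h1 : zpowers (u : V) = zpowers e := by
          rw [hRe]
          refine zpowers_eq_of_prime D.card_range ?_ hu1
          rw [← hRe]
          exact ha
        have h2 : e ∈ zpowers (u : V) := by rw [h1]; exact mem_zpowers e
        exact (zpowers_le.2 hu) h2
      · obtain ⟨n, hn⟩ := hc
        simp only at hn
        have h1 : dl (ρ g) u = e ^ n := by
          rw [← hac, map_mul, dl_apply, hgz a ha, mul_inv_cancel, one_mul, ← hn, dl_apply, hgfz, mul_comm,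
            inv_mul_cancel_left]
        have h2 := hdlU g u hu
        rw [h1] at h2
        have h3 : e ^ n ≠ 1 := by
          intro h3
          have h4 : (p : ℤ) ∣ n := by rw [← hoe]; exact orderOf_dvd_iff_zpow_eq_one.2 h3
          obtain ⟨l, rfl⟩ := h4
          apply hc1
          rw [← hn, zpow_mul, zpow_natCast, D.exp, one_zpow]
        have h4 : zpowers (e ^ n) = zpowers e := by
          rw [hRe]
          refine zpowers_eq_of_prime D.card_range ?_ h3
          rw [← hRe]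
          exact zpow_mem (mem_zpowers e) n
        have h5 : e ∈ zpowers (e ^ n) := by rw [h4]; exact mem_zpowers e
        exact (zpowers_le.2 h2) h5
    have hf1U : f1 ∈ U := hdlU h e heU
    have hfU : f ∈ U := by
      have h5 : f ∈ zpowers f1 := by rw [hRf1]; exact mem_zpowers f
      exact (zpowers_le.2 hf1U) h5
    apply le_antisymm hU
    exact sup_le (zpowers_le.2 heU) (zpowers_le.2 hfU)
  · intro y hy v hv
    exact (hL hy).2 v hv
  · intro y hy v
    exact (hL hy).1 v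

end

end Cfsg.Agent.H767.TE
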