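import Cfsg.Agent.H767.TETools

/-!
# Pairs of maximal subgroups with automorphism groups: preliminaries (helper767)
-/

set_option autoImplicit false
set_option linter.unusedSectionVars false
set_option linter.unusedVariables false

namespace Cfsg.Agent.H767.TE

open Subgroup
open scoped commutatorElement

variable {S : Type*} [Group S] [Finite S] {p : ℕ} [hp : Fact p.Prime]

theorem relIndex_ne (N M : Subgroup S) : N.relIndex M ≠ 0 := (N.subgroupOf M).index_ne_zero_of_finite

theorem relIndex_mono_left {N N' : Subgroup S} (M : Subgroup S) (h : N ≤ N') : N'.relIndex M ≤ N.relIndex M :=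
  Subgroup.relIndex_le_of_le_left h (relIndex_ne _ _)

/-- `N.relIndex M ≤ p` implies it divides `p`. -/
theorem rel_dvd (hS : IsPGroup p S) {N M : Subgroup S} (h : N.relIndex M ≤ p) : N.relIndex M ∣ p := by
  obtain ⟨k, hk⟩ := rel_pow hS N M
  rw [hk] at h ⊢
  have h1 : k ≤ 1 := by
    by_contra hcon
    push Not at hcon
    have : p ^ 1 < p ^ k := Nat.pow_lt_pow_right hp.out.one_lt hcon
    rw [pow_one] at this
    omega
  calc p ^ k ∣ p ^ 1 := pow_dvd_pow p h1
    _ = p := pow_one p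

/-- A group with a normal subgroup of index `p` centralised modulo `N` is abelian modulo `N`. -/
theorem abel_of_index {E D N : Subgroup S} [hN : N.Normal] [hD : D.Normal] (hle : D ≤ E) (hidx : D.relIndex E ∣ p)
    (h : ∀ d ∈ D, ∀ e ∈ E, ⁅d, e⁆ ∈ N) : ∀ a ∈ E, ∀ b ∈ E, ⁅a, b⁆ ∈ N := by
  intro a ha b hb
  by_cases haD : a ∈ D
  · exact h a haD b hb
  -- the elements of `E` commuting with `a` modulo `N`
  let T : Subgroup S :=
    { carrier := {x | x ∈ E ∧ ⁅x, a⁆ ∈ N}
      mul_mem' := fun hx hy => ⟨E.mul_mem hx.1 hy.1, cm_mul_left hx.2 hy.2⟩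
      one_mem' := ⟨E.one_mem, by
        rw [commutatorElement_one_left]
        exact N.one_mem⟩
      inv_mem' := fun hx => ⟨E.inv_mem hx.1, cm_inv_left hx.2⟩ }
  have h1 : D ≤ T := fun d hd => ⟨hle hd, h d hd a ha⟩
  have h2 : T ≤ E := fun x hx => hx.1
  have haT : a ∈ T := ⟨ha, by
    rw [commutatorElement_self]
    exact N.one_mem⟩
  rcases between h1 h2 hidx with h3 | h3
  · exact (haD (h3 ▸ haT)).elim
  · have : b ∈ T := by rw [h3]; exact hb
    exact cm_symm this.2

/-- index bound from a homomorphism modulo `N` -/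
theorem relIndex_le_of_hom {X M N U : Subgroup S} (f : S → S) (hf : ∀ x ∈ X, f x ∈ M) (hNM : N.Normal)
    (hmul : ∀ x ∈ X, ∀ y ∈ X, (f (x * y))⁻¹ * (f x * f y) ∈ N) (hker : ∀ x ∈ X, f x ∈ N → x ∈ U) :
    U.relIndex X ≤ N.relIndex M := by
  have : (N.subgroupOf M).Normal := hNM.subgroupOf M
  let g : X →* M ⧸ N.subgroupOf M :=
    MonoidHom.mk' (fun x => QuotientGroup.mk ⟨f x, hf x x.2⟩) (fun x y => by
      rw [← QuotientGroup.mk_mul, QuotientGroup.eq, Subgroup.mem_subgroupOf]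
      exact hmul x x.2 y y.2)
  have h1 : g.ker ≤ U.subgroupOf X := by
    intro x hx
    rw [Subgroup.mem_subgroupOf]
    apply hker x x.2
    have h2 : (QuotientGroup.mk (⟨f x, hf x x.2⟩ : M) : M ⧸ N.subgroupOf M) = 1 := hx
    rw [QuotientGroup.eq_one_iff, Subgroup.mem_subgroupOf] at h2
    exact h2
  have h2 : (U.subgroupOf X).index ≤ g.ker.index :=
    Nat.le_of_dvd (Nat.pos_of_ne_zero g.ker.index_ne_zero_of_finite) (Subgroup.index_dvd_of_le h1)
  rw [Subgroup.index_ker] at h2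
  calc U.relIndex X = (U.subgroupOf X).index := rfl
    _ ≤ Nat.card g.range := h2
    _ ≤ Nat.card (M ⧸ N.subgroupOf M) := Nat.le_of_dvd Nat.card_pos (Subgroup.card_subgroup_dvd_card _)
    _ = N.relIndex M := rfl

/-- A quadratic action: the Frattini subgroup centralises. -/
theorem quad_Fr (hS : IsPGroup p S) {E X M N : Subgroup S} [hE : E.Normal] [hX : X.Normal] [hM : M.Normal] [hN : N.Normal]
    (h1 : ∀ e ∈ E, ∀ x ∈ X, ⁅e, x⁆ ∈ M) (h2 : ∀ e ∈ E, ∀ m ∈ M, ⁅e, m⁆ ∈ N) (hpow : ∀ m ∈ M, m ^ p ∈ N) :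
    ∀ f ∈ Fr E, ∀ x ∈ X, ⁅f, x⁆ ∈ N := by
  have h3 : Fr E ≤ cmod E X N hN := by
    apply Fr_le_of hS (show cmod E X N hN ≤ E from fun x hx => (mem_cmod.1 hx).1)
    · intro a ha b hb
      refine ⟨Fr_le E (comm_mem_Fr hS ha hb), fun m hm => ?_⟩
      have h4 : ⁅⁅E, E⁆, X⁆ ≤ N := by
        have h5 : ⁅⁅E, X⁆, E⁆ ≤ N := by
          have h6 : ⁅E, X⁆ ≤ M := Subgroup.commutator_le.2 h1
          have h7 : ⁅M, E⁆ ≤ N := Subgroup.commutator_le.2 (fun m hm e he => cm_symm (h2 e he m hm))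
          exact (Subgroup.commutator_mono h6 le_rfl).trans h7
        refine three h5 ?_
        rw [Subgroup.commutator_comm X E]
        exact h5
      exact h4 (Subgroup.commutator_mem_commutator (Subgroup.commutator_mem_commutator ha hb) hm)
    · intro a ha
      refine ⟨E.pow_mem ha p, fun x hx => ?_⟩
      have hc := h1 a ha x hx
      have hq := h2 a ha _ hc
      have key : ∀ n : ℕ, (⁅a, x⁆ ^ n)⁻¹ * ⁅a ^ n, x⁆ ∈ N := by
        intro n
        rw [← QuotientGroup.eq]
        set A : S ⧸ N := QuotientGroup.mk a with hA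
        set Y : S ⧸ N := QuotientGroup.mk x with hY
        have e1 : Commute A ⁅A, Y⁆ := by
          have : ⁅A, ⁅A, Y⁆⁆ = (1 : S ⧸ N) := (QuotientGroup.eq_one_iff _).2 hq
          rw [commutatorElement_eq_one_iff_mul_comm] at this
          exact this
        show ⁅A, Y⁆ ^ n = ⁅A ^ n, Y⁆
        induction n with
        | zero => simp
        | succ n ih =>
          have e2 : ⁅A * A ^ n, Y⁆ = A * ⁅A ^ n, Y⁆ * A⁻¹ * ⁅A, Y⁆ := by
            rw [commutatorElement_def, commutatorElement_def, commutatorElement_def]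
            group
          rw [pow_succ' A, e2, ← ih, (e1.pow_right n).eq, mul_inv_cancel_right, pow_succ]
      have h4 := key p
      have h5 : ⁅a, x⁆ ^ p ∈ N := hpow _ hc
      have h6 := N.mul_mem h5 h4
      rwa [mul_inv_cancel_left] at h6
  intro f hf x hx
  exact (h3 hf).2 x hx

/-! ### One maximal subgroup -/

section one

variable {E : Subgroup S} [hE : E.Normal] {A : Subgroup (MulAut E)} {B : Subgroup (MulAut S)}

theorem comm_mem_of_index {E : Subgroup S} [hE : E.Normal] (h : E.index = p) (a b : S) : ⁅a, b⁆ ∈ E := by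
  have hc : Nat.card (S ⧸ E) = p := h
  have : IsCyclic (S ⧸ E) := isCyclic_of_prime_card hc
  apply (QuotientGroup.eq_one_iff (N := E) _).1
  show ⁅(QuotientGroup.mk a : S ⧸ E), (QuotientGroup.mk b : S ⧸ E)⁆ = (1 : S ⧸ E)
  rw [commutatorElement_eq_one_iff_mul_comm]
  exact (IsCyclic.commGroup (α := S ⧸ E)).mul_comm _ _

theorem pow_mem_of_index {E : Subgroup S} [hE : E.Normal] (h : E.index = p) (a : S) : a ^ p ∈ E := by
  apply (QuotientGroup.eq_one_iff (N := E) _).1
  rw [QuotientGroup.mk_pow, ← h]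
  exact pow_card_eq_one'

/-- quadratic Triv lemma: an irreducible section of order `≥ p²` is not moved into a section of order `p` -/
theorem triv_lemma (D : EssData p E A B) {X M N F : Subgroup S} (hX : Inv A X) (hM : Inv A M) (hN : Inv A N)
    (hNM : N ≤ M) (hMX : M ≤ X) (hirr : ∀ U, Inv A U → M ≤ U → U ≤ X → U = M ∨ U = X) (hbig : p < M.relIndex X)
    (hsmall : N.relIndex M ≤ p) (hXM : ∀ e ∈ E, ∀ x ∈ X, ⁅e, x⁆ ∈ M) (hMN : ∀ e ∈ E, ∀ m ∈ M, ⁅e, m⁆ ∈ N)
    (hFE : F ≤ E) (hF : F.relIndex E ∣ p) (hFX : ∀ f ∈ F, ∀ x ∈ X, ⁅f, x⁆ ∈ N) : ∀ e ∈ E, ∀ x ∈ X, ⁅e, x⁆ ∈ N := by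
  have hXn := hX.normal D
  have hMn := hM.normal D
  have hNn := hN.normal D
  by_contra hcon
  push Not at hcon
  obtain ⟨e0, he0, x0, hx0, hne⟩ := hcon
  have he0F : e0 ∉ F := fun h => hne (hFX e0 h x0 hx0)
  -- the fixed points
  have hU : Inv A (cmod X E N hNn) := Inv.cmod hX Inv.self hN hNn
  have hMU : M ≤ cmod X E N hNn := fun m hm => ⟨hMX hm, fun e he => cm_symm (hMN e he m hm)⟩
  rcases hirr _ hU hMU (fun x hx => hx.1) with h | h
  · have h1 : M.relIndex X ≤ N.relIndex M := by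
      refine relIndex_le_of_hom (fun x => ⁅e0, x⁆) (fun x hx => hXM e0 he0 x hx) hNn ?_ ?_
      · intro x hx y hy
        have e1 : ⁅e0, x * y⁆⁻¹ * (⁅e0, x⁆ * ⁅e0, y⁆) = x * (⁅e0, y⁆⁻¹ * x⁻¹ * ⁅e0, y⁆ * x) * x⁻¹ := by
          rw [commutatorElement_def, commutatorElement_def, commutatorElement_def]
          group
        show ⁅e0, x * y⁆⁻¹ * (⁅e0, x⁆ * ⁅e0, y⁆) ∈ N
        rw [e1]
        apply hNn.conj_mem
        have h2 := hMN x⁻¹ (E.inv_mem (hX.le hx)) (⁅e0, y⁆⁻¹) (M.inv_mem (hXM e0 he0 y hy))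
        have h3 := N.inv_mem h2
        rw [commutatorElement_inv, commutatorElement_def, inv_inv, inv_inv] at h3
        exact h3
      · intro x hx hfx
        rw [← h]
        refine ⟨hx, fun e he => cm_symm ?_⟩
        -- elements of `E` commuting with `x` modulo `N`
        let T : Subgroup S :=
          { carrier := {z | z ∈ E ∧ ⁅z, x⁆ ∈ N}
            mul_mem' := fun ha hb => ⟨E.mul_mem ha.1 hb.1, cm_mul_left ha.2 hb.2⟩
            one_mem' := ⟨E.one_mem, by
              rw [commutatorElement_one_left]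
              exact N.one_mem⟩
            inv_mem' := fun ha => ⟨E.inv_mem ha.1, cm_inv_left ha.2⟩ }
        have h1 : F ≤ T := fun d hd => ⟨hFE hd, hFX d hd x hx⟩
        have h2 : T ≤ E := fun x hx => hx.1
        have haT : e0 ∈ T := ⟨he0, hfx⟩
        rcases between h1 h2 hF with h3 | h3
        · exact (he0F (h3 ▸ haT)).elim
        · have : e ∈ T := by rw [h3]; exact he
          exact this.2
    omega
  · have h1 : x0 ∈ cmod X E N hNn := by rw [h]; exact hx0
    exact hne (cm_symm (h1.2 e0 he0))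

end one

end Cfsg.Agent.H767.TE
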