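import Cfsg.Agent.H767.TEStr

/-!
# The two types of maximal subgroups (helper767)
-/

set_option autoImplicit false
set_option linter.unusedSectionVars false
set_option linter.unusedVariables false

namespace Cfsg.Agent.H767.TE

open Subgroup
open scoped commutatorElement

variable {S : Type*} [Group S] [Finite S] {p : ℕ} [hp : Fact p.Prime]

section data

variable {E : Subgroup S} [hE : E.Normal] {A : Subgroup (MulAut E)} {B : Subgroup (MulAut S)}

/-- The natural type -/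
structure NT (p : ℕ) (E : Subgroup S) (A : Subgroup (MulAut E)) (B : Subgroup (MulAut S)) (K W : Subgroup S)
    (τ : MulAut S) : Prop where
  invK : Inv A K
  invW : Inv A W
  frK : Fr E ≤ K
  frW : Fr E ≤ W
  inf : K ⊓ W = Fr E
  sup : K ⊔ W = E
  idx : K.relIndex E = p ^ 2
  idxK : (Fr E).relIndex K ∣ p
  irr : ∀ U, Inv A U → K ≤ U → U = K ∨ U = E
  irrW : ∀ U, Inv A U → Fr E ≤ U → U ≤ W → U = Fr E ∨ U = W
  mem : τ ∈ B
  sq : ∀ s, τ (τ s) = s
  quo : ∀ s, s⁻¹ * τ s ∈ E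
  neg : ∀ w ∈ W, τ w * w ∈ Fr E
  pos : ∀ k ∈ K, k⁻¹ * τ k ∈ Fr E
  triv : ∀ M N, Inv A M → Inv A N → (∀ m ∈ M, ∀ s, ⁅m, s⁆ ∈ N) → ∀ m ∈ M, m⁻¹ * τ m ∈ N
  comm : ∀ α ∈ A, ∃ e ∈ E, ∀ x x' : E, (x' : S) = τ x → ((α x' : E) : S) = e * τ (α x : E) * e⁻¹

/-- The regular type -/
structure RT (p : ℕ) (E : Subgroup S) (A : Subgroup (MulAut E)) : Prop where
  idx : (Fr E).relIndex E = p ^ 3
  irr : ∀ U, Inv A U → Fr E ≤ U → U ≤ E → U = Fr E ∨ U = E
  reg : ∀ y ∉ E, ∃ e ∈ E, ⁅y, ⁅y, e⁆⁆ ∉ Fr E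

theorem mkV_comm {hS : IsPGroup p S} (y : S) (e : E) :
    dl (actV hS E (MulAut.conjNormal (H := E) y)) (mkV hS E e) = mkV hS E (MulAut.conjNormal (H := E) y e * e⁻¹) := by
  rw [dl_apply, actV_mk, map_mul, map_inv]

theorem mkV_comm2 {hS : IsPGroup p S} (y : S) (e : E) :
    actV hS E (MulAut.conjNormal (H := E) y) (dl (actV hS E (MulAut.conjNormal (H := E) y)) (mkV hS E e)) =
      dl (actV hS E (MulAut.conjNormal (H := E) y)) (mkV hS E e) ↔ ⁅y, ⁅y, (e : S)⁆⁆ ∈ Fr E := by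
  rw [mkV_comm, ← mul_inv_eq_one, ← dl_apply, mkV_comm, mkV_one]
  have e1 : ((MulAut.conjNormal (H := E) y (MulAut.conjNormal (H := E) y e * e⁻¹) * (MulAut.conjNormal (H := E) y e * e⁻¹)⁻¹ : E) : S)
      = ⁅y, ⁅y, (e : S)⁆⁆ := by
    rw [Subgroup.coe_mul, Subgroup.coe_inv, Subgroup.coe_mul, MulAut.conjNormal_apply, Subgroup.coe_mul, MulAut.conjNormal_apply,
      Subgroup.coe_inv, commutatorElement_def, commutatorElement_def]
  rw [e1]

theorem inv_lift {hS : IsPGroup p S} {U : Subgroup (FV hS E)} (hU : ∀ x : A, ∀ v ∈ U, rho hS A x v ∈ U) : Inv A (lift U) := by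
  refine ⟨lift_le U, fun α hα x hx => ?_⟩
  rw [mem_lift] at hx ⊢
  exact hU ⟨α, hα⟩ _ hx

theorem inv_down {hS : IsPGroup p S} {M : Subgroup S} (hM : Inv A M) (hF : Fr E ≤ M) :
    ∀ x : A, ∀ v ∈ down hS E M, rho hS A x v ∈ down hS E M := by
  rintro ⟨α, hα⟩ v hv
  obtain ⟨e, rfl⟩ := mkV_surj hS E v
  rw [mem_down hF] at hv
  exact (mem_down hF (α e)).2 (hM.inv α hα e hv)

theorem down_inf {hS : IsPGroup p S} {M N : Subgroup S} (hM : Fr E ≤ M) (hN : Fr E ≤ N) :
    down hS E (M ⊓ N) = down hS E M ⊓ down hS E N := by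
  ext q
  obtain ⟨e, rfl⟩ := mkV_surj hS E q
  rw [mem_down (le_inf hM hN), Subgroup.mem_inf, Subgroup.mem_inf, mem_down hM, mem_down hN]

/-- **The natural type.** -/
theorem EssData.nat (D : EssData p E A B) (hS : IsPGroup p S) (h2 : p ≠ 2) (hR : Rk p S) {y : S} (hy : y ∉ E)
    (hq : ∀ e ∈ E, ⁅y, ⁅y, e⁆⁆ ∈ Fr E) : ∃ (K W : Subgroup S) (τ : MulAut S), NT p E A B K W τ := by
  have RD := D.rdata hS h2 hR hy
  have QD : QData p (rho hS A) (QA A) ⟨MulAut.conjNormal (H := E) y, D.conjA y⟩ :=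
    ⟨RD.exp, RD.card, RD.odd, RD.ker, RD.pQ, RD.max, RD.gQ, RD.gen, RD.ne, by
      intro v
      obtain ⟨e, rfl⟩ := mkV_surj hS E v
      exact (mkV_comm2 y e).2 (hq e e.2)⟩
  obtain ⟨x, -, hx⟩ := RD.exists_conj
  obtain ⟨V0, V1, τ0, N⟩ := QD.main ⟨x, hx⟩
  have hV : ∀ v : FV hS E, ∃ v0 ∈ V0, ∃ v1 ∈ V1, v0 * v1 = v := by
    intro v
    have h1 : v ∈ V0 ⊔ V1 := by rw [N.sup]; exact mem_top v
    exact Subgroup.mem_sup.1 h1
  have hcomm : ∀ a : A, rho hS A a * rho hS A τ0 = rho hS A τ0 * rho hS A a := by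
    intro a
    ext v
    obtain ⟨v0, h0, v1, h1, rfl⟩ := hV v
    rw [MulAut.mul_apply, MulAut.mul_apply, map_mul, map_mul, map_mul, map_mul, N.neg v0 h0, N.pos v1 h1,
      N.neg _ (N.inv0 a v0 h0), N.pos _ (N.inv1 a v1 h1), map_inv]
  have hsq : rho hS A τ0 * rho hS A τ0 = 1 := by
    ext v
    obtain ⟨v0, h0, v1, h1, rfl⟩ := hV v
    rw [MulAut.mul_apply, map_mul, map_mul, N.neg v0 h0, N.pos v1 h1, N.pos v1 h1, map_inv, N.neg v0 h0, inv_inv, MulAut.one_apply]
  have hinner : ∀ (a t : A), rho hS A t = rho hS A τ0 → ∃ e ∈ E,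
      (a : MulAut E) * t * (a : MulAut E)⁻¹ * (t : MulAut E)⁻¹ = MulAut.conjNormal (H := E) e := by
    intro a t ht
    have h1 : a * t * a⁻¹ * t⁻¹ ∈ (rho hS A).ker := by
      rw [MonoidHom.mem_ker, map_mul, map_mul, map_mul, map_inv, map_inv, ht, hcomm]
      group
    obtain ⟨e, he, h3⟩ := D.op (rho hS A).ker inferInstance (rho_ker hS) _ h1
    exact ⟨e, he, h3⟩
  obtain ⟨β, hβ, hβE⟩ := D.ext τ0 τ0.2 (fun s => by
    obtain ⟨e, he, h3⟩ := hinner ⟨_, D.conjA s⟩ τ0 rfl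
    refine ⟨e⁻¹ * s, ?_⟩
    rw [map_mul, map_inv, ← h3]
    simp only [mul_inv_rev, inv_inv, mul_assoc, inv_mul_cancel, mul_one])
  have hβc : ∀ s, MulAut.conjNormal (H := E) (β s) = τ0 * MulAut.conjNormal (H := E) s * (τ0 : MulAut E)⁻¹ := by
    intro s
    ext x
    rw [MulAut.conjNormal_apply, MulAut.mul_apply, MulAut.mul_apply, ← hβE, MulAut.conjNormal_apply, map_mul, map_mul, map_inv,
      hβE, MulAut.apply_inv_self]
  have hβq : ∀ s, s⁻¹ * β s ∈ E := by
    intro s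
    obtain ⟨e, he, h3⟩ := hinner ⟨_, D.conjA s⟩ τ0 rfl
    have h4 : MulAut.conjNormal (H := E) (e⁻¹ * s) = MulAut.conjNormal (H := E) (β s) := by
      rw [hβc, map_mul, map_inv, ← h3]
      simp only [mul_inv_rev, inv_inv, mul_assoc, inv_mul_cancel, mul_one]
    have h5 := D.conj_eq h4
    have h6 := E.mul_mem (hE.conj_mem _ (E.inv_mem he) s⁻¹) h5
    have e1 : s⁻¹ * e⁻¹ * s⁻¹⁻¹ * ((e⁻¹ * s)⁻¹ * β s) = s⁻¹ * β s := by group
    rwa [e1] at h6
  have hβn : ∀ (n : ℕ) (s : S), s⁻¹ * (β ^ n) s ∈ E := by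
    intro n
    induction n with
    | zero => intro s; rw [pow_zero, MulAut.one_apply, inv_mul_cancel]; exact E.one_mem
    | succ n ih =>
      intro s
      have h6 := E.mul_mem (ih s) (hβq ((β ^ n) s))
      have e1 : s⁻¹ * (β ^ n) s * (((β ^ n) s)⁻¹ * β ((β ^ n) s)) = s⁻¹ * (β ^ (n + 1)) s := by
        rw [pow_succ', MulAut.mul_apply]
        group
      rwa [e1] at h6
  have hβnE : ∀ (n : ℕ) (e : E), (β ^ n) e = (((τ0 : MulAut E) ^ n) e : E) := by
    intro n
    induction n with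
    | zero => intro e; rfl
    | succ n ih =>
      intro e
      rw [pow_succ', MulAut.mul_apply, ih, hβE, pow_succ', MulAut.mul_apply]
  obtain ⟨k, hk⟩ : ∃ k, β ^ (2 * p ^ k) = 1 := by
    obtain ⟨k, m, hm, hkm⟩ := Nat.exists_eq_pow_mul_and_not_dvd (orderOf_pos (β ^ 2)).ne' p (Fact.out : p.Prime).ne_one
    refine ⟨k, ?_⟩
    have hγm : (β ^ (2 * p ^ k)) ^ m = 1 := by
      rw [← pow_mul, mul_assoc, ← hkm, pow_mul, pow_orderOf_eq_one]
    have hcop : Nat.Coprime m p := ((Nat.Prime.coprime_iff_not_dvd hp.out).2 hm).symm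
    have h1 : ((τ0 : MulAut E) ^ (2 * p ^ k)) = 1 := by
      apply Cfsg.Agent.H767.EssFrat.eq_one_of_mod_frattini (hS.to_subgroup E)
      · have h3 : orderOf ((τ0 : MulAut E) ^ (2 * p ^ k)) ∣ m := by
          apply orderOf_dvd_of_pow_eq_one
          ext e
          rw [← pow_mul, ← hβnE, pow_mul, hγm]
          rfl
        exact Nat.Coprime.coprime_dvd_left h3 hcop
      · intro x
        have h3 : actV hS E ((τ0 : MulAut E) ^ (2 * p ^ k)) = 1 := by
          have h4 : actV hS E (τ0 : MulAut E) * actV hS E (τ0 : MulAut E) = 1 := hsq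
          rw [map_pow, pow_mul, pow_two, h4, one_pow]
        have h5 : mkV hS E (((τ0 : MulAut E) ^ (2 * p ^ k)) x) = mkV hS E x := by
          rw [← actV_mk, h3, MulAut.one_apply]
        have h6 : mkV hS E (x⁻¹ * ((τ0 : MulAut E) ^ (2 * p ^ k)) x) = 1 := by
          rw [map_mul, map_inv, h5, inv_mul_cancel]
        exact mem_Fr.1 ((mkV_one _).1 h6)
    ext s
    rw [MulAut.one_apply]
    set γ := β ^ (2 * p ^ k) with hγ
    set n := s⁻¹ * γ s with hn
    have hnE : n ∈ E := hβn _ s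
    have hγn : γ n = n := by
      have := hβnE (2 * p ^ k) ⟨n, hnE⟩
      rw [h1] at this
      exact this
    have hγs : γ s = s * n := by rw [hn]; group
    have hj : ∀ j : ℕ, (γ ^ j) s = s * n ^ j := by
      intro j
      induction j with
      | zero => simp
      | succ j ih => rw [pow_succ', MulAut.mul_apply, ih, map_mul, map_pow, hγn, hγs, pow_succ', mul_assoc]
    have h3 := hj m
    rw [hγm, MulAut.one_apply] at h3
    have h4 : n ^ m = 1 := by
      have := congrArg (fun z => s⁻¹ * z) h3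
      simp only [inv_mul_cancel, inv_mul_cancel_left] at this
      exact this.symm
    have h5 : n = 1 := by
      obtain ⟨j, hj2⟩ := hS n
      have h6 : orderOf n ∣ Nat.gcd m (p ^ j) := Nat.dvd_gcd (orderOf_dvd_of_pow_eq_one h4) (orderOf_dvd_of_pow_eq_one hj2)
      rw [Nat.Coprime.gcd_eq_one (hcop.pow_right j)] at h6
      exact orderOf_eq_one_iff.1 (Nat.dvd_one.1 h6)
    rw [hγs, h5, mul_one]
  -- the involution
  set t : A := τ0 ^ p ^ k with ht
  have hodd : Odd (p ^ k) := Odd.pow (hp.out.odd_of_ne_two h2)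
  have hρt : rho hS A t = rho hS A τ0 := by
    obtain ⟨j, hj⟩ := hodd
    rw [ht, hj, map_pow, pow_succ, pow_mul, pow_two, hsq, one_pow, one_mul]
  have htn : t ∈ Subgroup.normalClosure (QA A : Set A) := by
    rw [ht]
    exact pow_mem N.mem _
  have hτE : ∀ e : E, (β ^ p ^ k) e = (((t : MulAut E)) e : E) := by
    intro e
    rw [hβnE, ht, Subgroup.coe_pow]
  have hτV : ∀ e : E, mkV hS E ((t : MulAut E) e) = rho hS A τ0 (mkV hS E e) := by
    intro e
    rw [← hρt]
    rfl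
  have hcard : V1.index = p ^ 2 := by
    have h1 : V1.relIndex (V0 ⊔ V1) = V1.relIndex V0 := Subgroup.relIndex_sup_right V0 V1
    rw [N.sup, Subgroup.relIndex_top_right, ← Subgroup.inf_relIndex_right, inf_comm, N.inf, Subgroup.relIndex_bot_left, N.card] at h1
    exact h1
  have hVe : ∀ v : FV hS E, v ^ p = 1 := QD.exp
  have hcard1 : Nat.card V1 ∣ p := by
    apply card_dvd_of_le hVe
    have h1 := V1.card_mul_index
    rw [hcard] at h1
    have h3 := QD.card
    rw [← h1] at h3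
    have h4 : Nat.card V1 * p ^ 2 ≤ p * p ^ 2 := by
      calc Nat.card V1 * p ^ 2 ≤ p ^ 3 := h3
        _ = p * p ^ 2 := by ring
    exact Nat.le_of_mul_le_mul_right h4 (pow_pos hp.out.pos 2)
  refine ⟨lift V1, lift V0, β ^ p ^ k, ?_⟩
  have iK : Inv A (lift V1) := inv_lift N.inv1
  have iW : Inv A (lift V0) := inv_lift N.inv0
  have hKn : (lift V1).Normal := iK.normal D
  have hWn : (lift V0).Normal := iW.normal D
  refine ⟨iK, iW, Fr_le_lift _, Fr_le_lift _, ?_, ?_, ?_, ?_, ?_, ?_, pow_mem hβ _, ?_, ?_, ?_, ?_, ?_, ?_⟩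
  · rw [← lift_inf, inf_comm, N.inf, lift_bot]
  · rw [← lift_sup, sup_comm, N.sup, lift_top]
  · have h1 := lift_relIndex V1 (⊤ : Subgroup (FV hS E))
    rw [lift_top, Subgroup.relIndex_top_right, hcard] at h1
    exact h1
  · have h1 := lift_relIndex (⊥ : Subgroup (FV hS E)) V1
    rw [lift_bot, Subgroup.relIndex_bot_left] at h1
    rw [h1]
    exact hcard1
  · intro U hU hKU
    have hFU : Fr E ≤ U := (Fr_le_lift V1).trans hKU
    have hFW : Fr E ≤ U ⊓ lift V0 := le_inf hFU (Fr_le_lift _)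
    rcases N.irr (down hS E (U ⊓ lift V0)) (by
      intro v hv
      obtain ⟨e, rfl⟩ := mkV_surj hS E v
      rw [mem_down hFW] at hv
      exact (mem_lift e).1 hv.2) (inv_down (hU.inf iW) hFW) with h | h
    · left
      have h3 : U ⊓ lift V0 = Fr E := by
        have := lift_down (hS := hS) hFW (inf_le_left.trans hU.le)
        rw [← this, h, lift_bot]
      apply le_antisymm _ hKU
      intro u hu
      have h4 : u ∈ lift V1 ⊔ lift V0 := by
        rw [← lift_sup, sup_comm, N.sup, lift_top]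
        exact hU.le hu
      obtain ⟨a, ha, b, hb, rfl⟩ := Subgroup.mem_sup_of_normal_left.1 h4
      have hb' : b ∈ U ⊓ lift V0 := by
        refine ⟨?_, hb⟩
        have := U.mul_mem (U.inv_mem (hKU ha)) hu
        rwa [inv_mul_cancel_left] at this
      rw [h3] at hb'
      exact (lift V1).mul_mem ha (Fr_le_lift V1 hb')
    · right
      apply le_antisymm hU.le
      have h3 : lift V0 ≤ U := by
        have := lift_down (hS := hS) hFW (inf_le_left.trans hU.le)
        rw [h] at this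
        rw [this]
        exact inf_le_left
      rw [← lift_top (hS := hS) (E := E), ← N.sup, lift_sup]
      exact sup_le h3 hKU
  · intro U hU hFU hUW
    rcases N.irr (down hS E U) (by
      intro v hv
      obtain ⟨e, rfl⟩ := mkV_surj hS E v
      rw [mem_down hFU] at hv
      exact (mem_lift e).1 (hUW hv)) (inv_down hU hFU) with h | h
    · left
      rw [← lift_down (hS := hS) hFU hU.le, h, lift_bot]
    · right
      rw [← lift_down (hS := hS) hFU hU.le, h]
  · intro s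
    rw [← MulAut.mul_apply, ← pow_add, ← two_mul, hk, MulAut.one_apply]
  · exact hβn _
  · intro w hw
    have hwE := lift_le _ hw
    have h1 := (mem_lift (U := V0) ⟨w, hwE⟩).1 hw
    have h3 := hτE ⟨w, hwE⟩
    simp only at h3
    rw [h3]
    have h4 : mkV hS E ((t : MulAut E) ⟨w, hwE⟩ * ⟨w, hwE⟩) = 1 := by
      rw [map_mul, hτV, N.neg _ h1, inv_mul_cancel]
    exact (mkV_one _).1 h4
  · intro w hw
    have hwE := lift_le _ hw
    have h1 := (mem_lift (U := V1) ⟨w, hwE⟩).1 hw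
    have h3 := hτE ⟨w, hwE⟩
    simp only at h3
    rw [h3]
    have h4 : mkV hS E ((⟨w, hwE⟩ : E)⁻¹ * (t : MulAut E) ⟨w, hwE⟩) = 1 := by
      rw [map_mul, hτV, N.pos _ h1, map_inv, inv_mul_cancel]
    exact (mkV_one _).1 h4
  · intro M N' hM hN' hc m hm
    have h1 := D.closure_triv hM hN' hc htn ⟨m, hM.le hm⟩ hm
    have h3 := hτE ⟨m, hM.le hm⟩
    simp only at h3
    rw [h3]
    exact h1
  · intro α hα
    obtain ⟨e, he, h3⟩ := hinner ⟨α, hα⟩ t hρt
    refine ⟨e, he, fun x x' hx' => ?_⟩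
    have h4 : x' = (t : MulAut E) x := by
      apply Subtype.ext
      rw [hx', hτE]
    have h5 : α * (t : MulAut E) = MulAut.conjNormal (H := E) e * (t : MulAut E) * α := by
      rw [← h3]
      simp only [mul_assoc, inv_mul_cancel, mul_one]
    rw [h4, ← MulAut.mul_apply, h5, MulAut.mul_apply, MulAut.mul_apply, MulAut.conjNormal_apply, hτE]

/-- **The regular type.** -/
theorem EssData.regular (D : EssData p E A B) (hS : IsPGroup p S) (h2 : p ≠ 2) (hR : Rk p S) {y : S} (hy : y ∉ E)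
    (hq : ¬ ∀ e ∈ E, ⁅y, ⁅y, e⁆⁆ ∈ Fr E) : RT p E A := by
  have RD := D.rdata hS h2 hR hy
  have hreg : ∀ y' : S, (∃ e ∈ E, ⁅y', ⁅y', e⁆⁆ ∉ Fr E) ↔
      ∃ v, actV hS E (MulAut.conjNormal (H := E) y') (dl (actV hS E (MulAut.conjNormal (H := E) y')) v) ≠
        dl (actV hS E (MulAut.conjNormal (H := E) y')) v := by
    intro y'
    constructor
    · rintro ⟨e, he, h⟩
      exact ⟨mkV hS E ⟨e, he⟩, fun h' => h ((mkV_comm2 y' ⟨e, he⟩).1 h')⟩
    · rintro ⟨v, hv⟩
      obtain ⟨e, rfl⟩ := mkV_surj hS E v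
      exact ⟨e, e.2, fun h' => hv ((mkV_comm2 y' e).2 h')⟩
  push Not at hq
  have hyr := (hreg y).1 hq
  refine ⟨?_, ?_, ?_⟩
  · rw [← card_FV hS]
    have hpV : IsPGroup p (FV hS E) := isPGroup_of_exp RD.exp
    obtain ⟨k, hk⟩ := IsPGroup.iff_card.1 hpV
    have h1 := RD.card
    rw [hk] at h1 ⊢
    have h3 : k ≤ 3 := (Nat.pow_le_pow_iff_right hp.out.one_lt).1 h1
    rcases h3.lt_or_eq with h4 | h4
    · exfalso
      obtain ⟨v, hv⟩ := hyr
      obtain ⟨j, hj⟩ := RD.gpow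
      have hj' : (actV hS E (MulAut.conjNormal (H := E) y)) ^ p ^ j = 1 := hj
      exact hv (quad_of_card_le RD.exp _ hj' ⊤ (fun _ _ => mem_top _)
        (by rw [Subgroup.card_top, hk]; exact Nat.pow_le_pow_right hp.out.pos (by omega)) v (mem_top v))
    · rw [h4]
  · intro U hU hFU hUE
    rcases RD.irr hyr (down hS E U) (inv_down hU hFU) with h | h
    · left
      rw [← lift_down (hS := hS) hFU hUE, h, lift_bot]
    · right
      rw [← lift_down (hS := hS) hFU hUE, h, lift_top]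
  · intro y' hy'
    rw [hreg]
    by_contra hcon
    push Not at hcon
    obtain ⟨v, hv⟩ := hyr
    apply hv
    obtain ⟨n, e, he, hne⟩ := D.exists_zpow hy' y
    have h1 : actV hS E (MulAut.conjNormal (H := E) y) = (actV hS E (MulAut.conjNormal (H := E) y')) ^ n := by
      rw [hne, map_mul, map_mul, inner_triv hS he, mul_one, map_zpow, map_zpow]
    have h3 := zpow_apply (actV hS E (MulAut.conjNormal (H := E) y')) (apply_eq _ v) (hcon v) n
    have h4 : dl (actV hS E (MulAut.conjNormal (H := E) y)) v = (dl (actV hS E (MulAut.conjNormal (H := E) y')) v) ^ n := by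
      rw [dl_apply, h1, h3, mul_comm v, mul_inv_cancel_right]
    rw [h4, h1, map_zpow]
    have h5 := zpow_apply (actV hS E (MulAut.conjNormal (H := E) y')) (v := dl (actV hS E (MulAut.conjNormal (H := E) y')) v) (a := 1)
      (by rw [mul_one]; exact hcon v) (map_one _) n
    rw [one_zpow, mul_one] at h5
    rw [h5]

end data

end Cfsg.Agent.H767.TE
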