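import Cfsg.Agent.H767.TESL
import Cfsg.Agent.H767.TETypes
import Cfsg.Agent.H767.TEElimW
import Cfsg.Agent.H30.SlFree
import Cfsg.Agent.H40.ZJFunctor
import Cfsg.Agent.S0664
import Cfsg.Agent.Lib.Involves
import Cfsg.Prelude.Def_FusionSystem

/-!
# The regular/regular case (helper767)
-/

set_option autoImplicit false
set_option linter.unusedSectionVars false
set_option linter.unusedVariables false

namespace Cfsg.Agent.H767.TE

open Subgroup
open scoped commutatorElement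

universe u

/-- a model of `(S, E, A)` -/
structure Mdl {S : Type u} [Group S] (p : ℕ) (E : Subgroup S) [E.Normal] (A : Subgroup (MulAut E)) {G : Type u} [Group G]
    (ι : S →* G) : Prop where
  inj : Function.Injective ι
  syl : ∃ P : Sylow p G, (P : Subgroup G) = ι.range
  cent : ∀ g : G, (∀ e ∈ E, g * ι e = ι e * g) → ∃ e ∈ E, ι e = g
  act : ∀ g : G, ∃ α ∈ A, ∀ e : E, ι (α e : E) = g * ι e * g⁻¹
  surj : ∀ α ∈ A, ∃ g : G, ∀ e : E, ι (α e : E) = g * ι e * g⁻¹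

variable {S : Type u} [Group S] [Finite S] {p : ℕ} [hp : Fact p.Prime]
variable {E : Subgroup S} [hE : E.Normal] {A : Subgroup (MulAut E)} {B : Subgroup (MulAut S)}
variable {G : Type u} [Group G] {ι : S →* G}

theorem Mdl.normal_of_inv (M : Mdl p E A ι) {T : Subgroup S} (hT : Inv A T) : (T.map ι).Normal := by
  refine ⟨?_⟩
  rintro _ ⟨t, ht, rfl⟩ g
  obtain ⟨α, hα, h⟩ := M.act g
  refine ⟨(α ⟨t, hT.le ht⟩ : E), hT.inv α hα _ ht, ?_⟩
  exact h ⟨t, hT.le ht⟩

theorem Mdl.unique (M : Mdl p E A ι) {α β : MulAut E} {g : G} (h : ∀ e : E, ι (α e : E) = g * ι e * g⁻¹)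
    (h' : ∀ e : E, ι (β e : E) = g * ι e * g⁻¹) : α = β := by
  ext e
  exact M.inj ((h e).trans (h' e).symm)

/-- the action homomorphism -/
theorem Mdl.exists_hom (M : Mdl p E A ι) : ∃ ψ : G →* A, ∀ (g : G) (e : E), ι ((ψ g : MulAut E) e : E) = g * ι e * g⁻¹ := by
  choose f hf hf' using M.act
  refine ⟨MonoidHom.mk' (fun g => ⟨f g, hf g⟩) ?_, fun g e => hf' g e⟩
  intro g h
  apply Subtype.ext
  show f (g * h) = f g * f h
  apply M.unique (hf' (g * h))
  intro e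
  show ι ((f g (f h e) : E)) = _
  rw [hf', hf']
  group

theorem Mdl.le_and_inv (M : Mdl p E A ι) (D : EssData p E A B) (hS : IsPGroup p S) {R : Subgroup S} (hR : (R.map ι).Normal) :
    R ≤ E ∧ Inv A R := by
  have hconj : ∀ (r : S) (e : E), ι (MulAut.conjNormal (H := E) r e : E) = ι r * ι e * (ι r)⁻¹ := by
    intro r e
    rw [MulAut.conjNormal_apply, map_mul, map_mul, map_inv]
  have hRE : R ≤ E := by
    intro r hr
    have h1 := D.radical (R.map (MulAut.conjNormal (H := E))) (by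
      rintro _ ⟨r, hr, rfl⟩
      exact D.conjA r) (by
      rintro α hα _ ⟨r, hr, rfl⟩
      obtain ⟨g, hg⟩ := M.surj α hα
      obtain ⟨r', hr', h⟩ := hR.conj_mem _ ⟨r, hr, rfl⟩ g
      refine ⟨r', hr', ?_⟩
      apply M.unique (g := ι r') (hconj r')
      intro e
      rw [MulAut.mul_apply, MulAut.mul_apply, hg, hconj, h]
      have h3 : ι (α⁻¹ e : E) = g⁻¹ * ι e * g := by
        have h4 := hg (α⁻¹ e)
        rw [MulAut.apply_inv_self] at h4
        rw [h4]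
        group
      rw [h3]
      group) ((hS.to_subgroup R).map _) _ ⟨r, hr, rfl⟩
    obtain ⟨e, he, h⟩ := h1
    have h5 := D.conj_eq h
    have h6 := E.mul_mem he (E.inv_mem h5)
    have e1 : e * (r⁻¹ * e)⁻¹ = r := by group
    rwa [e1] at h6
  refine ⟨hRE, hRE, ?_⟩
  intro α hα x hx
  obtain ⟨g, hg⟩ := M.surj α hα
  obtain ⟨r', hr', h⟩ := hR.conj_mem _ ⟨x, hx, rfl⟩ g
  rw [← hg] at h
  rw [← M.inj h]
  exact hr'

theorem Mdl.finite (M : Mdl p E A ι) (hfin : Finite G) : Finite G := hfin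

section quo

variable [Finite G]

/-- the centraliser condition in the quotient -/
theorem Mdl.cent_quo (M : Mdl p E A ι) (D : EssData p E A B) (hS : IsPGroup p S) {T : Subgroup S} (hT : Inv A T)
    (hTF : T ≤ Fr E) [hn : (T.map ι).Normal] :
    Subgroup.centralizer ((Cfsg.pCore p (G ⧸ T.map ι) : Subgroup (G ⧸ T.map ι)) : Set (G ⧸ T.map ι)) ≤
      Cfsg.pCore p (G ⧸ T.map ι) := by
  have hEn : (E.map ι).Normal := M.normal_of_inv Inv.self
  have hEq : ((E.map ι).map (QuotientGroup.mk' (T.map ι))).Normal := hEn.map _ (QuotientGroup.mk'_surjective _)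
  have hEp : IsPGroup p ((E.map ι).map (QuotientGroup.mk' (T.map ι))) := ((hS.to_subgroup E).map ι).map _
  have hEle : (E.map ι).map (QuotientGroup.mk' (T.map ι)) ≤ Cfsg.pCore p (G ⧸ T.map ι) := le_sSup ⟨hEq, hEp⟩
  obtain ⟨ψ, hψ⟩ := M.exists_hom
  intro x hx
  induction x using QuotientGroup.induction_on with
  | H x =>
    apply hEle
    have h1 : ∀ e : E, (((ψ x : MulAut E) e * e⁻¹ : E) : S) ∈ T := by
      intro e
      have h2 := (Subgroup.mem_centralizer_iff.1 hx) (QuotientGroup.mk (ι e)) (hEle ⟨ι e, ⟨e, e.2, rfl⟩, rfl⟩)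
      have h3 : (QuotientGroup.mk (x * ι e * x⁻¹ * (ι e)⁻¹) : G ⧸ T.map ι) = 1 := by
        rw [QuotientGroup.mk_mul, QuotientGroup.mk_mul, QuotientGroup.mk_mul, QuotientGroup.mk_inv, QuotientGroup.mk_inv, ← h2,
          mul_inv_cancel_right, mul_inv_cancel]
      rw [QuotientGroup.eq_one_iff, ← hψ, ← map_inv, ← map_mul] at h3
      obtain ⟨t, ht, h⟩ := h3
      have h4 := M.inj h
      rw [Subgroup.coe_mul, Subgroup.coe_inv, ← h4]
      exact ht
    have h2 : ψ x ∈ (rho hS A).ker := by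
      rw [MonoidHom.mem_ker]
      ext q
      obtain ⟨e, rfl⟩ := mkV_surj hS E q
      show actV hS E (ψ x : MulAut E) (mkV hS E e) = mkV hS E e
      rw [actV_mk, ← mul_inv_eq_one, ← map_inv, ← map_mul, mkV_one]
      exact hTF (h1 e)
    obtain ⟨e, he, h3⟩ := D.op (rho hS A).ker inferInstance (rho_ker hS) _ h2
    obtain ⟨e', he', h4⟩ := M.cent ((ι e)⁻¹ * x) (by
      intro z hz
      have h5 := hψ x ⟨z, hz⟩
      rw [h3, MulAut.conjNormal_apply, map_mul, map_mul, map_inv] at h5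
      have h6 : ι e * ι z = x * ι z * x⁻¹ * ι e := by
        rw [← h5]
        group
      calc (ι e)⁻¹ * x * ι z = (ι e)⁻¹ * (x * ι z * x⁻¹) * x := by group
        _ = (ι e)⁻¹ * (ι e * ι z * (ι e)⁻¹) * x := by rw [h5]
        _ = ι z * ((ι e)⁻¹ * x) := by group)
    refine ⟨x, ⟨e * e', E.mul_mem he he', ?_⟩, rfl⟩
    rw [map_mul, h4, mul_inv_cancel_left]

/-- no `Qd(p)` in the quotient -/
theorem Mdl.no_qd (M : Mdl p E A ι) (D : EssData p E A B) (hS : IsPGroup p S) (h2 : p ≠ 2) (hR : Rk p S)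
    (R : RT p E A) {N : Subgroup G} [hn : N.Normal] :
    ¬ Cfsg.Agent.Lib.Involves.Involves (G ⧸ N) ↥(Cfsg.qd p) := by
  intro h
  have h1 := Cfsg.Agent.Lib.Involves.of_quotient h
  have h3 := Cfsg.Agent.Lib.Involves.trans h1 (Cfsg.Agent.Lib.Involves.of_surjective (Cfsg.Agent.H30.SlFree.rho p)
    Cfsg.Agent.H30.SlFree.rho_surjective)
  obtain ⟨H, π, hπ⟩ := h3
  obtain ⟨ψ, hψ⟩ := M.exists_hom
  -- the kernel is a `p`-group
  have hker : (ψ.comp H.subtype).ker ≤ π.ker := by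
    have hp1 : IsPGroup p (ψ.comp H.subtype).ker := by
      rintro ⟨⟨x, hxH⟩, hx⟩
      have hx' : ψ x = 1 := hx
      obtain ⟨e, he, h4⟩ := M.cent x (by
        intro z hz
        have h5 := hψ x ⟨z, hz⟩
        rw [hx'] at h5
        have h6 : ι z = x * ι z * x⁻¹ := h5
        calc x * ι z = (x * ι z * x⁻¹) * x := by group
          _ = ι z * x := by rw [← h6])
      obtain ⟨k, hk⟩ := hS e
      refine ⟨k, ?_⟩
      apply Subtype.ext
      apply Subtype.ext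
      show x ^ p ^ k = 1
      rw [← h4, ← map_pow, hk, map_one]
    have h3 : ((ψ.comp H.subtype).ker.map π).Normal := (inferInstance : (ψ.comp H.subtype).ker.Normal).map π hπ
    have h4 := normal_eq_bot _ h3 (hp1.map π)
    rw [Subgroup.map_eq_bot_iff] at h4
    exact h4
  obtain ⟨M', π', hπ'⟩ := Cfsg.Agent.Lib.Involves.of_ker_le (ψ.comp H.subtype) π hπ hker
  obtain ⟨y, hy⟩ := D.exists_notMem
  have RD := D.rdata hS h2 hR hy
  refine RD.no_SL2 ?_ M' π' hπ'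
  obtain ⟨e, he, hne⟩ := R.reg y hy
  refine ⟨mkV hS E ⟨e, he⟩, ?_⟩
  intro h5
  exact hne ((mkV_comm2 (hS := hS) y ⟨e, he⟩).1 h5)

/-- **the ZJ step** -/
theorem Mdl.step (M : Mdl p E A ι) (D : EssData p E A B) (hS : IsPGroup p S) (h2 : p ≠ 2) (hR : Rk p S)
    (R : RT p E A) {T : Subgroup S} (hT : Inv A T) (hTF : T ≤ Fr E) [hTn : T.Normal] :
    Inv A ((Cfsg.Agent.H40.ZJFunctor.zj (S ⧸ T)).comap (QuotientGroup.mk' T)) := by
  have hn : (T.map ι).Normal := M.normal_of_inv hT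
  have hc := M.cent_quo D hS hT hTF
  have hi : ¬ Cfsg.Agent.Lib.Involves.Involves (G ⧸ T.map ι) ↥(Cfsg.qd p) := M.no_qd D hS h2 hR R
  obtain ⟨P, hP⟩ := M.syl
  -- the map to the quotient
  let κ : S ⧸ T →* G ⧸ T.map ι := QuotientGroup.map T (T.map ι) ι (Subgroup.le_comap_map ι T)
  have hκ : Function.Injective κ := by
    rw [injective_iff_map_eq_one]
    intro x hx
    induction x using QuotientGroup.induction_on with
    | H x =>
      have h1 : (QuotientGroup.mk (ι x) : G ⧸ T.map ι) = 1 := hx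
      rw [QuotientGroup.eq_one_iff] at h1 ⊢
      obtain ⟨t, ht, h⟩ := h1
      rw [← M.inj h]
      exact ht
  let PQ : Sylow p (G ⧸ T.map ι) := P.mapSurjective (QuotientGroup.mk'_surjective (T.map ι))
  have hPQ : (PQ : Subgroup (G ⧸ T.map ι)) = κ.range := by
    have h1 : (PQ : Subgroup (G ⧸ T.map ι)) = (P : Subgroup G).map (QuotientGroup.mk' (T.map ι)) := rfl
    rw [h1, hP]
    ext x
    constructor
    · rintro ⟨_, ⟨s, rfl⟩, rfl⟩
      exact ⟨QuotientGroup.mk s, rfl⟩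
    · rintro ⟨s, rfl⟩
      induction s using QuotientGroup.induction_on with
      | H s => exact ⟨ι s, ⟨s, rfl⟩, rfl⟩
  have h1 := Cfsg.Agent.S0664.result h2 (fun h => hi (Cfsg.Agent.Lib.Involves.involves_iff.2 h)) hc PQ
  rw [← Cfsg.Agent.H40.ZJFunctor.induced_zj] at h1
  -- transport
  have h3 : (Cfsg.Agent.H40.ZJFunctor.zj (S ⧸ T)).map κ =
      (Cfsg.Agent.H40.ZJFunctor.zj ↥(PQ : Subgroup (G ⧸ T.map ι))).map (PQ : Subgroup (G ⧸ T.map ι)).subtype := by
    have key : ∀ (R : Subgroup (G ⧸ T.map ι)), κ.range = R →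
        (Cfsg.Agent.H40.ZJFunctor.zj (S ⧸ T)).map κ = (Cfsg.Agent.H40.ZJFunctor.zj ↥R).map R.subtype := by
      rintro _ rfl
      have h4 := (Cfsg.Agent.H40.ZJFunctor.isCharPFunctor_zj p).2 (S ⧸ T) κ.range (hS.to_quotient T) (MonoidHom.ofInjective hκ)
      rw [← h4, Subgroup.map_map]
      rfl
    exact key _ hPQ.symm
  have h5 : ((Cfsg.Agent.H40.ZJFunctor.zj (S ⧸ T)).map κ).Normal := by
    rw [h3]
    exact h1
  refine (M.le_and_inv D hS ?_).2
  refine ⟨?_⟩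
  rintro _ ⟨r, hr, rfl⟩ g
  have h6 : (QuotientGroup.mk (ι r) : G ⧸ T.map ι) ∈ (Cfsg.Agent.H40.ZJFunctor.zj (S ⧸ T)).map κ :=
    ⟨QuotientGroup.mk r, hr, rfl⟩
  have h7 := h5.conj_mem _ h6 (QuotientGroup.mk g)
  obtain ⟨z, hz, h8⟩ := h7
  induction z using QuotientGroup.induction_on with
  | H z =>
    have h9 : (QuotientGroup.mk (ι z) : G ⧸ T.map ι) = QuotientGroup.mk (g * ι r * g⁻¹) := h8
    rw [QuotientGroup.eq] at h9
    obtain ⟨t, ht, h10⟩ := h9
    refine ⟨z * t, ?_, ?_⟩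
    · refine mul_mem (show z ∈ Subgroup.comap _ _ from hz) ?_
      show (QuotientGroup.mk t : S ⧸ T) ∈ Cfsg.Agent.H40.ZJFunctor.zj (S ⧸ T)
      rw [(QuotientGroup.eq_one_iff t).2 ht]
      exact one_mem _
    · rw [map_mul, h10, mul_inv_cancel_left]

end quo

section pair

variable {E1 E2 : Subgroup S} [hE1 : E1.Normal] [hE2 : E2.Normal] {A1 : Subgroup (MulAut E1)} {A2 : Subgroup (MulAut E2)}

theorem pair_not_le {B : Subgroup (MulAut S)} (D1 : EssData p E1 A1 B) (D2 : EssData p E2 A2 B) (hne : E1 ≠ E2) : ¬ E1 ≤ E2 := by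
  intro h
  have h1 := pair_idx1 D1 D2 hne
  rw [inf_eq_left.2 h, Subgroup.relIndex_self] at h1
  exact hp.out.one_lt.ne h1

theorem RT.le_Fr (R : RT p E1 A1) {T : Subgroup S} (hT : Inv A1 T) (hne : T ≠ E1) : T ≤ Fr E1 := by
  rcases R.irr (T ⊔ Fr E1) (hT.sup Inv.self.Fr) le_sup_right (sup_le hT.le (Fr_le E1)) with h | h
  · rw [← h]
    exact le_sup_left
  · exact (hne (eq_of_sup_Fr hT.le h)).elim

/-- **The regular/regular case is impossible.** -/
theorem rr_false {B : Subgroup (MulAut S)} (D1 : EssData p E1 A1 B) (D2 : EssData p E2 A2 B) (hne : E1 ≠ E2) (hS : IsPGroup p S)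
    (h2 : p ≠ 2) (hR : Rk p S) (R1 : RT p E1 A1) (R2 : RT p E2 A2) {G1 G2 : Type u} [Group G1] [Group G2] [Finite G1] [Finite G2]
    {ι1 : S →* G1} {ι2 : S →* G2} (M1 : Mdl p E1 A1 ι1) (M2 : Mdl p E2 A2 ι2) : False := by
  obtain ⟨T, ⟨hT1, hT2⟩, hmax⟩ := (Set.toFinite {T : Subgroup S | Inv A1 T ∧ Inv A2 T}).exists_maximal ⟨⊥, Inv.bot, Inv.bot⟩
  have hTF1 : T ≤ Fr E1 := R1.le_Fr hT1 (fun h => pair_not_le D1 D2 hne (h ▸ hT2.le))
  have hTF2 : T ≤ Fr E2 := R2.le_Fr hT2 (fun h => pair_not_le D2 D1 hne.symm (h ▸ hT1.le))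
  have hTn : T.Normal := hT1.normal D1
  have h1 := M1.step D1 hS h2 hR R1 hT1 hTF1
  have h3 := M2.step D2 hS h2 hR R2 hT2 hTF2
  have hle : T ≤ (Cfsg.Agent.H40.ZJFunctor.zj (S ⧸ T)).comap (QuotientGroup.mk' T) := by
    intro t ht
    show (QuotientGroup.mk t : S ⧸ T) ∈ Cfsg.Agent.H40.ZJFunctor.zj (S ⧸ T)
    rw [(QuotientGroup.eq_one_iff t).2 ht]
    exact one_mem _
  have h4 := hmax (show _ ∈ {T : Subgroup S | Inv A1 T ∧ Inv A2 T} from ⟨h1, h3⟩) hle
  obtain ⟨y, hy⟩ := D1.exists_notMem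
  have hnt : Nontrivial (S ⧸ T) := by
    refine ⟨⟨QuotientGroup.mk y, 1, fun h => hy ?_⟩⟩
    exact hT1.le ((QuotientGroup.eq_one_iff y).1 h)
  apply (Cfsg.Agent.H40.ZJFunctor.isCharPFunctor_zj p).1 (S ⧸ T) (hS.to_quotient T) hnt
  rw [eq_bot_iff]
  intro q hq
  induction q using QuotientGroup.induction_on with
  | H q =>
    have h5 : q ∈ T := h4 hq
    rw [Subgroup.mem_bot, QuotientGroup.eq_one_iff]
    exact h5

end pair

end Cfsg.Agent.H767.TE
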