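import Cfsg.Agent.H767.TENat

/-!
# Groups of automorphisms of elementary abelian groups of order `p³` with a regular unipotent element (helper767)
-/

set_option autoImplicit false
set_option linter.unusedSectionVars false
set_option linter.unusedVariables false

namespace Cfsg.Agent.H767.TE

open Subgroup

section

variable {X V : Type*} [Group X] [Finite X] [CommGroup V] [Finite V] {p : ℕ} [hp : Fact p.Prime]

theorem exists_fixed (hexp : ∀ v : V, v ^ p = 1) (α : MulAut V) {k : ℕ} (hk : α ^ p ^ k = 1) (U : Subgroup V)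
    (hU : ∀ x ∈ U, α x ∈ U) (hne : U ≠ ⊥) : ∃ u ∈ U, u ≠ 1 ∧ α u = u := by
  classical
  have hz : ∀ (ψ : MulAut V), ψ ∈ Subgroup.zpowers α → ∀ x ∈ U, ψ x ∈ U := by
    intro ψ hψ
    rw [mem_zpowers_iff_mem_range_orderOf] at hψ
    simp only [Finset.mem_image, Finset.mem_range] at hψ
    obtain ⟨j, -, rfl⟩ := hψ
    clear hk
    induction j with
    | zero => simp
    | succ j ih =>
      intro x hx
      rw [pow_succ, MulAut.mul_apply]
      exact ih (α x) (hU x hx)
  let _ : MulAction (Subgroup.zpowers α) U :=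
    { smul := fun ψ u => ⟨(ψ : MulAut V) u, hz ψ ψ.2 u u.2⟩
      one_smul := fun u => rfl
      mul_smul := fun ψ χ u => rfl }
  have hpz : IsPGroup p (Subgroup.zpowers α) := by
    rintro ⟨ψ, hψ⟩
    refine ⟨k, ?_⟩
    apply Subtype.ext
    obtain ⟨j, rfl⟩ := hψ
    show (α ^ j) ^ p ^ k = 1
    rw [← zpow_natCast, ← zpow_mul, mul_comm, zpow_mul, zpow_natCast, hk, one_zpow]
  have hUp : IsPGroup p U := fun u => ⟨1, Subtype.ext (by rw [pow_one]; exact hexp u)⟩
  have hnt : Nontrivial U := (Subgroup.nontrivial_iff_ne_bot U).2 hne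
  obtain ⟨n, hn0, hn⟩ := hUp.nontrivial_iff_card.1 hnt
  have hdvd : p ∣ Nat.card U := by rw [hn]; exact dvd_pow_self _ (ne_of_gt hn0)
  obtain ⟨b, hb, hb1⟩ := hpz.exists_fixed_point_of_prime_dvd_card_of_fixed_point U hdvd (a := 1)
    (fun ψ => Subtype.ext (map_one _))
  refine ⟨b, b.2, fun h => hb1 (Subtype.ext h.symm), ?_⟩
  exact congrArg Subtype.val (hb ⟨α, Subgroup.mem_zpowers α⟩)

theorem isPGroup_of_exp (hexp : ∀ v : V, v ^ p = 1) : IsPGroup p V := fun v => ⟨1, by rw [pow_one]; exact hexp v⟩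

theorem card_dvd_of_le (hexp : ∀ v : V, v ^ p = 1) {U : Subgroup V} (hc : Nat.card U ≤ p) : Nat.card U ∣ p := by
  obtain ⟨n, hn⟩ := IsPGroup.iff_card.1 ((isPGroup_of_exp hexp).to_subgroup U)
  rw [hn] at hc ⊢
  have h1 : n ≤ 1 := by
    by_contra h
    have h2 : p ^ 2 ≤ p ^ n := Nat.pow_le_pow_right hp.out.pos (by omega)
    have := hp.out.one_lt
    nlinarith
  calc p ^ n ∣ p ^ 1 := pow_dvd_pow p h1
    _ = p := pow_one p

theorem fix_of_card_le (hexp : ∀ v : V, v ^ p = 1) (α : MulAut V) {k : ℕ} (hk : α ^ p ^ k = 1) (U : Subgroup V)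
    (hU : ∀ x ∈ U, α x ∈ U) (hc : Nat.card U ≤ p) : ∀ u ∈ U, α u = u := by
  intro u hu
  have h1 := EssFrat.trivial_of_pElement (N := ⊥) (M := U) (p := p) bot_le
    (by rw [Subgroup.relIndex_bot_left]; exact card_dvd_of_le hexp hc) α hk
    (fun x hx => by rw [Subgroup.mem_bot] at hx ⊢; rw [hx, map_one]) hU u hu
  rw [Subgroup.mem_bot, inv_mul_eq_one] at h1
  exact h1.symm

theorem quad_of_card_le (hexp : ∀ v : V, v ^ p = 1) (α : MulAut V) {k : ℕ} (hk : α ^ p ^ k = 1) (U : Subgroup V)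
    (hU : ∀ x ∈ U, α x ∈ U) (hc : Nat.card U ≤ p ^ 2) : ∀ u ∈ U, α (dl α u) = dl α u := by
  set R := U.map (dl α) with hR
  have hRU : R ≤ U := by
    rintro _ ⟨u, hu, rfl⟩
    exact U.mul_mem (hU u hu) (U.inv_mem hu)
  have hRinv : ∀ x ∈ R, α x ∈ R := by
    rintro _ ⟨u, hu, rfl⟩
    refine ⟨α u, hU u hu, ?_⟩
    rw [dl_apply, dl_apply, map_mul, map_inv]
  have hRc : Nat.card R ≤ p := by
    by_cases hUb : U = ⊥
    · rw [hR, hUb, Subgroup.map_bot, Subgroup.card_bot]
      exact hp.out.one_lt.le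
    · obtain ⟨u, hu, hu1, hαu⟩ := exists_fixed hexp α hk U hU hUb
      have h1 := ((dl α).comp U.subtype).ker.card_mul_index
      rw [Subgroup.index_ker, MonoidHom.range_comp, Subgroup.range_subtype, ← hR] at h1
      have h2 : p ≤ Nat.card ((dl α).comp U.subtype).ker := by
        have h3 : (⟨u, hu⟩ : U) ∈ ((dl α).comp U.subtype).ker := by
          show dl α u = 1
          rw [dl_apply, hαu, mul_inv_cancel]
        have h4 : orderOf (⟨u, hu⟩ : U) = p := by
          rw [Subgroup.orderOf_mk]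
          exact orderOf_eq_prime (hexp u) hu1
        rw [← h4]
        exact Nat.le_of_dvd Nat.card_pos (Subgroup.orderOf_dvd_natCard _ h3)
      have h3 : p * Nat.card R ≤ p * p := by
        calc p * Nat.card R ≤ Nat.card ((dl α).comp U.subtype).ker * Nat.card R := Nat.mul_le_mul_right _ h2
          _ = Nat.card U := h1
          _ ≤ p ^ 2 := hc
          _ = p * p := pow_two p
      exact Nat.le_of_mul_le_mul_left h3 hp.out.pos
  intro u hu
  exact fix_of_card_le hexp α hk R hRinv hRc _ ⟨u, hu, rfl⟩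

/-- data of a group with Sylow `p`-subgroup acting cyclically -/
structure RData (p : ℕ) (ρ : X →* MulAut V) (Q : Subgroup X) (g : X) : Prop where
  exp : ∀ v : V, v ^ p = 1
  card : Nat.card V ≤ p ^ 3
  odd : p ≠ 2
  ker : IsPGroup p ρ.ker
  pQ : IsPGroup p Q
  max : ∀ R : Subgroup X, IsPGroup p R → Q ≤ R → R = Q
  gQ : g ∈ Q
  gen : ∀ q ∈ Q, ∃ n : ℤ, ρ q = (ρ g) ^ n
  ne : ρ g ≠ 1
  op : ∀ N : Subgroup X, N.Normal → IsPGroup p N → N ≤ ρ.ker

variable {ρ : X →* MulAut V} {Q : Subgroup X} {g : X}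

theorem RData.gpow (D : RData p ρ Q g) : ∃ k : ℕ, (ρ g) ^ p ^ k = 1 := by
  obtain ⟨k, hk⟩ := D.pQ ⟨g, D.gQ⟩
  refine ⟨k, ?_⟩
  have h1 : g ^ p ^ k = 1 := congrArg Subtype.val hk
  rw [← map_pow, h1, map_one]

/-- `Q` is not normalised by its normal closure. -/
theorem RData.exists_conj (D : RData p ρ Q g) :
    ∃ x ∈ Subgroup.normalClosure (Q : Set X), Q.map (MulAut.conj x).toMonoidHom ≠ Q := by
  by_contra hcon
  push Not at hcon
  have hn : (Subgroup.normalClosure (Q : Set X)).Normal := Subgroup.normalClosure_normal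
  have hQL : Q ≤ Subgroup.normalClosure (Q : Set X) := Subgroup.subset_normalClosure
  have hnorm : Q.Normal := by
    refine ⟨fun q hq y => ?_⟩
    -- the conjugate of `Q` by `y` normalises `Q`
    set R := Q.map (MulAut.conj y).toMonoidHom with hR
    have hRL : R ≤ Subgroup.normalClosure (Q : Set X) := by
      rintro _ ⟨z, hz, rfl⟩
      exact hn.conj_mem _ (hQL hz) y
    have hRN : R ≤ Subgroup.normalizer (Q : Set X) := by
      intro r hr
      rw [Subgroup.mem_normalizer_iff]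
      intro z
      have h1 := hcon r (hRL hr)
      constructor
      · intro hz
        rw [← h1]
        exact ⟨z, hz, rfl⟩
      · intro hz
        rw [← h1] at hz
        obtain ⟨z', hz', hzz⟩ := hz
        have h3 : z' = z := (MulAut.conj r).injective hzz
        rwa [← h3]
    have hRp : IsPGroup p R := D.pQ.map _
    have h2 : IsPGroup p (R ⊔ Q : Subgroup X) := hRp.to_sup_of_normal_right' D.pQ hRN
    have h3 := D.max _ h2 le_sup_right
    have h4 : y * q * y⁻¹ ∈ R := ⟨q, hq, rfl⟩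
    rw [← h3]
    exact (le_sup_left : R ≤ _) h4
  have h1 := D.op Q hnorm D.pQ D.gQ
  exact D.ne h1

/-- An automorphism commuting with an involution which is neither `1` nor `-1` is quadratic. -/
theorem quad_of_commute (hexp : ∀ v : V, v ^ p = 1) (hodd : p ≠ 2) (hcard : Nat.card V ≤ p ^ 3) (α β : MulAut V)
    {k : ℕ} (hk : α ^ p ^ k = 1) (hc : ∀ v, α (β v) = β (α v)) (hβ : ∀ v, β (β v) = v)
    (h1 : ∃ m, m ≠ 1 ∧ β m = m) (h2 : ∃ m, m ≠ 1 ∧ β m = m⁻¹) : ∀ v, α (dl α v) = dl α v := by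
  have hV := isPGroup_of_exp hexp
  have hsq : ∀ v : V, v * v = 1 → v = 1 := by
    intro v hv
    have := sq_mem hV hodd (N := ⊥) (m := v) (by rw [Subgroup.mem_bot]; exact hv)
    rwa [Subgroup.mem_bot] at this
  let P : Subgroup V :=
    { carrier := {v | β v = v}
      mul_mem' := fun {a b} ha hb => by
        show β (a * b) = a * b
        rw [map_mul, show β a = a from ha, show β b = b from hb]
      one_mem' := map_one β
      inv_mem' := fun {a} ha => by
        show β a⁻¹ = a⁻¹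
        rw [map_inv, show β a = a from ha] }
  let M : Subgroup V :=
    { carrier := {v | β v = v⁻¹}
      mul_mem' := fun {a b} ha hb => by
        show β (a * b) = (a * b)⁻¹
        rw [map_mul, show β a = a⁻¹ from ha, show β b = b⁻¹ from hb, mul_inv]
      one_mem' := by
        show β 1 = 1⁻¹
        rw [map_one, inv_one]
      inv_mem' := fun {a} ha => by
        show β a⁻¹ = a⁻¹⁻¹
        rw [map_inv, show β a = a⁻¹ from ha] }
  have hinj : Function.Injective (fun x : P × M => (x.1 : V) * x.2) := by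
    rintro ⟨⟨a, ha⟩, ⟨b, hb⟩⟩ ⟨⟨c, hc'⟩, ⟨d, hd⟩⟩ h
    have h3 : a * b = c * d := h
    have ha' : β a = a := ha
    have hb' : β b = b⁻¹ := hb
    have hc'' : β c = c := hc'
    have hd' : β d = d⁻¹ := hd
    have h4 : a * b⁻¹ = c * d⁻¹ := by
      have := congrArg β h3
      rwa [map_mul, map_mul, ha', hb', hc'', hd'] at this
    have h5 : (a * c⁻¹) * (a * c⁻¹) = 1 := by
      have e1 : a * c⁻¹ = d * b⁻¹ := by
        rw [mul_inv_eq_iff_eq_mul, mul_comm, ← mul_assoc, ← h3, mul_inv_cancel_right]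
      have e2 : a * c⁻¹ = d⁻¹ * b := by
        rw [mul_inv_eq_iff_eq_mul, mul_comm, ← mul_assoc, ← h4, inv_mul_cancel_right]
      rw [show (a * c⁻¹) * (a * c⁻¹) = (d * b⁻¹) * (d⁻¹ * b) by rw [← e1, ← e2]]
      rw [mul_mul_mul_comm, mul_inv_cancel, inv_mul_cancel, one_mul]
    have h6 := hsq _ h5
    rw [mul_inv_eq_one] at h6
    subst h6
    have h7 := mul_left_cancel h3
    subst h7
    rfl
  have hprod : Nat.card P * Nat.card M ≤ p ^ 3 := by
    rw [← Nat.card_prod]
    exact (Nat.card_le_card_of_injective _ hinj).trans hcard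
  have hge : ∀ W : Subgroup V, (∃ m ∈ W, m ≠ 1) → p ≤ Nat.card W := by
    rintro W ⟨m, hm, hm1⟩
    have h4 : orderOf m = p := orderOf_eq_prime (hexp m) hm1
    rw [← h4]
    exact Nat.le_of_dvd Nat.card_pos (Subgroup.orderOf_dvd_natCard _ hm)
  have hP : p ≤ Nat.card P := hge P (by obtain ⟨m, hm, hm'⟩ := h1; exact ⟨m, hm', hm⟩)
  have hM : p ≤ Nat.card M := hge M (by obtain ⟨m, hm, hm'⟩ := h2; exact ⟨m, hm', hm⟩)
  have hP2 : Nat.card P ≤ p ^ 2 := by
    have h3 : p * Nat.card P ≤ p * p ^ 2 := by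
      calc p * Nat.card P = Nat.card P * p := mul_comm _ _
        _ ≤ Nat.card P * Nat.card M := Nat.mul_le_mul_left _ hM
        _ ≤ p ^ 3 := hprod
        _ = p * p ^ 2 := by ring
    exact Nat.le_of_mul_le_mul_left h3 hp.out.pos
  have hM2 : Nat.card M ≤ p ^ 2 := by
    have h3 : p * Nat.card M ≤ p * p ^ 2 := by
      calc p * Nat.card M ≤ Nat.card P * Nat.card M := Nat.mul_le_mul_right _ hP
        _ ≤ p ^ 3 := hprod
        _ = p * p ^ 2 := by ring
    exact Nat.le_of_mul_le_mul_left h3 hp.out.pos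
  have hPα : ∀ x ∈ P, α x ∈ P := fun x hx => by
    show β (α x) = α x
    rw [← hc, show β x = x from hx]
  have hMα : ∀ x ∈ M, α x ∈ M := fun x hx => by
    show β (α x) = (α x)⁻¹
    rw [← hc, show β x = x⁻¹ from hx, map_inv]
  have q1 := quad_of_card_le hexp α hk P hPα hP2
  have q2 := quad_of_card_le hexp α hk M hMα hM2
  intro v
  have e1 : v * β v ∈ P := by
    show β (v * β v) = v * β v
    rw [map_mul, hβ, mul_comm]
  have e2 : v * (β v)⁻¹ ∈ M := by
    show β (v * (β v)⁻¹) = (v * (β v)⁻¹)⁻¹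
    rw [map_mul, map_inv, hβ, mul_inv, inv_inv, mul_comm]
  have e3 : v * v = (v * β v) * (v * (β v)⁻¹) := by
    rw [mul_mul_mul_comm, mul_inv_cancel, mul_one]
  have e4 : dl α (α (dl α v) * (dl α v)⁻¹) = dl α (α (dl α v) * (dl α v)⁻¹) := rfl
  have e5 : (α (dl α v) * (dl α v)⁻¹) * (α (dl α v) * (dl α v)⁻¹) = 1 := by
    have e6 : (α (dl α v) * (dl α v)⁻¹) * (α (dl α v) * (dl α v)⁻¹) = dl α (dl α (v * v)) := by
      rw [map_mul, map_mul]
      rfl
    rw [e6, e3, map_mul, map_mul]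
    have e7 : dl α (dl α (v * β v)) = 1 := by
      rw [dl_apply, q1 _ e1, mul_inv_cancel]
    have e8 : dl α (dl α (v * (β v)⁻¹)) = 1 := by
      rw [dl_apply, q2 _ e2, mul_inv_cancel]
    rw [e7, e8, one_mul]
  have e6 := hsq _ e5
  rwa [mul_inv_eq_one] at e6

/-- the action on an invariant subgroup -/
def resAct (ρ : X →* MulAut V) (U : Subgroup V) (hU : ∀ x, ∀ v ∈ U, ρ x v ∈ U) : X →* MulAut U where
  toFun x :=
    { toFun := fun u => ⟨ρ x u, hU x u u.2⟩
      invFun := fun u => ⟨ρ x⁻¹ u, hU x⁻¹ u u.2⟩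
      left_inv := fun u => Subtype.ext (by
        show ρ x⁻¹ (ρ x u) = u
        rw [← MulAut.mul_apply, ← map_mul, inv_mul_cancel, map_one, MulAut.one_apply])
      right_inv := fun u => Subtype.ext (by
        show ρ x (ρ x⁻¹ u) = u
        rw [← MulAut.mul_apply, ← map_mul, mul_inv_cancel, map_one, MulAut.one_apply])
      map_mul' := fun u w => Subtype.ext (map_mul (ρ x) (u : V) (w : V)) }
  map_one' := by
    ext u
    show ρ 1 (u : V) = u
    rw [map_one, MulAut.one_apply]
  map_mul' x y := by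
    ext u
    show ρ (x * y) (u : V) = ρ x (ρ y u)
    rw [map_mul, MulAut.mul_apply]

theorem resAct_apply (ρ : X →* MulAut V) (U : Subgroup V) (hU : ∀ x, ∀ v ∈ U, ρ x v ∈ U) (x : X) (u : U) :
    ((resAct ρ U hU x u : U) : V) = ρ x u := rfl

/-- the action on the quotient by an invariant subgroup -/
def quoAct (ρ : X →* MulAut V) (U : Subgroup V) (hU : ∀ x, ∀ v ∈ U, ρ x v ∈ U) : X →* MulAut (V ⧸ U) where
  toFun x :=
    { toFun := QuotientGroup.map U U (ρ x).toMonoidHom (fun v hv => hU x v hv)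
      invFun := QuotientGroup.map U U (ρ x⁻¹).toMonoidHom (fun v hv => hU x⁻¹ v hv)
      left_inv := fun q => by
        induction q using QuotientGroup.induction_on with
        | H v =>
          show (QuotientGroup.mk (ρ x⁻¹ (ρ x v)) : V ⧸ U) = QuotientGroup.mk v
          rw [← MulAut.mul_apply, ← map_mul, inv_mul_cancel, map_one, MulAut.one_apply]
      right_inv := fun q => by
        induction q using QuotientGroup.induction_on with
        | H v =>
          show (QuotientGroup.mk (ρ x (ρ x⁻¹ v)) : V ⧸ U) = QuotientGroup.mk v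
          rw [← MulAut.mul_apply, ← map_mul, mul_inv_cancel, map_one, MulAut.one_apply]
      map_mul' := map_mul _ }
  map_one' := by
    ext q
    induction q using QuotientGroup.induction_on with
    | H v =>
      show (QuotientGroup.mk (ρ 1 v) : V ⧸ U) = QuotientGroup.mk v
      rw [map_one, MulAut.one_apply]
  map_mul' x y := by
    ext q
    induction q using QuotientGroup.induction_on with
    | H v =>
      show (QuotientGroup.mk (ρ (x * y) v) : V ⧸ U) = QuotientGroup.mk (ρ x (ρ y v))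
      rw [map_mul, MulAut.mul_apply]

theorem quoAct_apply (ρ : X →* MulAut V) (U : Subgroup V) (hU : ∀ x, ∀ v ∈ U, ρ x v ∈ U) (x : X) (v : V) :
    quoAct ρ U hU x (QuotientGroup.mk v) = QuotientGroup.mk (ρ x v) := rfl

/-- elements stabilising an invariant chain `1 ≤ U ≤ V` act trivially -/
theorem RData.triv_of_stab (D : RData p ρ Q g) (U : Subgroup V) (hU : ∀ x, ∀ v ∈ U, ρ x v ∈ U) {x : X}
    (h1 : ∀ v ∈ U, ρ x v = v) (h2 : ∀ v, ρ x v * v⁻¹ ∈ U) : ρ x = 1 := by
  have hn : (stab ρ U U le_rfl).Normal := by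
    refine ⟨?_⟩
    rintro z ⟨hz1, hz2, hz3⟩ y
    have e2 : ∀ v, ρ y (ρ y⁻¹ v) = v := fun v => by
      rw [← MulAut.mul_apply, ← map_mul, mul_inv_cancel, map_one, MulAut.one_apply]
    have key : ∀ v, ρ (y * z * y⁻¹) v * v⁻¹ = ρ y (ρ z (ρ y⁻¹ v) * (ρ y⁻¹ v)⁻¹) := by
      intro v
      rw [map_mul (ρ y), map_inv (ρ y), e2, map_mul ρ, map_mul ρ, MulAut.mul_apply, MulAut.mul_apply]
    refine ⟨fun v => ?_, fun v hv => ?_, fun v hv => ?_⟩
    · rw [key]
      exact hU y _ (hz1 _)
    · rw [key]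
      exact hU y _ (hz1 _)
    · have h3 := hz3 _ (hU y⁻¹ v hv)
      rw [map_mul ρ, map_mul ρ, MulAut.mul_apply, MulAut.mul_apply, h3, e2]
  have h3 := D.op _ hn (isPGroup_stab ρ D.exp D.odd D.ker U U le_rfl)
  exact h3 (show x ∈ stab ρ U U le_rfl from ⟨h2, fun v _ => h2 v, h1⟩)

/-- from `RData` for `X` to `QData` for an action of the normal closure of `Q` on a small group -/
theorem RData.qdata (D : RData p ρ Q g) {V' : Type*} [CommGroup V'] [Finite V'] (hexp : ∀ v : V', v ^ p = 1)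
    (hcard : Nat.card V' ≤ p ^ 2) (ρ' : Subgroup.normalClosure (Q : Set X) →* MulAut V') (hker : IsPGroup p ρ'.ker)
    (hgen : ∀ q : Subgroup.normalClosure (Q : Set X), (q : X) ∈ Q → ∃ n : ℤ, ρ' q =
      (ρ' ⟨g, Subgroup.subset_normalClosure D.gQ⟩) ^ n)
    (hne : ρ' ⟨g, Subgroup.subset_normalClosure D.gQ⟩ ≠ 1) :
    ∃ τ : Subgroup.normalClosure (Q : Set X), ∀ v : V', ρ' τ v = v⁻¹ := by
  have hQL : Q ≤ Subgroup.normalClosure (Q : Set X) := Subgroup.subset_normalClosure
  have hpQ : IsPGroup p (Q.subgroupOf (Subgroup.normalClosure (Q : Set X))) := by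
    rintro ⟨⟨q, hq⟩, hq'⟩
    obtain ⟨k, hk⟩ := D.pQ ⟨q, hq'⟩
    refine ⟨k, ?_⟩
    apply Subtype.ext
    apply Subtype.ext
    have h1 : q ^ p ^ k = 1 := congrArg Subtype.val hk
    exact h1
  have hQD : QData p ρ' (Q.subgroupOf (Subgroup.normalClosure (Q : Set X))) ⟨g, Subgroup.subset_normalClosure D.gQ⟩ := by
    refine ⟨hexp, hcard.trans (Nat.pow_le_pow_right hp.out.pos (by norm_num)), D.odd, hker, hpQ, ?_, D.gQ, ?_, hne, ?_⟩
    · intro R hR hQR
      have h1 := D.max (R.map (Subgroup.normalClosure (Q : Set X)).subtype) (hR.map _) (by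
        intro q hq
        exact ⟨⟨q, hQL hq⟩, hQR hq, rfl⟩)
      refine le_antisymm (fun z hz => ?_) hQR
      rw [Subgroup.mem_subgroupOf]
      exact h1.le ⟨z, hz, rfl⟩
    · intro q hq
      exact hgen q hq
    · intro v
      obtain ⟨k, hk⟩ := hpQ ⟨⟨g, Subgroup.subset_normalClosure D.gQ⟩, D.gQ⟩
      have hk' : (ρ' ⟨g, Subgroup.subset_normalClosure D.gQ⟩) ^ p ^ k = 1 := by
        have h1 : (⟨g, Subgroup.subset_normalClosure D.gQ⟩ : Subgroup.normalClosure (Q : Set X)) ^ p ^ k = 1 := congrArg Subtype.val hk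
        rw [← map_pow, h1, map_one]
      exact quad_of_card_le hexp _ hk' ⊤ (fun _ _ => mem_top _) (by rw [Subgroup.card_top]; exact hcard) v (mem_top v)
  obtain ⟨x, hxL, hx⟩ := D.exists_conj
  obtain ⟨V0, V1, τ, hout⟩ := hQD.main ⟨⟨x, hxL⟩, by
    intro h
    apply hx
    ext z
    constructor
    · rintro ⟨q, hq, rfl⟩
      have h1 : (⟨x, hxL⟩ : Subgroup.normalClosure (Q : Set X)) * ⟨q, hQL hq⟩ * (⟨x, hxL⟩ : Subgroup.normalClosure (Q : Set X))⁻¹ ∈ Q.subgroupOf (Subgroup.normalClosure (Q : Set X)) := by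
        rw [← h]
        exact ⟨⟨q, hQL hq⟩, hq, rfl⟩
      exact h1
    · intro hz
      have h1 : (⟨z, hQL hz⟩ : Subgroup.normalClosure (Q : Set X)) ∈ (Q.subgroupOf (Subgroup.normalClosure (Q : Set X))).map (MulAut.conj (⟨x, hxL⟩ : Subgroup.normalClosure (Q : Set X))).toMonoidHom := by
        rw [h]
        exact hz
      obtain ⟨q, hq, hqz⟩ := h1
      exact ⟨q, hq, congrArg Subtype.val hqz⟩⟩
  refine ⟨τ, fun v => ?_⟩
  have h1 : V0 = ⊤ := Subgroup.eq_top_of_le_card _ (by rw [hout.card]; exact hcard)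
  exact hout.neg v (by rw [h1]; exact mem_top v)

/-- The elements of the normal closure of `Q` act trivially on an invariant section of order at most `p`. -/
theorem RData.normalClosure_triv (D : RData p ρ Q g) (P : Subgroup X) (hP : P.Normal) (hQ : Q ≤ P) :
    Subgroup.normalClosure (Q : Set X) ≤ P := Subgroup.normalClosure_le_normal hQ

/-- **Irreducibility** when the `p`-element is not quadratic. -/
theorem RData.irr (D : RData p ρ Q g) (hreg : ∃ v, ρ g (dl (ρ g) v) ≠ dl (ρ g) v) (U : Subgroup V)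
    (hU : ∀ x, ∀ v ∈ U, ρ x v ∈ U) : U = ⊥ ∨ U = ⊤ := by
  by_contra hcon
  push Not at hcon
  obtain ⟨hUb, hUt⟩ := hcon
  obtain ⟨v0, hv0⟩ := hreg
  set L := Subgroup.normalClosure (Q : Set X) with hL
  have hLn : L.Normal := Subgroup.normalClosure_normal
  have hQL : Q ≤ L := Subgroup.subset_normalClosure
  have hgL : g ∈ L := hQL D.gQ
  obtain ⟨k, hk⟩ := D.gpow
  have hsq : ∀ v : V, v * v ∈ U → v ∈ U := fun v hv => sq_mem (isPGroup_of_exp D.exp) D.odd hv
  have hsq1 : ∀ v : V, v * v = 1 → v = 1 := fun v hv => by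
    have := sq_mem (isPGroup_of_exp D.exp) D.odd (N := ⊥) (m := v) (by rw [Subgroup.mem_bot]; exact hv)
    rwa [Subgroup.mem_bot] at this
  have hcardV : Nat.card U * U.index = Nat.card V := U.card_mul_index
  obtain ⟨n, hn⟩ := IsPGroup.iff_card.1 ((isPGroup_of_exp D.exp).to_subgroup U)
  have hqV : IsPGroup p (V ⧸ U) := (isPGroup_of_exp D.exp).to_quotient U
  obtain ⟨m, hm⟩ := IsPGroup.iff_card.1 hqV
  have hm' : U.index = p ^ m := hm
  have hn0 : n ≠ 0 := by
    rintro rfl
    rw [pow_zero] at hn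
    exact hUb (Subgroup.eq_bot_of_card_eq _ hn)
  have hm0 : m ≠ 0 := by
    rintro rfl
    rw [pow_zero] at hm'
    exact hUt (Subgroup.index_eq_one.1 hm')
  have hnm : n + m ≤ 3 := by
    have h1 := D.card
    rw [← hcardV, hn, hm', ← pow_add] at h1
    exact (Nat.pow_le_pow_iff_right hp.out.one_lt).1 h1
  -- the final contradiction
  have final : ∀ τ ∈ L, (∀ v, ρ g (ρ τ v) = ρ τ (ρ g v)) → (∀ v, ρ τ (ρ τ v) = v) →
      (∃ m, m ≠ 1 ∧ ρ τ m = m) → (∃ m, m ≠ 1 ∧ ρ τ m = m⁻¹) → False := by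
    intro τ _ h1 h2 h3 h4
    exact hv0 (quad_of_commute D.exp D.odd D.card (ρ g) (ρ τ) hk h1 h2 h3 h4 v0)
  -- commutation and order of `τ` from the behaviour on `U` and `V/U`
  have hcommute : ∀ τ : X, (∀ u ∈ U, ρ (τ * g * τ⁻¹ * g⁻¹) u = u) → (∀ v, ρ (τ * g * τ⁻¹ * g⁻¹) v * v⁻¹ ∈ U) →
      ∀ v, ρ g (ρ τ v) = ρ τ (ρ g v) := by
    intro τ h1 h2 v
    have h3 := D.triv_of_stab U hU h1 h2
    have h4 : ρ (τ * g) = ρ (g * τ) := by
      rw [map_mul, map_mul, map_mul, map_inv, map_inv, mul_inv_eq_one, mul_inv_eq_iff_eq_mul, ← map_mul, ← map_mul] at h3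
      exact h3
    rw [← MulAut.mul_apply, ← MulAut.mul_apply, ← map_mul, ← map_mul, h4]
  by_cases hn1 : n = 1
  · -- `|U| = p`
    subst hn1
    rw [pow_one] at hn
    have hLU : ∀ x ∈ L, ∀ u ∈ U, ρ x u = u := by
      let P : Subgroup X :=
        { carrier := {x | ∀ u ∈ U, ρ x u = u}
          mul_mem' := fun {a b} ha hb u hu => by rw [map_mul, MulAut.mul_apply, hb u hu, ha u hu]
          one_mem' := fun u _ => by rw [map_one, MulAut.one_apply]
          inv_mem' := fun {a} ha u hu => by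
            have h3 : ρ a⁻¹ (ρ a u) = u := by
              rw [← MulAut.mul_apply, ← map_mul, inv_mul_cancel, map_one, MulAut.one_apply]
            rwa [ha u hu] at h3 }
      have hPn : P.Normal := by
        refine ⟨fun z hz y u hu => ?_⟩
        rw [map_mul, map_mul, MulAut.mul_apply, MulAut.mul_apply, hz _ (hU y⁻¹ u hu), ← MulAut.mul_apply, ← map_mul,
          mul_inv_cancel, map_one, MulAut.one_apply]
      have hQP : Q ≤ P := by
        intro q hq u hu
        obtain ⟨j, hj⟩ := D.pQ ⟨q, hq⟩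
        have hj' : (ρ q) ^ p ^ j = 1 := by
          have h1 : q ^ p ^ j = 1 := congrArg Subtype.val hj
          rw [← map_pow, h1, map_one]
        exact fix_of_card_le D.exp (ρ q) hj' U (hU q) hn.le u hu
      exact fun x hx => (D.normalClosure_triv P hPn hQP) hx
    have hcardq : Nat.card (V ⧸ U) ≤ p ^ 2 := by
      rw [hm]
      exact Nat.pow_le_pow_right hp.out.pos (by omega)
    have hexpq : ∀ v : V ⧸ U, v ^ p = 1 := by
      intro q
      induction q using QuotientGroup.induction_on with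
      | H v => rw [← QuotientGroup.mk_pow, D.exp]; rfl
    obtain ⟨τ, hτ⟩ := D.qdata hexpq hcardq ((quoAct ρ U hU).comp L.subtype) (by
        rintro ⟨⟨x, hxL⟩, hx⟩
        have hx1 : quoAct ρ U hU x = 1 := hx
        have h1 : x ∈ ρ.ker := D.triv_of_stab U hU (hLU x hxL) (fun v => by
          have h2 : quoAct ρ U hU x (QuotientGroup.mk v) = QuotientGroup.mk v := by rw [hx1]; rfl
          rw [quoAct_apply, eq_comm, QuotientGroup.eq, mul_comm] at h2
          exact h2)
        obtain ⟨j, hj⟩ := D.ker ⟨x, h1⟩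
        refine ⟨j, ?_⟩
        apply Subtype.ext
        apply Subtype.ext
        have h3 : x ^ p ^ j = 1 := congrArg Subtype.val hj
        exact h3)
      (by
        rintro ⟨q, hqL⟩ hq
        obtain ⟨j, hj⟩ := D.gen q hq
        refine ⟨j, ?_⟩
        show quoAct ρ U hU q = (quoAct ρ U hU g) ^ j
        rw [← map_zpow]
        ext w
        induction w using QuotientGroup.induction_on with
        | H v => rw [quoAct_apply, quoAct_apply, hj, map_zpow])
      (by
        intro h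
        have h' : quoAct ρ U hU g = 1 := h
        apply hv0
        apply hLU g hgL
        have h2 : quoAct ρ U hU g (QuotientGroup.mk v0) = QuotientGroup.mk v0 := by rw [h']; rfl
        rw [quoAct_apply, eq_comm, QuotientGroup.eq, mul_comm] at h2
        exact h2)
    have hτq : ∀ v, ρ τ v * v ∈ U := by
      intro v
      have h2 : quoAct ρ U hU τ (QuotientGroup.mk v) = (QuotientGroup.mk v)⁻¹ := hτ (QuotientGroup.mk v)
      rw [quoAct_apply, ← QuotientGroup.mk_inv, eq_comm, QuotientGroup.eq, inv_inv, mul_comm] at h2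
      exact h2
    have hτU := hLU τ τ.2
    refine final τ τ.2 (hcommute τ (fun u hu => ?_) (fun v => ?_)) (fun v => ?_) ?_ ?_
    · exact hLU _ (mul_mem (mul_mem (mul_mem τ.2 hgL) (inv_mem τ.2)) (inv_mem hgL)) u hu
    · -- on the quotient `τ` is `-1`
      have h3 : quoAct ρ U hU ((τ : X) * g * (τ : X)⁻¹ * g⁻¹) = 1 := by
        have hc : quoAct ρ U hU ((τ : X) * g) = quoAct ρ U hU (g * τ) := by
          ext w
          have e1 : ∀ z, quoAct ρ U hU (τ : X) z = z⁻¹ := hτ
          rw [map_mul, map_mul, MulAut.mul_apply, MulAut.mul_apply, e1, e1, map_inv]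
        rw [map_mul, map_mul, hc, map_inv, map_inv, map_mul, mul_inv_cancel_right, mul_inv_cancel]
      have h4 : quoAct ρ U hU ((τ : X) * g * (τ : X)⁻¹ * g⁻¹) (QuotientGroup.mk v) = QuotientGroup.mk v := by rw [h3]; rfl
      rw [quoAct_apply, eq_comm, QuotientGroup.eq, mul_comm] at h4
      exact h4
    · -- `τ² = 1`
      have h5 : ρ ((τ : X) * τ) = 1 := by
        refine D.triv_of_stab U hU (hLU _ (mul_mem τ.2 τ.2)) (fun w => ?_)
        rw [map_mul, MulAut.mul_apply]
        have e1 := hτq (ρ τ w)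
        have e2 := hτq w
        have e3 : ρ τ (ρ τ w) * w⁻¹ = (ρ τ (ρ τ w) * ρ τ w) * (ρ τ w * w)⁻¹ := by
          rw [mul_inv, ← mul_assoc, mul_inv_cancel_right]
        rw [e3]
        exact mul_mem e1 (inv_mem e2)
      rw [← MulAut.mul_apply, ← map_mul, h5, MulAut.one_apply]
    · obtain ⟨⟨u, hu⟩, hu1⟩ := Subgroup.ne_bot_iff_exists_ne_one.1 hUb
      exact ⟨u, fun h => hu1 (Subtype.ext h), hτU u hu⟩
    · by_contra hcon
      push Not at hcon
      apply hUt
      rw [eq_top_iff]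
      intro v _
      apply hsq
      have h5 : ρ ((τ : X) * τ) = 1 := by
        refine D.triv_of_stab U hU (hLU _ (mul_mem τ.2 τ.2)) (fun w => ?_)
        rw [map_mul, MulAut.mul_apply]
        have e1 := hτq (ρ τ w)
        have e2 := hτq w
        have e3 : ρ τ (ρ τ w) * w⁻¹ = (ρ τ (ρ τ w) * ρ τ w) * (ρ τ w * w)⁻¹ := by
          rw [mul_inv, ← mul_assoc, mul_inv_cancel_right]
        rw [e3]
        exact mul_mem e1 (inv_mem e2)
      have h6 : v * (ρ τ v)⁻¹ = 1 := by
        by_contra h7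
        apply hcon _ h7
        have h8 : ρ τ (ρ τ v) = v := by rw [← MulAut.mul_apply, ← map_mul, h5, MulAut.one_apply]
        rw [map_mul, map_inv, h8, mul_inv, inv_inv, mul_comm]
      rw [mul_inv_eq_one] at h6
      have h7 := hτq v
      rwa [← h6] at h7
  · -- `|V/U| = p`
    have hm1 : m = 1 := by omega
    subst hm1
    rw [pow_one] at hm'
    have hLq : ∀ x ∈ L, ∀ v, ρ x v * v⁻¹ ∈ U := by
      let P : Subgroup X :=
        { carrier := {x | ∀ v, ρ x v * v⁻¹ ∈ U}
          mul_mem' := fun {a b} ha hb v => by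
            have key : ρ (a * b) v * v⁻¹ = (ρ a (ρ b v) * (ρ b v)⁻¹) * (ρ b v * v⁻¹) := by
              rw [map_mul, MulAut.mul_apply]
              group
            rw [key]
            exact mul_mem (ha _) (hb _)
          one_mem' := fun v => by
            rw [map_one, MulAut.one_apply, mul_inv_cancel]
            exact U.one_mem
          inv_mem' := fun {a} ha v => by
            have e2 : ρ a (ρ a⁻¹ v) = v := by
              rw [← MulAut.mul_apply, ← map_mul, mul_inv_cancel, map_one, MulAut.one_apply]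
            have key : ρ a⁻¹ v * v⁻¹ = (ρ a (ρ a⁻¹ v) * (ρ a⁻¹ v)⁻¹)⁻¹ := by
              rw [e2]
              group
            rw [key]
            exact inv_mem (ha _) }
      have hPn : P.Normal := by
        refine ⟨fun z hz y v => ?_⟩
        have e2 : ∀ v, ρ y (ρ y⁻¹ v) = v := fun v => by
          rw [← MulAut.mul_apply, ← map_mul, mul_inv_cancel, map_one, MulAut.one_apply]
        have key : ∀ v, ρ (y * z * y⁻¹) v * v⁻¹ = ρ y (ρ z (ρ y⁻¹ v) * (ρ y⁻¹ v)⁻¹) := by
          intro v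
          rw [map_mul (ρ y), map_inv (ρ y), e2, map_mul ρ, map_mul ρ, MulAut.mul_apply, MulAut.mul_apply]
        rw [key]
        exact hU y _ (hz _)
      have hQP : Q ≤ P := by
        intro q hq v
        obtain ⟨j, hj⟩ := D.pQ ⟨q, hq⟩
        have hj' : (ρ q) ^ p ^ j = 1 := by
          have h1 : q ^ p ^ j = 1 := congrArg Subtype.val hj
          rw [← map_pow, h1, map_one]
        have h1 := EssFrat.trivial_of_pElement (N := U) (M := ⊤) (p := p) le_top
          (by rw [Subgroup.relIndex_top_right, hm']) (ρ q) hj' (hU q) (fun _ _ => mem_top _) v (mem_top v)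
        rwa [mul_comm] at h1
      exact fun x hx => (D.normalClosure_triv P hPn hQP) hx
    have hcardU : Nat.card U ≤ p ^ 2 := by
      rw [hn]
      exact Nat.pow_le_pow_right hp.out.pos (by omega)
    obtain ⟨τ, hτ⟩ := D.qdata (V' := U) (fun u => Subtype.ext (D.exp u)) hcardU ((resAct ρ U hU).comp L.subtype) (by
        rintro ⟨⟨x, hxL⟩, hx⟩
        have hx1 : resAct ρ U hU x = 1 := hx
        have h1 : x ∈ ρ.ker := D.triv_of_stab U hU (fun u hu => by
          have h2 : resAct ρ U hU x ⟨u, hu⟩ = ⟨u, hu⟩ := by rw [hx1]; rfl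
          exact congrArg Subtype.val h2) (hLq x hxL)
        obtain ⟨j, hj⟩ := D.ker ⟨x, h1⟩
        refine ⟨j, ?_⟩
        apply Subtype.ext
        apply Subtype.ext
        have h3 : x ^ p ^ j = 1 := congrArg Subtype.val hj
        exact h3)
      (by
        rintro ⟨q, hqL⟩ hq
        obtain ⟨j, hj⟩ := D.gen q hq
        refine ⟨j, ?_⟩
        show resAct ρ U hU q = (resAct ρ U hU g) ^ j
        rw [← map_zpow]
        ext w
        rw [resAct_apply, resAct_apply, hj, map_zpow])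
      (by
        intro h
        have h' : resAct ρ U hU g = 1 := h
        apply hv0
        have h2 : resAct ρ U hU g ⟨dl (ρ g) v0, hLq g hgL v0⟩ = ⟨dl (ρ g) v0, hLq g hgL v0⟩ := by rw [h']; rfl
        exact congrArg Subtype.val h2)
    have hτU : ∀ u ∈ U, ρ τ u = u⁻¹ := by
      intro u hu
      exact congrArg Subtype.val (hτ ⟨u, hu⟩)
    have hτq := hLq τ τ.2
    have h5 : ρ ((τ : X) * τ) = 1 := by
      refine D.triv_of_stab U hU (fun u hu => ?_) (hLq _ (mul_mem τ.2 τ.2))
      rw [map_mul, MulAut.mul_apply, hτU u hu, map_inv, hτU u hu, inv_inv]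
    have h8 : ∀ v, ρ τ (ρ τ v) = v := fun v => by rw [← MulAut.mul_apply, ← map_mul, h5, MulAut.one_apply]
    refine final τ τ.2 (hcommute τ (fun u hu => ?_) (fun v => ?_)) h8 ?_ ?_
    · have e1 : ρ ((τ : X) * g) u = ρ (g * τ) u := by
        rw [map_mul, map_mul, MulAut.mul_apply, MulAut.mul_apply, hτU u hu, hτU _ (hU g u hu), map_inv]
      have e3 : ∀ u ∈ U, ρ ((τ : X) * g) u = ρ (g * τ) u := by
        intro u hu
        rw [map_mul, map_mul, MulAut.mul_apply, MulAut.mul_apply, hτU u hu, hτU _ (hU g u hu), map_inv]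
      have e4 : (τ : X) * g * (τ : X)⁻¹ * g⁻¹ = (τ * g) * (g * τ)⁻¹ := by group
      rw [e4, map_mul, MulAut.mul_apply, e3 _ (hU _ u hu), ← MulAut.mul_apply, ← map_mul, mul_inv_cancel, map_one,
        MulAut.one_apply]
    · exact hLq _ (mul_mem (mul_mem (mul_mem τ.2 hgL) (inv_mem τ.2)) (inv_mem hgL)) v
    · by_contra hcon
      push Not at hcon
      apply hUt
      rw [eq_top_iff]
      intro v _
      apply hsq
      have h6 : v * ρ τ v = 1 := by
        by_contra h7
        apply hcon _ h7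
        rw [map_mul, h8, mul_comm]
      have h7 : ρ τ v = v⁻¹ := (eq_inv_of_mul_eq_one_right h6)
      have h9 := hτq v
      rw [h7, ← mul_inv] at h9
      exact (Subgroup.inv_mem_iff U).1 h9
    · obtain ⟨⟨u, hu⟩, hu1⟩ := Subgroup.ne_bot_iff_exists_ne_one.1 hUb
      exact ⟨u, fun h => hu1 (Subtype.ext h), hτU u hu⟩

end

end Cfsg.Agent.H767.TE
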