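import Cfsg.Agent.H767.TEReg
import Cfsg.Agent.H765.Sec
import Cfsg.Agent.PLocal.QdSection
import Cfsg.Agent.Lib.PGroupFixedVector

/-!
# Regular unipotent elements and sections `SL₂(p)` (helper767)
-/

set_option autoImplicit false
set_option linter.unusedSectionVars false
set_option linter.unusedVariables false

namespace Cfsg.Agent.H767.TE

open Subgroup
open scoped Matrix
open Cfsg.Agent.PLocal.QdSection (S2)
open scoped commutatorElement

section SL2

variable {p : ℕ} [hp : Fact p.Prime]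

/-- upper unitriangular elements -/
def up (p : ℕ) : S2 p := ⟨!![1, 1; 0, 1], by simp [Matrix.det_fin_two]⟩

/-- lower unitriangular elements -/
def lo (p : ℕ) : S2 p := ⟨!![1, 0; 1, 1], by simp [Matrix.det_fin_two]⟩

theorem up_pow (n : ℕ) : ((up p ^ n : S2 p) : Matrix (Fin 2) (Fin 2) (ZMod p)) = !![1, (n : ZMod p); 0, 1] := by
  induction n with
  | zero =>
    ext i j
    fin_cases i <;> fin_cases j <;> simp
  | succ n ih =>
    rw [pow_succ, Matrix.SpecialLinearGroup.coe_mul, ih]
    ext i j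
    fin_cases i <;> fin_cases j <;> simp [up, Matrix.mul_apply, Fin.sum_univ_two, add_comm]

theorem lo_pow (n : ℕ) : ((lo p ^ n : S2 p) : Matrix (Fin 2) (Fin 2) (ZMod p)) = !![1, 0; (n : ZMod p), 1] := by
  induction n with
  | zero =>
    ext i j
    fin_cases i <;> fin_cases j <;> simp
  | succ n ih =>
    rw [pow_succ, Matrix.SpecialLinearGroup.coe_mul, ih]
    ext i j
    fin_cases i <;> fin_cases j <;> simp [lo, Matrix.mul_apply, Fin.sum_univ_two, add_comm]

theorem up_p : up p ^ p = 1 := by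
  apply Subtype.ext
  rw [up_pow]
  ext i j
  fin_cases i <;> fin_cases j <;> simp

theorem lo_p : lo p ^ p = 1 := by
  apply Subtype.ext
  rw [lo_pow]
  ext i j
  fin_cases i <;> fin_cases j <;> simp

theorem up_ne : up p ≠ 1 := by
  intro h
  have h1 := congrArg (fun A : S2 p => (A : Matrix (Fin 2) (Fin 2) (ZMod p)) 0 1) h
  simp [up] at h1

/-- the vectors fixed by a `p`-group normalised by ... -/
theorem exists_fix (P : Subgroup (S2 p)) (hP : IsPGroup p P) : ∃ v : Fin 2 → ZMod p, v ≠ 0 ∧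
    ∀ A ∈ P, (A : Matrix (Fin 2) (Fin 2) (ZMod p)).mulVec v = v := by
  let _ : MulAction P (Fin 2 → ZMod p) :=
    { smul := fun A v => ((A : S2 p) : Matrix (Fin 2) (Fin 2) (ZMod p)).mulVec v
      one_smul := fun v => by
        show (((1 : P) : S2 p) : Matrix (Fin 2) (Fin 2) (ZMod p)).mulVec v = v
        simp
      mul_smul := fun A B v => by
        show (((A * B : P) : S2 p) : Matrix (Fin 2) (Fin 2) (ZMod p)).mulVec v = _
        rw [Subgroup.coe_mul, Matrix.SpecialLinearGroup.coe_mul, ← Matrix.mulVec_mulVec]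
        rfl }
  have hdvd : p ∣ Nat.card (Fin 2 → ZMod p) := by
    rw [Nat.card_fun, Nat.card_zmod, Nat.card_fin]
    exact dvd_pow_self p (by norm_num)
  have h0 : (0 : Fin 2 → ZMod p) ∈ MulAction.fixedPoints P (Fin 2 → ZMod p) := fun A => by
    show ((A : S2 p) : Matrix (Fin 2) (Fin 2) (ZMod p)).mulVec 0 = 0
    simp
  obtain ⟨v, hv, hne⟩ := hP.exists_fixed_point_of_prime_dvd_card_of_fixed_point (Fin 2 → ZMod p) hdvd h0
  exact ⟨v, hne.symm, fun A hA => hv ⟨A, hA⟩⟩

theorem up_fix {v : Fin 2 → ZMod p} (h : (up p : Matrix (Fin 2) (Fin 2) (ZMod p)).mulVec v = v) : v 1 = 0 := by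
  have h1 := congrFun h 0
  simp [up, Matrix.mulVec, dotProduct, Fin.sum_univ_two] at h1
  exact h1

theorem lo_fix {v : Fin 2 → ZMod p} (h : (lo p : Matrix (Fin 2) (Fin 2) (ZMod p)).mulVec v = v) : v 0 = 0 := by
  have h1 := congrFun h 1
  simp [lo, Matrix.mulVec, dotProduct, Fin.sum_univ_two] at h1
  exact h1

/-- `SL₂(p)` has no nontrivial normal `p`-subgroup. -/
theorem normal_eq_bot (P : Subgroup (S2 p)) (hPn : P.Normal) (hP : IsPGroup p P) : P = ⊥ := by
  have key : ∀ u : S2 p, u ^ p = 1 → ∃ v : Fin 2 → ZMod p, v ≠ 0 ∧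
      (∀ A ∈ P, (A : Matrix (Fin 2) (Fin 2) (ZMod p)).mulVec v = v) ∧ (u : Matrix (Fin 2) (Fin 2) (ZMod p)).mulVec v = v := by
    intro u hu
    have hU : IsPGroup p (zpowers u) := by
      rintro ⟨_, n, rfl⟩
      refine ⟨1, Subtype.ext ?_⟩
      show (u ^ n) ^ p ^ 1 = 1
      rw [pow_one, ← zpow_natCast, ← _root_.zpow_mul, mul_comm, _root_.zpow_mul, zpow_natCast, hu, one_zpow]
    have hs : IsPGroup p (zpowers u ⊔ P : Subgroup (S2 p)) := hU.to_sup_of_normal_right hP
    obtain ⟨v, hv, hf⟩ := exists_fix _ hs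
    exact ⟨v, hv, fun A hA => hf A ((le_sup_right : P ≤ _) hA), hf u ((le_sup_left : zpowers u ≤ _) (mem_zpowers u))⟩
  obtain ⟨v, hv, hvP, hvu⟩ := key (up p) up_p
  obtain ⟨w, hw, hwP, hwl⟩ := key (lo p) lo_p
  have hv1 := up_fix hvu
  have hw0 := lo_fix hwl
  have hv0 : v 0 ≠ 0 := fun h => hv (by ext i; fin_cases i <;> simp [h, hv1])
  have hw1 : w 1 ≠ 0 := fun h => hw (by ext i; fin_cases i <;> simp [h, hw0])
  rw [eq_bot_iff]
  intro A hA
  rw [Subgroup.mem_bot]
  have e0 := congrFun (hvP A hA) 0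
  have e1 := congrFun (hvP A hA) 1
  have f0 := congrFun (hwP A hA) 0
  have f1 := congrFun (hwP A hA) 1
  simp only [Matrix.mulVec, dotProduct, Fin.sum_univ_two, hv1, hw0, mul_zero, add_zero, zero_add] at e0 e1 f0 f1
  have a00 : (A : Matrix (Fin 2) (Fin 2) (ZMod p)) 0 0 = 1 := mul_right_cancel₀ hv0 (by rw [one_mul]; exact e0)
  have a10 : (A : Matrix (Fin 2) (Fin 2) (ZMod p)) 1 0 = 0 := by
    rcases mul_eq_zero.1 e1 with h | h
    · exact h
    · exact (hv0 h).elim
  have a01 : (A : Matrix (Fin 2) (Fin 2) (ZMod p)) 0 1 = 0 := by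
    rcases mul_eq_zero.1 f0 with h | h
    · exact h
    · exact (hw1 h).elim
  have a11 : (A : Matrix (Fin 2) (Fin 2) (ZMod p)) 1 1 = 1 := mul_right_cancel₀ hw1 (by rw [one_mul]; exact f1)
  ext i j
  fin_cases i <;> fin_cases j <;> simp [a00, a01, a10, a11]

/-- `-1` is a commutator in `SL₂(p)` -/
theorem neg_one_comm (p : ℕ) [Fact p.Prime] : ∃ a b : S2 p, ⁅a, b⁆ = -1 := by
  obtain ⟨x, y, hxy⟩ := ZMod.sq_add_sq p (-1)
  let a : S2 p := ⟨!![0, 1; -1, 0], by simp [Matrix.det_fin_two]⟩
  let b : S2 p := ⟨!![x, y; y, -x], by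
    rw [Matrix.det_fin_two_of]
    linear_combination -hxy⟩
  refine ⟨a, b, ?_⟩
  have h1 : a * b = -1 * (b * a) := by
    apply Subtype.ext
    rw [Matrix.SpecialLinearGroup.coe_mul, Matrix.SpecialLinearGroup.coe_mul, Matrix.SpecialLinearGroup.coe_mul]
    show !![(0 : ZMod p), 1; -1, 0] * !![x, y; y, -x] = _ * (!![x, y; y, -x] * !![(0 : ZMod p), 1; -1, 0])
    ext i j
    fin_cases i <;> fin_cases j <;> simp [Matrix.mul_apply, Fin.sum_univ_two]
  rw [commutatorElement_def, h1]
  group

theorem neg_one_ne (h2 : p ≠ 2) : (-1 : S2 p) ≠ 1 := by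
  intro h
  have h1 := congrArg (fun A : S2 p => (A : Matrix (Fin 2) (Fin 2) (ZMod p)) 0 0) h
  simp at h1
  have : Fact (2 < p) := ⟨lt_of_le_of_ne hp.out.two_le (Ne.symm h2)⟩
  exact (ZMod.neg_one_ne_one (n := p)) h1

theorem dvd_card_S2 : p ∣ Nat.card (S2 p) := by
  have h1 : orderOf (up p) = p := orderOf_eq_prime up_p up_ne
  have h2 : orderOf (up p) ∣ Nat.card (S2 p) := orderOf_dvd_natCard _
  rwa [h1] at h2

end SL2

section main

variable {X V : Type*} [Group X] [Finite X] [CommGroup V] [Finite V] {p : ℕ} [hp : Fact p.Prime]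
variable {ρ : X →* MulAut V} {Q : Subgroup X} {g : X}

/-- unipotent elements of `GL₃` have order `p` -/
theorem pow_p_eq_one (hexp : ∀ v : V, v ^ p = 1) (hcard : Nat.card V ≤ p ^ 3) (h2 : p ≠ 2) (α : MulAut V) {k : ℕ}
    (hk : α ^ p ^ k = 1) : α ^ p = 1 := by
  by_cases hV : Nontrivial V
  · obtain ⟨z, hz, hz1, hfz⟩ := exists_fixed hexp α hk ⊤ (fun _ _ => mem_top _) (by
      intro h
      have : Subsingleton V := (Subgroup.subsingleton_iff).1 ((subsingleton_iff_bot_eq_top).1 h.symm)
      exact not_subsingleton V this)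
    have hU : Nat.card (dl α).range ≤ p ^ 2 := by
      have h1 := (dl α).ker.card_mul_index
      rw [Subgroup.index_ker] at h1
      have hzk : z ∈ (dl α).ker := by
        rw [MonoidHom.mem_ker, dl_apply, hfz, mul_inv_cancel]
      have h3 : p ≤ Nat.card (dl α).ker := by
        have h4 : orderOf z = p := orderOf_eq_prime (hexp z) hz1
        rw [← h4]
        exact Nat.le_of_dvd Nat.card_pos (Subgroup.orderOf_dvd_natCard _ hzk)
      have h5 : p * Nat.card (dl α).range ≤ p * p ^ 2 := by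
        calc p * Nat.card (dl α).range ≤ Nat.card (dl α).ker * Nat.card (dl α).range := Nat.mul_le_mul_right _ h3
          _ = Nat.card V := h1
          _ ≤ p ^ 3 := hcard
          _ = p * p ^ 2 := by ring
      exact Nat.le_of_mul_le_mul_left h5 hp.out.pos
    have hq := quad_of_card_le hexp α hk (dl α).range (by
      rintro _ ⟨v, rfl⟩
      exact ⟨α v, by rw [dl_apply, dl_apply, map_mul, map_inv]⟩) hU
    ext v
    have e := pow_apply_choose α (v := v) (a := dl α v) (b := dl α (dl α v)) (apply_eq _ _) (apply_eq _ _)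
      (hq _ ⟨v, rfl⟩) p
    have hdvd : p ∣ p.choose 2 := hp.out.dvd_choose_self (by norm_num) (lt_of_le_of_ne hp.out.two_le (Ne.symm h2))
    obtain ⟨m, hm⟩ := hdvd
    rw [hexp, mul_one, hm, pow_mul, hexp, one_pow, mul_one] at e
    exact e
  · ext v
    rw [not_nontrivial_iff_subsingleton] at hV
    exact Subsingleton.elim _ _

/-- quadratic elements: powers -/
theorem quad_pow {α : MulAut V} (h : ∀ v, α (dl α v) = dl α v) (n : ℤ) : ∀ v, (α ^ n) (dl (α ^ n) v) = dl (α ^ n) v := by
  intro v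
  have h1 := zpow_apply α (apply_eq _ v) (h v) n
  have h2 : dl (α ^ n) v = (dl α v) ^ n := by
    rw [dl_apply, h1, mul_comm v, mul_inv_cancel_right]
  rw [h2, map_zpow]
  have h5 := zpow_apply α (v := dl α v) (a := 1) (by rw [mul_one]; exact h v) (map_one _) n
  rw [one_zpow, mul_one] at h5
  rw [h5]

/-- An involution with determinant one is not `-1` on a group of order `p³`. -/
theorem not_neg (hexp : ∀ v : V, v ^ p = 1) (hcard : Nat.card V = p ^ 3) (h2 : p ≠ 2) (H : Subgroup (MulAut V))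
    (β : MulAut V) (hβ : β ∈ ⁅H, H⁆) (hneg : ∀ v, β v = v⁻¹) : False := by
  obtain ⟨i3, r, hr⟩ := Cfsg.Agent.H765.exists_rep_aux (A := Additive V) (p := p) (fun q => by
      apply Additive.toMul.injective
      exact hexp (Additive.toMul q))
    (fun x : MulAut V => MonoidHom.toAdditive (x : V ≃* V).toMonoidHom) (fun q => rfl) (fun x y q => rfl)
  have h1 : ∀ x ∈ ⁅H, H⁆, (LinearEquiv.det (r x)) = 1 := by
    have h3 : ⁅H, H⁆ ≤ ((LinearEquiv.det (R := ZMod p) (M := Additive V)).comp r).ker := by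
      rw [Subgroup.commutator_le]
      intro a _ b _
      rw [MonoidHom.mem_ker, map_commutatorElement, commutatorElement_eq_one_iff_mul_comm]
      exact mul_comm _ _
    intro x hx
    exact h3 hx
  have h3 := h1 β hβ
  have h4 : ((LinearEquiv.det (r β) : (ZMod p)ˣ) : ZMod p) = (-1) ^ Module.finrank (ZMod p) (Additive V) := by
    rw [LinearEquiv.coe_det]
    have h5 : ((r β : Additive V ≃ₗ[ZMod p] Additive V) : Additive V →ₗ[ZMod p] Additive V) = (-1 : ZMod p) • LinearMap.id := by
      ext q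
      show r β q = (-1 : ZMod p) • q
      rw [hr, neg_smul, one_smul]
      exact congrArg Additive.ofMul (hneg (Additive.toMul q))
    rw [h5, LinearMap.det_smul, LinearMap.det_id, mul_one]
  have h5 : Module.finrank (ZMod p) (Additive V) = 3 := by
    have h6 : Nat.card (Additive V) = Nat.card (ZMod p) ^ Module.finrank (ZMod p) (Additive V) := Module.natCard_eq_pow_finrank
    have h7 : Nat.card (Additive V) = p ^ 3 := hcard
    rw [h7, Nat.card_zmod] at h6
    exact (Nat.pow_right_injective hp.out.two_le h6).symm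
  rw [h3, h5, Units.val_one] at h4
  have : Fact (2 < p) := ⟨lt_of_le_of_ne hp.out.two_le (Ne.symm h2)⟩
  apply ZMod.neg_one_ne_one (n := p)
  have h6 : ((-1 : ZMod p)) ^ 3 = -1 := by norm_num
  rw [← h6, ← h4]

/-- **No `SL₂(p)`-section** in a group containing a regular unipotent element generating the Sylow `p`-subgroup. -/
theorem RData.no_SL2 (D : RData p ρ Q g) (hreg : ∃ v, ρ g (dl (ρ g) v) ≠ dl (ρ g) v) (M : Subgroup X) (π : M →* S2 p)
    (hπ : Function.Surjective π) : False := by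
  classical
  set α := ρ g with hα
  obtain ⟨k, hk⟩ := D.gpow
  have hαp : α ^ p = 1 := pow_p_eq_one D.exp D.card D.odd α hk
  have hαne : α ≠ 1 := D.ne
  -- the order of `V`
  have hcard : Nat.card V = p ^ 3 := by
    have hpV : IsPGroup p V := isPGroup_of_exp D.exp
    obtain ⟨k', hk'⟩ := IsPGroup.iff_card.1 hpV
    have h1 := D.card
    rw [hk'] at h1 ⊢
    have h3 : k' ≤ 3 := (Nat.pow_le_pow_iff_right hp.out.one_lt).1 h1
    rcases h3.lt_or_eq with h4 | h4
    · exfalso
      obtain ⟨v, hv⟩ := hreg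
      exact hv (quad_of_card_le D.exp α hk ⊤ (fun _ _ => mem_top _)
        (by rw [Subgroup.card_top, hk']; exact Nat.pow_le_pow_right hp.out.pos (by omega)) v (mem_top v))
    · rw [h4]
  -- the image of `M`
  let Y : M →* MulAut V := ρ.comp M.subtype
  have hYk : Y.ker ≤ π.ker := by
    have h1 : IsPGroup p Y.ker := by
      rintro ⟨⟨y, hyM⟩, hy⟩
      obtain ⟨j, hj⟩ := D.ker ⟨y, hy⟩
      refine ⟨j, ?_⟩
      apply Subtype.ext
      apply Subtype.ext
      have h3 : y ^ p ^ j = 1 := congrArg Subtype.val hj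
      exact h3
    have h3 : (Y.ker.map π).Normal := (inferInstance : Y.ker.Normal).map π hπ
    have h4 := normal_eq_bot _ h3 (h1.map π)
    rw [Subgroup.map_eq_bot_iff] at h4
    exact h4
  have hYs : Function.Surjective Y.rangeRestrict := Y.rangeRestrict_surjective
  have hYk' : Y.rangeRestrict.ker ≤ π.ker := by rwa [MonoidHom.ker_rangeRestrict]
  let π' : Y.range →* S2 p := Y.rangeRestrict.liftOfSurjective hYs ⟨π, hYk'⟩
  have hπ' : ∀ m : M, π' (Y.rangeRestrict m) = π m := fun m =>
    MonoidHom.liftOfRightInverse_comp_apply _ _ _ ⟨π, hYk'⟩ m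
  have hπ's : Function.Surjective π' := by
    intro A
    obtain ⟨m, rfl⟩ := hπ A
    exact ⟨Y.rangeRestrict m, hπ' m⟩
  -- the Sylow `p`-subgroup of `ρ(X)`
  have hQS : ∀ R : Subgroup X, IsPGroup p R → Q ≤ R → R = Q := D.max
  let QS : Sylow p X := ⟨Q, D.pQ, fun {R} hR hQR => hQS R hR hQR⟩
  have hρs : Function.Surjective ρ.rangeRestrict := ρ.rangeRestrict_surjective
  let PS : Sylow p ρ.range := QS.mapSurjective hρs
  have hPSmem : ∀ x ∈ (PS : Subgroup ρ.range), ∃ n : ℤ, (x : MulAut V) = α ^ n := by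
    rintro x ⟨q, hq, rfl⟩
    obtain ⟨n, hn⟩ := D.gen q hq
    exact ⟨n, hn⟩
  have hPScard : Nat.card (PS : Subgroup ρ.range) ≤ p := by
    have h1 : (PS : Subgroup ρ.range).map ρ.range.subtype ≤ zpowers α := by
      rintro _ ⟨x, hx, rfl⟩
      obtain ⟨n, hn⟩ := hPSmem x hx
      exact ⟨n, hn.symm⟩
    have h3 := Subgroup.card_le_of_le h1
    rw [Subgroup.card_map_of_injective ρ.range.subtype_injective, Nat.card_zpowers] at h3
    exact h3.trans (Nat.le_of_dvd hp.out.pos (orderOf_dvd_of_pow_eq_one hαp))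
  have hnsq : ¬ p ^ 2 ∣ Nat.card ρ.range := by
    intro h
    have h1 := PS.pow_dvd_card_of_pow_dvd_card h
    have h3 := Nat.le_of_dvd Nat.card_pos h1
    have h4 : p < p ^ 2 := by
      rw [pow_two]
      calc p = p * 1 := (mul_one p).symm
        _ < p * p := Nat.mul_lt_mul_of_pos_left hp.out.one_lt hp.out.pos
    omega
  have hYρ : Y.range ≤ ρ.range := by
    rintro _ ⟨m, rfl⟩
    exact ⟨m, rfl⟩
  have hcardY : Nat.card Y.range ∣ Nat.card ρ.range := by
    have h1 : Nat.card Y.range = Nat.card (Y.range.subgroupOf ρ.range) :=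
      Nat.card_congr (Subgroup.subgroupOfEquivOfLe hYρ).symm.toEquiv
    rw [h1]
    exact Subgroup.card_subgroup_dvd_card _
  have hNker : ¬ p ∣ Nat.card π'.ker := by
    intro h
    apply hnsq
    have h1 := π'.ker.card_mul_index
    have h3 : π'.ker.index = Nat.card (S2 p) := by
      rw [Subgroup.index_ker, MonoidHom.range_eq_top.2 hπ's, Subgroup.card_top]
    rw [h3] at h1
    have h4 : p ^ 2 ∣ Nat.card Y.range := by
      rw [← h1, pow_two]
      exact Nat.mul_dvd_mul h dvd_card_S2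
    exact h4.trans hcardY
  -- an element of order `p`
  have hdY : p ∣ Nat.card Y.range := by
    have h1 := π'.ker.card_mul_index
    have h3 : π'.ker.index = Nat.card (S2 p) := by
      rw [Subgroup.index_ker, MonoidHom.range_eq_top.2 hπ's, Subgroup.card_top]
    rw [h3] at h1
    rw [← h1]
    exact dvd_card_S2.mul_left _
  obtain ⟨γ, hγ⟩ := exists_prime_orderOf_dvd_card' p hdY
  have hγp : (γ : MulAut V) ^ p = 1 := by
    have := congrArg Subtype.val (hγ ▸ pow_orderOf_eq_one γ)
    exact this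
  have hγne : (γ : MulAut V) ≠ 1 := by
    intro h
    have h1 : γ = 1 := Subtype.ext h
    rw [h1, orderOf_one] at hγ
    exact hp.out.one_lt.ne hγ
  have hγnq : ¬ ∀ v, (γ : MulAut V) (dl (γ : MulAut V) v) = dl (γ : MulAut V) v := by
    intro hq
    -- conjugate into the Sylow subgroup
    have hzp : IsPGroup p (zpowers (⟨(γ : MulAut V), hYρ γ.2⟩ : ρ.range)) := by
      apply IsPGroup.of_card (n := 1)
      rw [Nat.card_zpowers, pow_one]
      apply orderOf_eq_prime
      · exact Subtype.ext hγp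
      · intro h
        exact hγne (congrArg Subtype.val h)
    obtain ⟨P', hP'⟩ := hzp.exists_le_sylow
    obtain ⟨c, hc⟩ := MulAction.exists_smul_eq ρ.range P' PS
    have h1 : c * ⟨(γ : MulAut V), hYρ γ.2⟩ * c⁻¹ ∈ (PS : Subgroup ρ.range) := by
      rw [← hc]
      exact Subgroup.smul_mem_pointwise_smul _ (MulAut.conj c) (P' : Subgroup ρ.range) (hP' (mem_zpowers _))
    obtain ⟨n, hn⟩ := hPSmem _ h1
    have hn' : (c : MulAut V) * (γ : MulAut V) * (c : MulAut V)⁻¹ = α ^ n := hn
    -- `α ^ n` is quadratic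
    have hqn : ∀ v, (α ^ n) (dl (α ^ n) v) = dl (α ^ n) v := by
      intro v
      rw [← hn']
      have e1 : ∀ w, dl ((c : MulAut V) * (γ : MulAut V) * (c : MulAut V)⁻¹) w = (c : MulAut V) (dl (γ : MulAut V) ((c : MulAut V)⁻¹ w)) := by
        intro w
        rw [dl_apply, dl_apply, MulAut.mul_apply, MulAut.mul_apply, map_mul, map_inv, MulAut.apply_inv_self]
      rw [e1, MulAut.mul_apply, MulAut.mul_apply, MulAut.inv_apply_self, hq]
    have hαn : α ^ n ≠ 1 := by
      intro h
      rw [h] at hn'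
      apply hγne
      have h3 : (γ : MulAut V) = (c : MulAut V)⁻¹ * ((c : MulAut V) * (γ : MulAut V) * (c : MulAut V)⁻¹) * (c : MulAut V) := by group
      rw [h3, hn', mul_one, inv_mul_cancel]
    -- `α` is a power of `α ^ n`
    have hαo : orderOf α = p := orderOf_eq_prime hαp hαne
    have h3 : zpowers (α ^ n) = zpowers α := by
      apply Subgroup.eq_of_le_of_card_ge (Subgroup.zpowers_le.2 (show α ^ n ∈ zpowers α from ⟨n, rfl⟩))
      rw [Nat.card_zpowers, Nat.card_zpowers, hαo]
      have h4 : orderOf (α ^ n) = p := orderOf_eq_prime (by rw [← zpow_natCast, ← _root_.zpow_mul, mul_comm, _root_.zpow_mul, zpow_natCast, hαp, one_zpow]) hαn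
      rw [h4]
    have h4 : α ∈ zpowers (α ^ n) := by rw [h3]; exact mem_zpowers α
    obtain ⟨m, hm⟩ := h4
    obtain ⟨v, hv⟩ := hreg
    apply hv
    have h5 := quad_pow hqn m v
    have hm' : (α ^ n) ^ m = α := hm
    rw [hm'] at h5
    exact h5
  -- an element above `-1` in the commutator subgroup, commuting with `γ`
  obtain ⟨a, b, hab⟩ := neg_one_comm p
  obtain ⟨a', ha'⟩ := hπ's a
  obtain ⟨b', hb'⟩ := hπ's b
  set C : Subgroup Y.range := ⁅(⊤ : Subgroup Y.range), (⊤ : Subgroup Y.range)⁆ with hC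
  have hCn : C.Normal := inferInstance
  let T : Set Y.range := {c | c ∈ C ∧ π' c = -1}
  let c0 : Y.range := ⁅a', b'⁆
  have hc0C : c0 ∈ C := Subgroup.commutator_mem_commutator (mem_top _) (mem_top _)
  have hc0π : π' c0 = -1 := by
    show π' ⁅a', b'⁆ = -1
    rw [map_commutatorElement, ha', hb', hab]
  have hTcard : Nat.card T = Nat.card (C ⊓ π'.ker : Subgroup Y.range) := by
    refine Nat.card_congr
      { toFun := fun c => ⟨c0⁻¹ * c, C.mul_mem (C.inv_mem hc0C) c.2.1, by
          show π' (c0⁻¹ * (c : Y.range)) = 1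
          rw [map_mul, map_inv, hc0π, c.2.2, inv_mul_cancel]⟩
        invFun := fun c => ⟨c0 * c, C.mul_mem hc0C c.2.1, by
          have h1 : π' (c : Y.range) = 1 := c.2.2
          rw [map_mul, hc0π, h1, mul_one]⟩
        left_inv := fun c => Subtype.ext (mul_inv_cancel_left _ _)
        right_inv := fun c => Subtype.ext (inv_mul_cancel_left _ _) }
  have hTnd : ¬ p ∣ Nat.card T := by
    intro h
    rw [hTcard] at h
    apply hNker
    have h1 : Nat.card (C ⊓ π'.ker : Subgroup Y.range) ∣ Nat.card π'.ker := Subgroup.card_dvd_of_le inf_le_right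
    exact h.trans h1
  have hneg : ∀ A : S2 p, A * (-1) * A⁻¹ = -1 := by
    intro A
    rw [mul_neg, mul_one, neg_mul, mul_inv_cancel]
  let act : MulAction (zpowers γ) T :=
    { smul := fun z c => ⟨z * c * (z : Y.range)⁻¹, hCn.conj_mem _ c.2.1 _, by
        rw [map_mul, map_mul, map_inv, c.2.2]
        exact hneg _⟩
      one_smul := fun c => Subtype.ext (by
        show ((1 : zpowers γ) : Y.range) * c * ((1 : zpowers γ) : Y.range)⁻¹ = c
        rw [Subgroup.coe_one, one_mul, inv_one, mul_one])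
      mul_smul := fun z w c => Subtype.ext (by
        show ((z * w : zpowers γ) : Y.range) * c * ((z * w : zpowers γ) : Y.range)⁻¹ = z * (w * c * (w : Y.range)⁻¹) * (z : Y.range)⁻¹
        rw [Subgroup.coe_mul]
        group) }
  have hzγ : IsPGroup p (zpowers γ) := by
    apply IsPGroup.of_card (n := 1)
    rw [Nat.card_zpowers, pow_one, hγ]
  obtain ⟨u, hu⟩ := hzγ.nonempty_fixed_point_of_prime_not_dvd_card T hTnd
  have huγ : γ * (u : Y.range) * γ⁻¹ = u := congrArg Subtype.val (hu ⟨γ, mem_zpowers γ⟩)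
  have huγ' : Commute γ (u : Y.range) := by
    have : γ * (u : Y.range) = u * γ := by
      calc γ * (u : Y.range) = (γ * u * γ⁻¹) * γ := by group
        _ = u * γ := by rw [huγ]
    exact this
  -- the involution
  have h2u : 2 ∣ orderOf (u : Y.range) := by
    have h1 : orderOf (π' (u : Y.range)) = 2 := by
      rw [u.2.2]
      apply orderOf_eq_prime
      · rw [pow_two, neg_mul_neg, one_mul]
      · exact neg_one_ne D.odd
    rw [← h1]
    exact orderOf_map_dvd π' _
  obtain ⟨m, hm⟩ := h2u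
  have hupos : 0 < orderOf (u : Y.range) := orderOf_pos _
  have hmpos : 0 < m := by
    rcases Nat.eq_zero_or_pos m with h | h
    · rw [hm, h] at hupos
      omega
    · exact h
  set β : MulAut V := ((u : Y.range) : MulAut V) ^ m with hβ
  have hβ2 : β * β = 1 := by
    have h1 : ((u : Y.range) : MulAut V) ^ orderOf (u : Y.range) = 1 := by
      have := congrArg Subtype.val (pow_orderOf_eq_one (u : Y.range))
      exact this
    rw [hβ, ← pow_add, ← two_mul, ← hm, h1]
  have hβ1 : β ≠ 1 := by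
    intro h
    have h1 : (u : Y.range) ^ m = 1 := Subtype.ext h
    have h3 := orderOf_dvd_of_pow_eq_one h1
    have h4 := Nat.le_of_dvd hmpos h3
    omega
  have hβγ : Commute (γ : MulAut V) β := by
    have h1 : Commute (γ : MulAut V) ((u : Y.range) : MulAut V) := congrArg Subtype.val huγ'.eq
    exact h1.pow_right m
  have hβC : β ∈ ⁅Y.range, Y.range⁆ := by
    have h1 : C.map Y.range.subtype = ⁅Y.range, Y.range⁆ := by
      rw [hC, Subgroup.map_commutator]
      congr 1 <;> rw [← MonoidHom.range_eq_map, Subgroup.range_subtype]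
    rw [← h1]
    exact ⟨(u : Y.range) ^ m, C.pow_mem u.2.1 m, rfl⟩
  have hββ : ∀ v, β (β v) = v := by
    intro v
    rw [← MulAut.mul_apply, hβ2, MulAut.one_apply]
  obtain ⟨w, hw⟩ : ∃ w, β w ≠ w := by
    by_contra hcon
    push Not at hcon
    exact hβ1 (by ext v; exact hcon v)
  have hinv : ∃ m', m' ≠ 1 ∧ β m' = m'⁻¹ := by
    refine ⟨w⁻¹ * β w, ?_, ?_⟩
    · intro h
      exact hw (inv_mul_eq_one.1 h).symm
    · rw [map_mul, map_inv, hββ, mul_inv_rev, inv_inv, mul_comm]
  by_cases hfix : ∃ m', m' ≠ 1 ∧ β m' = m'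
  · apply hγnq
    refine quad_of_commute D.exp D.odd D.card (γ : MulAut V) β (k := 1) (by rw [pow_one]; exact hγp) ?_ hββ hfix hinv
    intro v
    rw [← MulAut.mul_apply, ← MulAut.mul_apply, hβγ.eq]
  · push Not at hfix
    refine not_neg D.exp hcard D.odd Y.range β hβC ?_
    intro v
    have h1 : β (v * β v) = v * β v := by rw [map_mul, hββ, mul_comm]
    by_contra hcon
    refine hfix (v * β v) ?_ h1
    intro h
    exact hcon (eq_inv_of_mul_eq_one_right h)

end main

end Cfsg.Agent.H767.TE
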