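import Cfsg.Agent.H767.TEEss

/-!
# The structure of a maximal subgroup with its automorphism group (helper767)
-/

set_option autoImplicit false
set_option linter.unusedSectionVars false
set_option linter.unusedVariables false

namespace Cfsg.Agent.H767.TE

open Subgroup
open scoped commutatorElement

variable {S : Type*} [Group S] [Finite S] {p : ℕ} [hp : Fact p.Prime]

/-! ### The Frattini quotient -/

/-- `E/Φ(E)` -/
def FV (hS : IsPGroup p S) (E : Subgroup S) : Type _ := E ⧸ frattini E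

noncomputable instance (hS : IsPGroup p S) (E : Subgroup S) : CommGroup (FV hS E) :=
  { (inferInstance : Group (E ⧸ frattini E)) with
    mul_comm := by
      intro a b
      induction a using QuotientGroup.induction_on with
      | H x =>
        induction b using QuotientGroup.induction_on with
        | H y =>
          show (QuotientGroup.mk (x * y) : E ⧸ frattini E) = QuotientGroup.mk (y * x)
          rw [QuotientGroup.eq]
          have h := Cfsg.Agent.S0014.commutator_mem_frattini (hS.to_subgroup E) y⁻¹ x⁻¹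
          have e : (x * y)⁻¹ * (y * x) = ⁅y⁻¹, x⁻¹⁆ := by
            rw [commutatorElement_def]
            group
          rw [e]
          exact h }

instance (hS : IsPGroup p S) (E : Subgroup S) : Finite (FV hS E) := inferInstanceAs (Finite (E ⧸ frattini E))

/-- the quotient map -/
noncomputable def mkV (hS : IsPGroup p S) (E : Subgroup S) : E →* FV hS E := QuotientGroup.mk' (frattini E)

theorem mkV_surj (hS : IsPGroup p S) (E : Subgroup S) : Function.Surjective (mkV hS E) := QuotientGroup.mk'_surjective _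

theorem mkV_one {hS : IsPGroup p S} {E : Subgroup S} (e : E) : mkV hS E e = 1 ↔ (e : S) ∈ Fr E := by
  rw [mem_Fr]
  exact QuotientGroup.eq_one_iff e

/-- the action of `Aut E` on `E/Φ(E)` -/
noncomputable def actV (hS : IsPGroup p S) (E : Subgroup S) : MulAut E →* MulAut (FV hS E) where
  toFun α := QuotientGroup.congr (frattini E) (frattini E) α (Subgroup.characteristic_iff_map_eq.1 inferInstance α)
  map_one' := by
    ext q
    obtain ⟨e, rfl⟩ := mkV_surj hS E q
    rfl
  map_mul' α β := by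
    ext q
    obtain ⟨e, rfl⟩ := mkV_surj hS E q
    rfl

theorem actV_mk (hS : IsPGroup p S) (E : Subgroup S) (α : MulAut E) (e : E) :
    actV hS E α (mkV hS E e) = mkV hS E (α e) := rfl

theorem card_FV (hS : IsPGroup p S) (E : Subgroup S) : Nat.card (FV hS E) = (Fr E).relIndex E := by
  have h : (Fr E).subgroupOf E = frattini E := by
    ext y
    rw [Subgroup.mem_subgroupOf]
    exact mem_Fr
  rw [Subgroup.relIndex, h]
  rfl

/-- the subgroup of `S` corresponding to a subgroup of `E/Φ(E)` -/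
noncomputable def lift {hS : IsPGroup p S} {E : Subgroup S} (U : Subgroup (FV hS E)) : Subgroup S :=
  (U.comap (mkV hS E)).map E.subtype

/-- the subgroup of `E/Φ(E)` corresponding to a subgroup of `S` -/
noncomputable def down (hS : IsPGroup p S) (E : Subgroup S) (M : Subgroup S) : Subgroup (FV hS E) :=
  (M.subgroupOf E).map (mkV hS E)

section lift

variable {hS : IsPGroup p S} {E : Subgroup S}

theorem mem_lift {U : Subgroup (FV hS E)} (e : E) : (e : S) ∈ lift U ↔ mkV hS E e ∈ U := by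
  constructor
  · rintro ⟨y, hy, hxy⟩
    have : y = e := Subtype.ext hxy
    rw [← this]
    exact hy
  · intro h
    exact ⟨e, h, rfl⟩

theorem lift_le (U : Subgroup (FV hS E)) : lift U ≤ E := Subgroup.map_subtype_le _

theorem Fr_le_lift (U : Subgroup (FV hS E)) : Fr E ≤ lift U := by
  intro x hx
  have h1 : ((⟨x, Fr_le E hx⟩ : E) : S) ∈ Fr E := hx
  have h2 := (mem_lift (U := U) ⟨x, Fr_le E hx⟩).2 (by
    rw [(mkV_one (hS := hS) _).2 h1]
    exact U.one_mem)
  exact h2

theorem lift_relIndex (U W : Subgroup (FV hS E)) : (lift U).relIndex (lift W) = U.relIndex W := by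
  unfold lift
  rw [Subgroup.relIndex_map_map_of_injective _ _ E.subtype_injective, Subgroup.relIndex_comap,
    Subgroup.map_comap_eq_self_of_surjective (mkV_surj hS E)]

theorem lift_top : lift (⊤ : Subgroup (FV hS E)) = E := by
  apply le_antisymm (lift_le _)
  intro x hx
  exact (mem_lift (U := (⊤ : Subgroup (FV hS E))) ⟨x, hx⟩).2 (mem_top _)

theorem lift_bot : lift (⊥ : Subgroup (FV hS E)) = Fr E := by
  apply le_antisymm _ (Fr_le_lift _)
  rintro _ ⟨y, hy, rfl⟩
  exact (mkV_one y).1 hy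

theorem lift_inf (U W : Subgroup (FV hS E)) : lift (U ⊓ W) = lift U ⊓ lift W := by
  unfold lift
  rw [Subgroup.comap_inf, Subgroup.map_inf _ _ _ E.subtype_injective]

theorem mem_down {M : Subgroup S} (hM : Fr E ≤ M) (e : E) : mkV hS E e ∈ down hS E M ↔ (e : S) ∈ M := by
  constructor
  · rintro ⟨y, hy, hye⟩
    have h1 : mkV hS E (y⁻¹ * e) = 1 := by rw [map_mul, map_inv, hye, inv_mul_cancel]
    have h2 := hM ((mkV_one _).1 h1)
    have h3 := M.mul_mem (show (y : S) ∈ M from hy) h2
    have h4 : (y : S) * ((y⁻¹ * e : E) : S) = e := by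
      rw [Subgroup.coe_mul, Subgroup.coe_inv, mul_inv_cancel_left]
    rwa [h4] at h3
  · intro h
    exact ⟨e, h, rfl⟩

theorem lift_down {M : Subgroup S} (h1 : Fr E ≤ M) (h2 : M ≤ E) : lift (down hS E M) = M := by
  ext x
  constructor
  · intro hx
    have hxE := lift_le _ hx
    exact (mem_down h1 ⟨x, hxE⟩).1 ((mem_lift ⟨x, hxE⟩).1 hx)
  · intro hx
    exact (mem_lift ⟨x, h2 hx⟩).2 ((mem_down h1 ⟨x, h2 hx⟩).2 hx)

theorem down_lift (U : Subgroup (FV hS E)) : down hS E (lift U) = U := by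
  ext q
  obtain ⟨e, rfl⟩ := mkV_surj hS E q
  rw [mem_down (Fr_le_lift U), mem_lift]

theorem lift_mono {U W : Subgroup (FV hS E)} (h : U ≤ W) : lift U ≤ lift W :=
  Subgroup.map_mono (Subgroup.comap_mono h)

theorem lift_sup (U W : Subgroup (FV hS E)) : lift (U ⊔ W) = lift U ⊔ lift W := by
  apply le_antisymm
  · have h1 : U ⊔ W ≤ down hS E (lift U ⊔ lift W) := by
      refine sup_le ?_ ?_
      · intro q hq
        obtain ⟨e, rfl⟩ := mkV_surj hS E q
        rw [mem_down ((Fr_le_lift U).trans le_sup_left)]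
        exact (le_sup_left : lift U ≤ _) ((mem_lift e).2 hq)
      · intro q hq
        obtain ⟨e, rfl⟩ := mkV_surj hS E q
        rw [mem_down ((Fr_le_lift U).trans le_sup_left)]
        exact (le_sup_right : lift W ≤ _) ((mem_lift e).2 hq)
    have h2 := lift_mono h1
    rwa [lift_down ((Fr_le_lift U).trans le_sup_left) (sup_le (lift_le U) (lift_le W))] at h2
  · exact sup_le (lift_mono le_sup_left) (lift_mono le_sup_right)

end lift

/-! ### The basic data -/

section data

variable {E : Subgroup S} [hE : E.Normal] {A : Subgroup (MulAut E)} {B : Subgroup (MulAut S)}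

/-- the action of `A` on `E/Φ(E)` -/
noncomputable abbrev rho (hS : IsPGroup p S) (A : Subgroup (MulAut E)) : A →* MulAut (FV hS E) := (actV hS E).comp A.subtype

/-- `Aut_S(E)` as a subgroup of `A` -/
abbrev QA (A : Subgroup (MulAut E)) : Subgroup A := ((MulAut.conjNormal (H := E)).range).subgroupOf A

theorem rho_ker (hS : IsPGroup p S) : IsPGroup p (rho hS A).ker := by
  rintro ⟨a, ha⟩
  obtain ⟨k, m, hm, hkm⟩ := Nat.exists_eq_pow_mul_and_not_dvd (orderOf_pos (a : MulAut E)).ne' p (Fact.out : p.Prime).ne_one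
  refine ⟨k, ?_⟩
  apply Subtype.ext
  apply Subtype.ext
  show (a : MulAut E) ^ p ^ k = 1
  have h1 : orderOf ((a : MulAut E) ^ p ^ k) = m := by
    rw [orderOf_pow' _ (pow_ne_zero k hp.out.ne_zero), hkm, Nat.gcd_eq_right (Dvd.intro m rfl),
      Nat.mul_div_cancel_left _ (pow_pos hp.out.pos k)]
  apply Cfsg.Agent.H767.EssFrat.eq_one_of_mod_frattini (hS.to_subgroup E)
  · rw [h1]
    exact ((Nat.Prime.coprime_iff_not_dvd hp.out).2 hm).symm
  · intro x
    have h2 : actV hS E ((a : MulAut E) ^ p ^ k) = 1 := by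
      have h3 : actV hS E (a : MulAut E) = 1 := ha
      rw [map_pow, h3, one_pow]
    have h3 : mkV hS E (((a : MulAut E) ^ p ^ k) x) = mkV hS E x := by
      rw [← actV_mk, h2, MulAut.one_apply]
    have h4 : mkV hS E (x⁻¹ * ((a : MulAut E) ^ p ^ k) x) = 1 := by
      rw [map_mul, map_inv, h3, inv_mul_cancel]
    exact mem_Fr.1 ((mkV_one _).1 h4)

theorem inner_triv (hS : IsPGroup p S) {e : S} (he : e ∈ E) : actV hS E (MulAut.conjNormal (H := E) e) = 1 := by
  ext q
  obtain ⟨x, rfl⟩ := mkV_surj hS E q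
  rw [actV_mk, MulAut.one_apply]
  have h1 : MulAut.conjNormal (H := E) e x = ⟨e, he⟩ * x * (⟨e, he⟩ : E)⁻¹ := Subtype.ext (MulAut.conjNormal_apply e x)
  rw [h1, map_mul, map_mul, map_inv, mul_comm (mkV hS E ⟨e, he⟩), mul_inv_cancel_right]

theorem EssData.op (D : EssData p E A B) (N : Subgroup A) (hN : N.Normal) (hNp : IsPGroup p N) :
    ∀ n ∈ N, ∃ e ∈ E, (n : MulAut E) = MulAut.conjNormal (H := E) e := by
  intro n hn
  refine D.radical (N.map A.subtype) (Subgroup.map_subtype_le _) ?_ (hNp.map _) n ⟨n, hn, rfl⟩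
  rintro α hα _ ⟨m, hm, rfl⟩
  exact ⟨⟨α, hα⟩ * m * (⟨α, hα⟩ : A)⁻¹, hN.conj_mem m hm ⟨α, hα⟩, rfl⟩

theorem EssData.rdata (D : EssData p E A B) (hS : IsPGroup p S) (h2 : p ≠ 2) (hR : Rk p S) {y : S} (hy : y ∉ E) :
    RData p (rho hS A) (QA A) ⟨MulAut.conjNormal (H := E) y, D.conjA y⟩ := by
  refine ⟨?_, ?_, h2, rho_ker hS, ?_, ?_, ?_, ?_, ?_, ?_⟩
  · intro q
    obtain ⟨e, rfl⟩ := mkV_surj hS E q
    rw [← map_pow, mkV_one]
    exact pow_mem_Fr hS e.2
  · rw [card_FV]
    exact hR _ _ (Fr_le E) (fun a ha b hb => comm_mem_Fr hS ha hb) (fun a ha => pow_mem_Fr hS ha)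
  · rintro ⟨⟨q, hq⟩, hq'⟩
    obtain ⟨s, hs⟩ := hq'
    obtain ⟨k, hk⟩ := hS s
    refine ⟨k, ?_⟩
    apply Subtype.ext
    apply Subtype.ext
    show q ^ p ^ k = 1
    have h1 : MulAut.conjNormal (H := E) s = q := hs
    rw [← h1, ← map_pow, hk, map_one]
  · intro R hRp hQR
    have h1 := D.sylow (R.map A.subtype) (Subgroup.map_subtype_le _) (hRp.map _) (by
      rintro _ ⟨s, rfl⟩
      exact ⟨⟨_, D.conjA s⟩, hQR (show (⟨_, D.conjA s⟩ : A) ∈ QA A from ⟨s, rfl⟩), rfl⟩)
    refine le_antisymm (fun z hz => ?_) hQR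
    rw [Subgroup.mem_subgroupOf, ← h1]
    exact ⟨z, hz, rfl⟩
  · exact ⟨y, rfl⟩
  · rintro ⟨q, hq⟩ ⟨s, hs⟩
    obtain ⟨n, e, he, hse⟩ := D.exists_zpow hy s
    refine ⟨n, ?_⟩
    have h1 : MulAut.conjNormal (H := E) s = q := hs
    show actV hS E q = (actV hS E (MulAut.conjNormal (H := E) y)) ^ n
    rw [← h1, hse, map_mul, map_mul, inner_triv hS he, mul_one, map_zpow, map_zpow]
  · intro h1
    have h3 := D.op (rho hS A).ker inferInstance (rho_ker hS) _ (show _ ∈ (rho hS A).ker from h1)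
    obtain ⟨e, he, h4⟩ := h3
    have h5 := D.conj_eq h4
    apply hy
    have h6 := E.mul_mem he (E.inv_mem h5)
    have e1 : e * (y⁻¹ * e)⁻¹ = y := by group
    rwa [e1] at h6
  · intro N hN hNp n hn
    obtain ⟨e, he, h4⟩ := D.op N hN hNp n hn
    show actV hS E (n : MulAut E) = 1
    rw [h4]
    exact inner_triv hS he

/-- the elements of the normal closure act trivially on invariant sections centralised by `S` -/
theorem EssData.closure_triv (D : EssData p E A B) {M N : Subgroup S} (hM : Inv A M) (hN : Inv A N) (hc : ∀ m ∈ M, ∀ s, ⁅m, s⁆ ∈ N)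
    {a : A} (ha : a ∈ Subgroup.normalClosure (QA A : Set A)) (m : E) (hm : (m : S) ∈ M) :
    (((m⁻¹ : E) * (a : MulAut E) m : E) : S) ∈ N := by
  have hNn : N.Normal := hN.normal D
  let T : Subgroup A :=
    { carrier := {a | ∀ m : E, (m : S) ∈ M → (((m⁻¹ : E) * (a : MulAut E) m : E) : S) ∈ N}
      mul_mem' := by
        intro a b ha hb m hm
        have h1 := hb m hm
        have h2 : ((((b : MulAut E) m : E)) : S) ∈ M := hM.inv _ b.2 m hm
        have h3 := ha _ h2
        have e : (m⁻¹ : E) * ((a * b : A) : MulAut E) m = (m⁻¹ * (b : MulAut E) m) * (((b : MulAut E) m)⁻¹ * (a : MulAut E) ((b : MulAut E) m)) := by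
          rw [Subgroup.coe_mul, MulAut.mul_apply]
          group
        rw [e, Subgroup.coe_mul]
        exact N.mul_mem h1 h3
      one_mem' := by
        intro m hm
        have e : (m⁻¹ : E) * ((1 : A) : MulAut E) m = 1 := by
          rw [Subgroup.coe_one, MulAut.one_apply, inv_mul_cancel]
        rw [e]
        exact N.one_mem
      inv_mem' := by
        intro a ha m hm
        have h2 : (((((a⁻¹ : A) : MulAut E) m : E)) : S) ∈ M := hM.inv _ (a⁻¹).2 m hm
        have h3 := ha _ h2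
        have e : (m⁻¹ : E) * ((a⁻¹ : A) : MulAut E) m = ((((a⁻¹ : A) : MulAut E) m)⁻¹ * (a : MulAut E) (((a⁻¹ : A) : MulAut E) m))⁻¹ := by
          rw [Subgroup.coe_inv, MulAut.apply_inv_self]
          group
        rw [e, Subgroup.coe_inv]
        exact N.inv_mem h3 }
  have hT : T.Normal := by
    refine ⟨fun t ht a m hm => ?_⟩
    have h2 : (((((a⁻¹ : A) : MulAut E) m : E)) : S) ∈ M := hM.inv _ (a⁻¹).2 m hm
    have h3 := hN.inv _ a.2 _ (ht _ h2)
    have e : (a : MulAut E) ((((a⁻¹ : A) : MulAut E) m)⁻¹ * (t : MulAut E) (((a⁻¹ : A) : MulAut E) m)) = m⁻¹ * ((a * t * a⁻¹ : A) : MulAut E) m := by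
      rw [map_mul, map_inv, Subgroup.coe_mul, Subgroup.coe_mul, Subgroup.coe_inv, MulAut.apply_inv_self, MulAut.mul_apply, MulAut.mul_apply]
    rw [e] at h3
    exact h3
  have hQ : QA A ≤ T := by
    rintro ⟨q, hq⟩ ⟨s, hs⟩ m hm
    have h1 : MulAut.conjNormal (H := E) s = q := hs
    show (((m⁻¹ : E) * q m : E) : S) ∈ N
    rw [← h1, Subgroup.coe_mul, MulAut.conjNormal_apply, Subgroup.coe_inv]
    have h3 := hNn.conj_mem _ (N.inv_mem (hc m hm s)) ((m : S)⁻¹)
    have e : (m : S)⁻¹ * (⁅(m : S), s⁆)⁻¹ * ((m : S)⁻¹)⁻¹ = (m : S)⁻¹ * (s * m * s⁻¹) := by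
      rw [commutatorElement_def]
      group
    rwa [e] at h3
  exact Subgroup.normalClosure_le_normal hQ ha m hm

end data

end Cfsg.Agent.H767.TE
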