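import Cfsg.Agent.H767.TEElimNN
import Cfsg.Agent.H767.TEFus
import Cfsg.Agent.H759.FusNormal

/-!
# The natural/natural case: other essential subgroups (helper767)
-/

set_option autoImplicit false
set_option linter.unusedSectionVars false
set_option linter.unusedVariables false

namespace Cfsg.Agent.H767.TE

open Subgroup
open scoped commutatorElement

section abs

variable {V : Type*} [CommGroup V] [Finite V] {p : ℕ} [hp : Fact p.Prime]

theorem dvd_choose_two {n : ℕ} (hn : Odd n) : n ∣ n.choose 2 := by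
  obtain ⟨m, hm⟩ := hn
  rw [Nat.choose_two_right]
  have h1 : n - 1 = m * 2 := by omega
  rw [h1, ← mul_assoc, Nat.mul_div_cancel _ (by norm_num)]
  exact Dvd.intro m rfl

/-- the stabiliser of a chain in a `p`-group is a `p`-group -/
theorem isPGroup_stab' (hV : IsPGroup p V) (h2 : p ≠ 2) (c1 c2 : Subgroup V) (hle : c1 ≤ c2) :
    IsPGroup p (stab (MonoidHom.id (MulAut V)) c1 c2 hle) := by
  obtain ⟨k, hk⟩ := IsPGroup.iff_card.1 hV
  have hodd : Odd (p ^ k) := (hp.out.odd_of_ne_two h2).pow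
  rintro ⟨x, hx1, hx2, hx3⟩
  refine ⟨k, ?_⟩
  apply Subtype.ext
  show x ^ p ^ k = 1
  have hx1' : ∀ v, dl x v ∈ c2 := hx1
  have hx2' : ∀ v ∈ c2, dl x v ∈ c1 := hx2
  have hx3' : ∀ v ∈ c1, x v = v := hx3
  ext v
  have e := pow_apply_choose x (v := v) (a := dl x v) (b := dl x (dl x v)) (apply_eq _ _)
    (apply_eq _ _) (hx3' _ (hx2' _ (hx1' v))) (p ^ k)
  obtain ⟨m, hm⟩ := dvd_choose_two hodd
  have h4 : ∀ u : V, u ^ p ^ k = 1 := fun u => by rw [← hk]; exact pow_card_eq_one'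
  rw [h4, mul_one, hm, pow_mul, h4, one_pow, mul_one] at e
  exact e

theorem dl_mul_comm (α : MulAut V) (u v : V) : dl α (u * v) = dl α u * dl α v := map_mul _ _ _

theorem mem_ker_dl {α : MulAut V} {v : V} : v ∈ (dl α).ker ↔ α v = v := by
  rw [MonoidHom.mem_ker, dl_apply, mul_inv_eq_one]

theorem fix_zpow {α : MulAut V} {v : V} (h : α v = v) (n : ℤ) : (α ^ n) v = v := by
  have := zpow_apply α (v := v) (a := 1) (by rw [mul_one]; exact h) (map_one _) n
  rwa [one_zpow, mul_one] at this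

/-- the pair lemma -/
theorem third_pair (hV : IsPGroup p V) (h2 : p ≠ 2) {A : Subgroup (MulAut V)} {a b : MulAut V} (ha : a ∈ A) (hb : b ∈ A)
    (hqa : ∀ v, a (dl a v) = dl a v) (hqb : ∀ v, b (dl b v) = dl b v)
    (hsyl : ∀ R : Subgroup (MulAut V), R ≤ A → IsPGroup p R → a ∈ R → R ≤ zpowers a)
    (h : (∀ v, b (dl a v) = dl a v) ∨ (∀ v, a (dl b v) = dl b v)) : b ∈ zpowers a := by
  rcases h with h | h
  · have hle : (dl a).range ≤ (dl a).range ⊔ (dl b).range := le_sup_left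
    have hs := isPGroup_stab' hV h2 _ _ hle
    have haS : a ∈ stab (MonoidHom.id (MulAut V)) _ _ hle := by
      refine ⟨fun v => hle ⟨v, rfl⟩, fun v _ => ⟨v, rfl⟩, ?_⟩
      rintro _ ⟨v, rfl⟩
      exact hqa v
    have hbS : b ∈ stab (MonoidHom.id (MulAut V)) _ _ hle := by
      refine ⟨fun v => (le_sup_right : (dl b).range ≤ _) ⟨v, rfl⟩, fun v hv => ?_, ?_⟩
      · obtain ⟨x, ⟨x', rfl⟩, y, ⟨y', rfl⟩, rfl⟩ := Subgroup.mem_sup.1 hv
        show b (dl a x' * dl b y') * (dl a x' * dl b y')⁻¹ ∈ _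
        rw [map_mul, h, hqb, mul_inv_cancel]
        exact one_mem _
      · rintro _ ⟨v, rfl⟩
        exact h v
    have h3 := hsyl (stab (MonoidHom.id (MulAut V)) _ _ hle ⊓ A) inf_le_right (hs.to_le inf_le_left) ⟨haS, ha⟩
    exact h3 ⟨hbS, hb⟩
  · have hle : (dl b).range ≤ (dl b).range ⊔ (dl a).range := le_sup_left
    have hs := isPGroup_stab' hV h2 _ _ hle
    have hbS : b ∈ stab (MonoidHom.id (MulAut V)) _ _ hle := by
      refine ⟨fun v => hle ⟨v, rfl⟩, fun v _ => ⟨v, rfl⟩, ?_⟩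
      rintro _ ⟨v, rfl⟩
      exact hqb v
    have haS : a ∈ stab (MonoidHom.id (MulAut V)) _ _ hle := by
      refine ⟨fun v => (le_sup_right : (dl a).range ≤ _) ⟨v, rfl⟩, fun v hv => ?_, ?_⟩
      · obtain ⟨x, ⟨x', rfl⟩, y, ⟨y', rfl⟩, rfl⟩ := Subgroup.mem_sup.1 hv
        show a (dl b x' * dl a y') * (dl b x' * dl a y')⁻¹ ∈ _
        rw [map_mul, h, hqa, mul_inv_cancel]
        exact one_mem _
      · rintro _ ⟨v, rfl⟩
        exact h v
    have h3 := hsyl (stab (MonoidHom.id (MulAut V)) _ _ hle ⊓ A) inf_le_right (hs.to_le inf_le_left) ⟨haS, ha⟩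
    exact h3 ⟨hbS, hb⟩

/-- the key step: a conjugate `b` of `a` centralises `T` -/
theorem third_key (hV : IsPGroup p V) (h2 : p ≠ 2) {A : Subgroup (MulAut V)} {a b : MulAut V} (ha : a ∈ A) (hb : b ∈ A)
    (hca : Nat.card (dl a).range = p) (hcb : Nat.card (dl b).range = p)
    (hqa : ∀ v, a (dl a v) = dl a v) (hqb : ∀ v, b (dl b v) = dl b v)
    (hsyl : ∀ R : Subgroup (MulAut V), R ≤ A → IsPGroup p R → a ∈ R → R ≤ zpowers a)
    {T : Subgroup V} (hTa : ∀ t ∈ T, a t = t) (hTi : T ⊓ (dl a).range = ⊥)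
    (hext : ∀ w ∈ A, w * a = a * w → ∀ t ∈ T, w t ∈ T) : ∀ t ∈ T, b t = t := by
  by_cases hcase : (∀ v, b (dl a v) = dl a v) ∨ (∀ v, a (dl b v) = dl b v)
  · intro t ht
    obtain ⟨n, hn⟩ := third_pair hV h2 ha hb hqa hqb hsyl hcase
    simp only at hn
    rw [← hn]
    exact fix_zpow (hTa t ht) n
  · push Not at hcase
    obtain ⟨⟨v1, hv1⟩, v2, hv2⟩ := hcase
    set f := dl b v2 with hf
    set e := dl a f with he
    have hae : a e = e := hqa f
    have haf : a f = f * e := apply_eq _ _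
    have hbf : b f = f := hqb v2
    have he1 : e ≠ 1 := by
      intro h1
      rw [h1, mul_one] at haf
      exact hv2 haf
    have hf1 : f ≠ 1 := by
      intro h1
      apply hv2
      rw [h1, map_one]
    have hRe : zpowers e = (dl a).range := zpowers_eq_of_prime hca ⟨f, rfl⟩ he1
    have hRf : zpowers f = (dl b).range := zpowers_eq_of_prime hcb ⟨v2, rfl⟩ hf1
    have hbe : b e ≠ e := by
      intro h1
      apply hv1
      have h3 : dl a v1 ∈ zpowers e := by rw [hRe]; exact ⟨v1, rfl⟩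
      obtain ⟨n, hn⟩ := h3
      simp only at hn
      rw [← hn, map_zpow, h1]
    set f1 := dl b e with hf1'
    have hf11 : f1 ≠ 1 := by
      intro h1
      apply hbe
      rw [apply_eq b e, ← hf1', h1, mul_one]
    have hbe' : b e = e * f1 := apply_eq _ _
    have hbf1 : b f1 = f1 := hqb e
    have hRf1 : zpowers f1 = zpowers f := by
      rw [hRf]
      exact zpowers_eq_of_prime hcb ⟨e, rfl⟩ hf11
    have hoe : orderOf e = p := by rw [← Nat.card_zpowers, hRe, hca]
    have hof : orderOf f = p := by rw [← Nat.card_zpowers, hRf, hcb]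
    obtain ⟨m, hm⟩ : ∃ m : ℤ, f1 ^ m = f⁻¹ := by
      have h1 : f⁻¹ ∈ zpowers f1 := by rw [hRf1]; exact inv_mem (mem_zpowers f)
      exact h1
    set k := b ^ m with hk
    have hke : k e = e * f⁻¹ := by rw [hk, zpow_apply b hbe' hbf1 m, hm]
    have hkf : k f = f := fix_zpow hbf m
    set w := a * k * a with hw
    have hwe : w e = f⁻¹ := by
      rw [hw, MulAut.mul_apply, MulAut.mul_apply, hae, hke, map_mul, map_inv, hae, haf, mul_inv,
        mul_comm f⁻¹, mul_inv_cancel_left]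
    have hwf : w f = e := by
      rw [hw, MulAut.mul_apply, MulAut.mul_apply, haf, map_mul, hke, hkf, mul_comm e,
        mul_inv_cancel_left, hae]
    have hwwe : (w * w) e = e⁻¹ := by rw [MulAut.mul_apply, hwe, map_inv, hwf]
    have hwwf : (w * w) f = f⁻¹ := by rw [MulAut.mul_apply, hwf, hwe]
    have hwwc : ∀ c, a c = c → b c = c → (w * w) c = c := by
      intro c h3 h4
      have h5 : k c = c := fix_zpow h4 m
      have h6 : w c = c := by rw [hw, MulAut.mul_apply, MulAut.mul_apply, h3, h5, h3]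
      rw [MulAut.mul_apply, h6, h6]
    -- decomposition
    have hdec : ∀ v : V, ∃ (i j : ℤ) (c : V), a c = c ∧ b c = c ∧ v = e ^ i * f ^ j * c := by
      intro v
      have h1 : dl a v ∈ zpowers e := by rw [hRe]; exact ⟨v, rfl⟩
      obtain ⟨j, hj⟩ := h1
      simp only at hj
      have h3 : dl b (v * (f ^ j)⁻¹) ∈ zpowers f1 := by rw [hRf1, hRf]; exact ⟨_, rfl⟩
      obtain ⟨i, hi⟩ := h3
      simp only at hi
      have hde : dl a e = 1 := by rw [dl_apply, hae, mul_inv_cancel]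
      have hdf : dl a f = e := rfl
      have hde' : dl b e = f1 := rfl
      refine ⟨i, j, v * (f ^ j)⁻¹ * (e ^ i)⁻¹, ?_, ?_, ?_⟩
      · rw [← mem_ker_dl, MonoidHom.mem_ker, map_mul, map_mul, map_inv, map_inv, map_zpow, map_zpow, hdf, hde, ← hj, one_zpow,
          inv_one, mul_one, mul_inv_cancel]
      · rw [← mem_ker_dl, MonoidHom.mem_ker, map_mul, ← hi, map_inv, map_zpow, hde', mul_inv_cancel]
      · rw [mul_assoc v, ← mul_inv_rev, mul_left_comm, mul_inv_cancel, mul_one]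
    have hwA : w ∈ A := A.mul_mem (A.mul_mem ha (A.zpow_mem hb m)) ha
    have hcomm : w * w * a = a * (w * w) := by
      ext v
      obtain ⟨i, j, c, hc1, hc2, rfl⟩ := hdec v
      have e1 : a (e ^ i * f ^ j * c) = e ^ i * (f ^ j * e ^ j) * c := by
        rw [map_mul, map_mul, map_zpow, map_zpow, hae, haf, hc1, mul_zpow]
      have e2 : (w * w) (e ^ i * f ^ j * c) = (e ^ i)⁻¹ * (f ^ j)⁻¹ * c := by
        rw [map_mul, map_mul, map_zpow, map_zpow, hwwe, hwwf, hwwc c hc1 hc2, inv_zpow, inv_zpow]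
      show (w * w) (a (e ^ i * f ^ j * c)) = a ((w * w) (e ^ i * f ^ j * c))
      rw [e1, e2, map_mul, map_mul, map_mul, map_zpow, map_zpow, map_zpow, hwwe, hwwf,
        hwwc c hc1 hc2, map_mul, map_mul, map_inv, map_inv, map_zpow, map_zpow, hae, haf, hc1, inv_zpow, inv_zpow, inv_zpow,
        mul_zpow, mul_inv]
    intro t ht
    have h3 := hext _ (A.mul_mem hwA hwA) hcomm t ht
    obtain ⟨i, j, c, hc1, hc2, hte⟩ := hdec t
    have h4 : (w * w) t = (e ^ i)⁻¹ * (f ^ j)⁻¹ * c := by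
      rw [hte, map_mul, map_mul, map_zpow, map_zpow, hwwe, hwwf, hwwc c hc1 hc2, inv_zpow, inv_zpow]
    rw [h4] at h3
    have h5 : (e ^ i * f ^ j) * (e ^ i * f ^ j) ∈ T := by
      have := T.mul_mem ht (T.inv_mem h3)
      have e1 : t * ((e ^ i)⁻¹ * (f ^ j)⁻¹ * c)⁻¹ = (e ^ i * f ^ j) * (e ^ i * f ^ j) := by
        rw [hte, mul_inv, mul_inv, inv_inv, inv_inv, mul_mul_mul_comm, mul_inv_cancel, mul_one]
      rwa [e1] at this
    -- `p` is odd
    have hdiv : ∀ (x : V) (n : ℤ), orderOf x = p → x ^ n * x ^ n = 1 → x ^ n = 1 := by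
      intro x n hx hn
      rw [← zpow_add, ← orderOf_dvd_iff_zpow_eq_one, hx, ← two_mul] at hn
      have hcop : IsCoprime (p : ℤ) 2 := by
        rw [Int.isCoprime_iff_gcd_eq_one]
        have : Nat.Coprime p 2 := (Nat.coprime_primes hp.out Nat.prime_two).2 h2
        exact_mod_cast this
      have h6 := hcop.dvd_of_dvd_mul_left hn
      rw [← orderOf_dvd_iff_zpow_eq_one, hx]
      exact h6
    have h6 := hTa _ h5
    have h7 : a ((e ^ i * f ^ j) * (e ^ i * f ^ j)) = (e ^ i * f ^ j) * (e ^ i * f ^ j) * (e ^ j * e ^ j) := by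
      rw [map_mul, map_mul, map_zpow, map_zpow, hae, haf, mul_zpow]
      rw [← mul_assoc (e ^ i), mul_mul_mul_comm (e ^ i * f ^ j)]
    rw [h7] at h6
    have h8 : e ^ j * e ^ j = 1 := mul_eq_left.1 h6
    have h9 := hdiv e j hoe h8
    have h10 : f ^ j = 1 := by
      rw [← orderOf_dvd_iff_zpow_eq_one, hoe] at h9
      rw [← orderOf_dvd_iff_zpow_eq_one, hof]
      exact h9
    rw [h10, mul_one] at h5
    have h11 : e ^ i * e ^ i ∈ T ⊓ (dl a).range := by
      refine ⟨h5, ?_⟩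
      rw [← hRe]
      exact mul_mem (zpow_mem (mem_zpowers e) i) (zpow_mem (mem_zpowers e) i)
    rw [hTi, Subgroup.mem_bot] at h11
    have h12 := hdiv e i hoe h11
    rw [hte, h10, h12, one_mul, one_mul]
    exact hc2

theorem dl_conj (g a : MulAut V) (v : V) : dl (g * a * g⁻¹) v = g (dl a (g⁻¹ v)) := by
  rw [dl_apply, dl_apply, map_mul, map_inv, MulAut.apply_inv_self, MulAut.mul_apply, MulAut.mul_apply]

/-- **The third essential subgroup**: `T` is invariant. -/
theorem third_abs (hV : IsPGroup p V) (h2 : p ≠ 2) {A : Subgroup (MulAut V)} {a : MulAut V} (ha : a ∈ A)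
    (hca : Nat.card (dl a).range = p)
    (hqa : ∀ v, a (dl a v) = dl a v)
    (hsyl : ∀ R : Subgroup (MulAut V), R ≤ A → IsPGroup p R → a ∈ R → R ≤ zpowers a)
    {T : Subgroup V} (hTa : ∀ t ∈ T, a t = t) (hTi : T ⊓ (dl a).range = ⊥) (hidx : T.relIndex (dl a).ker ∣ p)
    (hext : ∀ w ∈ A, w * a = a * w → ∀ t ∈ T, w t ∈ T)
    (hrad : ∀ N : Subgroup (MulAut V), N ≤ A → (∀ α ∈ A, ∀ n ∈ N, α * n * α⁻¹ ∈ N) → IsPGroup p N → N = ⊥) :
    ∀ w ∈ A, ∀ t ∈ T, w t ∈ T := by
  have hane : a ≠ 1 := by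
    rintro rfl
    have h1 : (dl (1 : MulAut V)).range = ⊥ := by
      rw [eq_bot_iff]
      rintro _ ⟨v, rfl⟩
      rw [Subgroup.mem_bot, dl_apply, MulAut.one_apply, mul_inv_cancel]
    rw [h1, Subgroup.card_bot] at hca
    exact hp.out.one_lt.ne hca
  have key : ∀ g ∈ A, ∀ t ∈ T, (g * a * g⁻¹) t = t := by
    intro g hg
    have hr : (dl (g * a * g⁻¹)).range = (dl a).range.map g.toMonoidHom := by
      apply le_antisymm
      · rintro _ ⟨v, rfl⟩
        exact ⟨dl a (g⁻¹ v), ⟨_, rfl⟩, (dl_conj g a v).symm⟩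
      · rintro _ ⟨_, ⟨v, rfl⟩, rfl⟩
        refine ⟨g v, ?_⟩
        rw [dl_conj, MulAut.inv_apply_self]
        rfl
    refine third_key hV h2 ha (A.mul_mem (A.mul_mem hg ha) (A.inv_mem hg)) hca ?_ hqa ?_ hsyl hTa hTi hext
    · rw [hr, Subgroup.card_map_of_injective g.injective, hca]
    · intro v
      rw [dl_conj, MulAut.mul_apply, MulAut.mul_apply, MulAut.inv_apply_self, hqa]
  let C : Subgroup V :=
    { carrier := {x | ∀ g ∈ A, (g * a * g⁻¹) x = x}
      one_mem' := fun g _ => map_one _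
      mul_mem' := fun {x y} hx hy g hg => by rw [map_mul, hx g hg, hy g hg]
      inv_mem' := fun {x} hx g hg => by rw [map_inv, hx g hg] }
  have hCinv : ∀ w ∈ A, ∀ x ∈ C, w x ∈ C := by
    intro w hw x hx g hg
    have h3 := hx (w⁻¹ * g) (A.mul_mem (A.inv_mem hw) hg)
    have e1 : (w⁻¹ * g) * a * (w⁻¹ * g)⁻¹ = w⁻¹ * (g * a * g⁻¹) * w := by group
    rw [e1, MulAut.mul_apply, MulAut.mul_apply] at h3
    have h4 := congrArg w h3
    rwa [MulAut.apply_inv_self] at h4
  have hTC : T ≤ C := fun t ht g hg => key g hg t ht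
  have hCk : C ≤ (dl a).ker := by
    intro x hx
    rw [mem_ker_dl]
    have h3 := hx 1 A.one_mem
    rwa [one_mul, inv_one, mul_one] at h3
  have hCT : C = T := by
    have h3 := Subgroup.relIndex_mul_relIndex T C (dl a).ker hTC hCk
    rw [← h3] at hidx
    rcases (Nat.dvd_prime hp.out).1 (dvd_of_mul_right_dvd hidx) with h4 | h4
    · rw [Subgroup.relIndex_eq_one] at h4
      exact le_antisymm h4 hTC
    · exfalso
      have h5 : C.relIndex (dl a).ker = 1 := by
        rw [h4] at hidx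
        have h6 : p * C.relIndex (dl a).ker ∣ p * 1 := by rwa [mul_one]
        exact Nat.dvd_one.1 (Nat.dvd_of_mul_dvd_mul_left hp.out.pos h6)
      rw [Subgroup.relIndex_eq_one] at h5
      have h6 : C = (dl a).ker := le_antisymm hCk h5
      have hN := hrad (stab (MonoidHom.id (MulAut V)) C C le_rfl ⊓ A) inf_le_right (by
        rintro α hα n ⟨⟨hn1, hn2, hn3⟩, hnA⟩
        have hn1' : ∀ v, n v * v⁻¹ ∈ C := hn1
        have hn3' : ∀ v ∈ C, n v = v := hn3
        have hfix : ∀ v ∈ C, (α * n * α⁻¹) v = v := by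
          intro v hv
          rw [MulAut.mul_apply, MulAut.mul_apply, hn3' _ (hCinv _ (A.inv_mem hα) v hv), MulAut.apply_inv_self]
        refine ⟨⟨fun v => ?_, fun v hv => ?_, hfix⟩, A.mul_mem (A.mul_mem hα hnA) (A.inv_mem hα)⟩
        · have h7 := hCinv α hα _ (hn1' (α⁻¹ v))
          rw [map_mul, map_inv, MulAut.apply_inv_self] at h7
          exact h7
        · show (α * n * α⁻¹) v * v⁻¹ ∈ C
          rw [hfix v hv, mul_inv_cancel]
          exact C.one_mem) ((isPGroup_stab' hV h2 C C le_rfl).to_le inf_le_left)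
      have haN : a ∈ stab (MonoidHom.id (MulAut V)) C C le_rfl ⊓ A := by
        have hfix : ∀ v ∈ C, a v = v := fun v hv => mem_ker_dl.1 (hCk hv)
        refine ⟨⟨fun v => ?_, fun v hv => ?_, hfix⟩, ha⟩
        · show dl a v ∈ C
          rw [h6, mem_ker_dl]
          exact hqa v
        · show a v * v⁻¹ ∈ C
          rw [hfix v hv, mul_inv_cancel]
          exact C.one_mem
      rw [hN, Subgroup.mem_bot] at haN
      exact hane haN
  intro w hw t ht
  rw [← hCT] at ht ⊢
  exact hCinv w hw t ht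

end abs

section third

variable {S : Type*} [Group S] [Finite S] {p : ℕ} [hp : Fact p.Prime]

variable {E1 E2 : Subgroup S} [hE1 : E1.Normal] [hE2 : E2.Normal] {A1 : Subgroup (MulAut E1)} {A2 : Subgroup (MulAut E2)}
  {B : Subgroup (MulAut S)} {K1 W1 K2 W2 : Subgroup S} {τ1 τ2 : MulAut S}

theorem ED0.exists_notMem {E : Subgroup S} [hE : E.Normal] {A : Subgroup (MulAut E)} (D : ED0 p E A B) : ∃ y : S, y ∉ E := by
  by_contra h
  push Not at h
  have h1 : E = ⊤ := by
    rw [eq_top_iff]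
    exact fun x _ => h x
  have h2 := D.index
  rw [h1, Subgroup.index_top] at h2
  exact hp.out.one_lt.ne h2

/-- generating `S` by `E` and `y` -/
theorem exists_zpow_of_index {E : Subgroup S} [hE : E.Normal] (hi : E.index = p) {y : S} (hy : y ∉ E) (s : S) :
    ∃ (n : ℤ) (e : S), e ∈ E ∧ s = y ^ n * e := by
  have hc : Nat.card (S ⧸ E) = p := hi
  have : IsCyclic (S ⧸ E) := isCyclic_of_prime_card hc
  have h1 : (QuotientGroup.mk y : S ⧸ E) ≠ 1 := fun h => hy ((QuotientGroup.eq_one_iff y).1 h)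
  have h2 : zpowers (QuotientGroup.mk y : S ⧸ E) = ⊤ := by
    apply Subgroup.eq_top_of_le_card
    rw [hc, Nat.card_zpowers]
    have h3 : orderOf (QuotientGroup.mk y : S ⧸ E) ∣ p := by
      rw [← hc]
      exact orderOf_dvd_natCard _
    rcases (Nat.dvd_prime hp.out).1 h3 with h4 | h4
    · exact (h1 (orderOf_eq_one_iff.1 h4)).elim
    · exact h4.ge
  have h3 : (QuotientGroup.mk s : S ⧸ E) ∈ zpowers (QuotientGroup.mk y : S ⧸ E) := by rw [h2]; exact mem_top _
  obtain ⟨n, hn⟩ := h3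
  simp only at hn
  rw [← QuotientGroup.mk_zpow, QuotientGroup.eq] at hn
  exact ⟨n, (y ^ n)⁻¹ * s, hn, by group⟩

/-- facts on the natural/natural case -/
theorem nn_center (D1 : EssData p E1 A1 B) (D2 : EssData p E2 A2 B) (hDc : ∀ d ∈ E1 ⊓ E2, ∀ s, ⁅d, s⁆ ∈ (⊥ : Subgroup S)) {v : S} :
    v ∈ E1 ⊓ E2 ↔ ∀ s : S, v * s = s * v := by
  constructor
  · intro hv s
    have h1 := hDc v hv s
    rw [Subgroup.mem_bot] at h1
    exact commutatorElement_eq_one_iff_mul_comm.1 h1
  · intro h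
    exact ⟨D1.cent v (fun e _ => h e), D2.cent v (fun e _ => h e)⟩

theorem nn_index (D1 : EssData p E1 A1 B) (D2 : EssData p E2 A2 B) (hne : E1 ≠ E2) : (E1 ⊓ E2).index = p * p := by
  have h1 := Subgroup.relIndex_mul_index (inf_le_left : E1 ⊓ E2 ≤ E1)
  rw [pair_idx1 D1 D2 hne, D1.index] at h1
  exact h1.symm

theorem nn_third (D1 : EssData p E1 A1 B) (D2 : EssData p E2 A2 B) (hne : E1 ≠ E2) (hS : IsPGroup p S) (h2 : p ≠ 2)
    (N1 : NT p E1 A1 B K1 W1 τ1) (hKD : K1 ≤ E1 ⊓ E2)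
    (hDc : ∀ d ∈ E1 ⊓ E2, ∀ s, ⁅d, s⁆ ∈ (⊥ : Subgroup S))
    {E3 : Subgroup S} [hE3 : E3.Normal] {A3 : Subgroup (MulAut E3)} (D3 : ED0 p E3 A3 B) : Inv A3 K1 := by
  have hcen : ∀ {v : S}, v ∈ E1 ⊓ E2 ↔ ∀ s : S, v * s = s * v := nn_center D1 D2 hDc
  have hK1n := N1.invK.normal D1
  -- `D ≤ E3`
  have hD3 : E1 ⊓ E2 ≤ E3 := fun d hd => D3.cent d (fun e _ => hcen.1 hd e)
  have hidx3 : (E1 ⊓ E2).relIndex E3 = p := by
    have h1 := Subgroup.relIndex_mul_index hD3
    rw [D3.index, nn_index D1 D2 hne] at h1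
    exact Nat.eq_of_mul_eq_mul_right hp.out.pos h1
  have hab : ∀ a ∈ E3, ∀ b ∈ E3, a * b = b * a := by
    have hn : (⊥ : Subgroup S).Normal := inferInstance
    have h1 := abel_of_index (N := ⊥) hD3 (dvd_of_eq hidx3) (fun d hd e _ => hDc d hd e)
    intro a ha b hb
    have h3 := h1 a ha b hb
    rw [Subgroup.mem_bot] at h3
    exact commutatorElement_eq_one_iff_mul_comm.1 h3
  letI i3 : CommGroup E3 := { (inferInstance : Group E3) with mul_comm := fun a b => Subtype.ext (hab a a.2 b b.2) }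
  obtain ⟨y, hy⟩ := D3.exists_notMem
  set a : MulAut E3 := MulAut.conjNormal (H := E3) y with ha
  have haA : a ∈ A3 := D3.conjA y
  have hdl : ∀ v : E3, ((dl a v : E3) : S) = ⁅y, (v : S)⁆ := by
    intro v
    rw [dl_apply, Subgroup.coe_mul, ha, MulAut.conjNormal_apply, Subgroup.coe_inv, commutatorElement_def]
  have hcomm : ∀ u v : S, ⁅u, v⁆ ∈ E1 ⊓ E2 := pair_comm D1 D2
  have hqa : ∀ v, a (dl a v) = dl a v := by
    intro v
    apply Subtype.ext
    rw [ha, MulAut.conjNormal_apply, ← ha, hdl]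
    have h1 := hcen.1 (hcomm y v) y
    rw [← h1, mul_inv_cancel_right]
  -- the kernel
  have hker : (dl a).ker = (E1 ⊓ E2).subgroupOf E3 := by
    ext v
    rw [MonoidHom.mem_ker, Subgroup.mem_subgroupOf]
    constructor
    · intro h1
      have h3 : ⁅y, (v : S)⁆ = 1 := by rw [← hdl, h1]; rfl
      rw [commutatorElement_eq_one_iff_mul_comm] at h3
      rw [hcen]
      intro s
      obtain ⟨n, e, he, rfl⟩ := exists_zpow_of_index D3.index hy s
      have h4 : Commute (v : S) (y ^ n) := Commute.zpow_right (show (v : S) * y = y * v from h3.symm) n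
      have h5 : Commute (v : S) e := hab v v.2 e he
      exact (h4.mul_right h5).eq
    · intro h1
      apply Subtype.ext
      rw [hdl]
      have := hcen.1 h1 y
      show ⁅y, (v : S)⁆ = 1
      rw [commutatorElement_eq_one_iff_mul_comm]
      exact this.symm
  have hca : Nat.card (dl a).range = p := by
    rw [← Subgroup.index_ker, hker]
    exact hidx3
  -- `S` modulo the inner part
  have hconj : ∀ s : S, ∃ n : ℤ, MulAut.conjNormal (H := E3) s = a ^ n := by
    intro s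
    obtain ⟨n, e, he, rfl⟩ := exists_zpow_of_index D3.index hy s
    refine ⟨n, ?_⟩
    have h1 : MulAut.conjNormal (H := E3) e = 1 := by
      ext x
      rw [MulAut.conjNormal_apply, hab e he x x.2, mul_inv_cancel_right]
      rfl
    rw [map_mul, h1, mul_one, map_zpow]
  have hsyl : ∀ R : Subgroup (MulAut E3), R ≤ A3 → IsPGroup p R → a ∈ R → R ≤ zpowers a := by
    intro R hR hRp haR
    have h1 := D3.sylow R hR hRp (by
      rintro _ ⟨s, rfl⟩
      obtain ⟨n, hn⟩ := hconj s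
      rw [hn]
      exact R.zpow_mem haR n)
    rw [h1]
    rintro _ ⟨s, rfl⟩
    obtain ⟨n, hn⟩ := hconj s
    exact ⟨n, hn.symm⟩
  have hTa : ∀ t ∈ K1.subgroupOf E3, a t = t := by
    intro t ht
    have h1 : t ∈ (dl a).ker := by
      rw [hker]
      exact hKD ht
    exact mem_ker_dl.1 h1
  have hTi : K1.subgroupOf E3 ⊓ (dl a).range = ⊥ := by
    rw [eq_bot_iff]
    rintro t ⟨ht, ht2⟩
    rw [Subgroup.mem_bot]
    by_contra hne1
    have h1 : zpowers t = (dl a).range := zpowers_eq_of_prime hca ht2 hne1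
    have h3 : ∀ v : E3, ⁅y, (v : S)⁆ ∈ K1 := by
      intro v
      have h4 : dl a v ∈ zpowers t := by rw [h1]; exact ⟨v, rfl⟩
      have h5 : zpowers t ≤ K1.subgroupOf E3 := by
        rw [zpowers_le]
        exact ht
      have h6 : ((dl a v : E3) : S) ∈ K1 := h5 h4
      rwa [hdl] at h6
    have h4 : ∀ s : S, ∀ e ∈ E3, ⁅e, s⁆ ∈ K1 := by
      intro s e he
      obtain ⟨n, e', he', rfl⟩ := exists_zpow_of_index D3.index hy s
      have h5 : ⁅e, e'⁆ ∈ K1 := by
        rw [commutatorElement_eq_one_iff_mul_comm.2 (hab e he e' he')]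
        exact K1.one_mem
      have h6 : ⁅y ^ n, e⁆ ∈ K1 := cm_zpow_left (h3 ⟨e, he⟩) n
      exact cm_mul_right (cm_symm h6) h5
    apply N1.notcent D1 hS h2
    intro e he s
    obtain ⟨n, x, hx, rfl⟩ := exists_zpow_of_index D3.index hy e
    refine cm_mul_left ?_ (h4 s x hx)
    refine cm_zpow_left ?_ n
    obtain ⟨m, x', hx', rfl⟩ := exists_zpow_of_index D3.index hy s
    refine cm_mul_right ?_ (h3 ⟨x', hx'⟩)
    have : ⁅y, y ^ m⁆ = 1 := by
      rw [commutatorElement_eq_one_iff_mul_comm]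
      exact (Commute.refl y).zpow_right m
    rw [this]
    exact K1.one_mem
  have hidx : (K1.subgroupOf E3).relIndex (dl a).ker ∣ p := by
    rw [hker]
    have h1 : (K1.subgroupOf E3).relIndex ((E1 ⊓ E2).subgroupOf E3) = K1.relIndex (E1 ⊓ E2) := by
      rw [Subgroup.relIndex_subgroupOf hD3]
    rw [h1, idxKF D1 D2 hne N1 hKD]
  have hmain := third_abs (V := E3) (hS.to_subgroup E3) h2 haA hca hqa hsyl hTa hTi hidx (by
    intro w hw hwa t ht
    obtain ⟨β, hβ, h⟩ := D3.ext w hw (by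
      intro s
      obtain ⟨n, hn⟩ := hconj s
      refine ⟨s, ?_⟩
      have h1 : w * a ^ n = a ^ n * w := (Commute.zpow_right (show w * a = a * w from hwa) n).eq
      rw [hn, h1, mul_inv_cancel_right])
    rw [Subgroup.mem_subgroupOf, ← h]
    exact N1.invK.map D1 hβ ht) (by
    intro N hN hNn hNp
    rw [eq_bot_iff]
    intro n hn
    obtain ⟨e, he, rfl⟩ := D3.radical N hN hNn hNp n hn
    rw [Subgroup.mem_bot]
    ext x
    rw [MulAut.conjNormal_apply, hab e he x x.2, mul_inv_cancel_right]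
    rfl)
  exact ⟨hKD.trans hD3, fun α hα x hx => hmain α hα x hx⟩

/-- a nonabelian group of order `p³` has sectional rank at most two -/
theorem sectional_two (hS : Nat.card S = p ^ 3) (hna : ∃ a b : S, a * b ≠ b * a) : Cfsg.SectionalPRankLE p 2 S := by
  intro H N hN A hA hexp
  have hpA : IsPGroup p A := by
    rintro ⟨a, ha⟩
    exact ⟨1, Subtype.ext (by rw [pow_one]; exact hexp a ha)⟩
  obtain ⟨k, hk⟩ := IsPGroup.iff_card.1 hpA
  rw [hk]
  by_contra hcon
  push Not at hcon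
  have hk3 : 3 ≤ k := by
    by_contra h
    have : k ≤ 2 := by omega
    exact absurd (Nat.pow_le_pow_right hp.out.pos this) (not_le.2 hcon)
  have h1 : p ^ 3 ≤ Nat.card A := by rw [hk]; exact Nat.pow_le_pow_right hp.out.pos hk3
  have h2 : Nat.card A ≤ Nat.card (H ⧸ N) := Subgroup.card_le_card_group A
  have h3 : Nat.card H = Nat.card (H ⧸ N) * Nat.card N := Subgroup.card_eq_card_quotient_mul_card_subgroup N
  have h4 : Nat.card H ≤ p ^ 3 := by rw [← hS]; exact Subgroup.card_le_card_group H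
  have hNpos : 0 < Nat.card N := Nat.card_pos
  have h5 : Nat.card (H ⧸ N) ≤ Nat.card H := by
    rw [h3]
    exact Nat.le_mul_of_pos_right _ hNpos
  have h6 : Nat.card H = p ^ 3 := le_antisymm h4 (h1.trans (h2.trans h5))
  have h7 : Nat.card (H ⧸ N) = p ^ 3 := le_antisymm (h5.trans h4) (h1.trans h2)
  have h8 : Nat.card N = 1 := by
    rw [h6, h7] at h3
    have : p ^ 3 * 1 = p ^ 3 * Nat.card N := by rw [mul_one]; exact h3
    exact (Nat.eq_of_mul_eq_mul_left (pow_pos hp.out.pos 3) this).symm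
  have hN1 : N = ⊥ := Subgroup.eq_bot_of_card_eq _ h8
  have hHtop : H = ⊤ := by
    apply Subgroup.eq_top_of_card_eq
    rw [h6, hS]
  have hAtop : A = ⊤ := by
    apply Subgroup.eq_top_of_le_card
    rw [h7]
    exact h1
  obtain ⟨a, b, hab⟩ := hna
  apply hab
  have haH : a ∈ H := by rw [hHtop]; exact mem_top a
  have hbH : b ∈ H := by rw [hHtop]; exact mem_top b
  have hc := hA.is_comm.comm (⟨QuotientGroup.mk ⟨a, haH⟩, by rw [hAtop]; exact mem_top _⟩ : A)
    ⟨QuotientGroup.mk ⟨b, hbH⟩, by rw [hAtop]; exact mem_top _⟩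
  have hc' : (QuotientGroup.mk ((⟨a, haH⟩ : H) * ⟨b, hbH⟩) : H ⧸ N) = QuotientGroup.mk ((⟨b, hbH⟩ : H) * ⟨a, haH⟩) :=
    congrArg Subtype.val hc
  rw [QuotientGroup.eq, hN1, Subgroup.mem_bot, inv_mul_eq_one] at hc'
  exact congrArg Subtype.val hc'

/-- if `K₁ = 1` then the sectional rank is two -/
theorem nn_rank (D1 : EssData p E1 A1 B) (D2 : EssData p E2 A2 B) (hne : E1 ≠ E2) (hS : IsPGroup p S) (h2 : p ≠ 2)
    (N1 : NT p E1 A1 B K1 W1 τ1) (hK : K1 = ⊥) : Cfsg.SectionalPRankLE p 2 S := by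
  apply sectional_two
  · have h1 := Subgroup.relIndex_mul_index (bot_le : (⊥ : Subgroup S) ≤ E1)
    have h3 := N1.idx
    rw [hK] at h3
    rw [h3, D1.index, Subgroup.index_bot] at h1
    rw [← h1, pow_succ p 2]
  · by_contra hcon
    push Not at hcon
    apply N1.notcent D1 hS h2
    intro e _ s
    rw [commutatorElement_eq_one_iff_mul_comm.2 (hcon e s)]
    exact K1.one_mem

end third

end Cfsg.Agent.H767.TE
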