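import Cfsg.Agent.H767.TETypes

/-!
# Tools for the elimination of configurations (helper767)
-/

set_option autoImplicit false
set_option linter.unusedSectionVars false
set_option linter.unusedVariables false

namespace Cfsg.Agent.H767.TE

open Subgroup
open scoped commutatorElement

/-! ### Power formula -/

section pow

variable {G : Type*} [Group G]

theorem mul_pow_of_comm {a b c : G} (h : b * a = a * b * c) (hca : c * a = a * c) (hcb : c * b = b * c) (n : ℕ) :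
    (a * b) ^ n = a ^ n * b ^ n * c ^ (n.choose 2) := by
  have hca' : Commute c a := hca
  have hcb' : Commute c b := hcb
  have h1 : ∀ n : ℕ, b ^ n * a = a * b ^ n * c ^ n := by
    intro n
    induction n with
    | zero => simp
    | succ n ih =>
      calc b ^ (n + 1) * a = b * (b ^ n * a) := by rw [pow_succ', mul_assoc]
        _ = (b * a) * b ^ n * c ^ n := by rw [ih]; group
        _ = a * b * (c * b ^ n) * c ^ n := by rw [h]; group
        _ = a * b * (b ^ n * c) * c ^ n := by rw [(hcb'.pow_right n).eq]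
        _ = a * b ^ (n + 1) * c ^ (n + 1) := by rw [pow_succ' b, pow_succ' c]; group
  induction n with
  | zero => simp
  | succ n ih =>
    have h4 : ((n + 1).choose 2 : ℕ) = n + n.choose 2 := by
      rw [Nat.choose_succ_succ' n 1, Nat.choose_one_right]
    have h5 : Commute (c ^ (n.choose 2)) (a * b) := (hca'.mul_right hcb').pow_left _
    have h6 : Commute (c ^ n) b := hcb'.pow_left _
    calc (a * b) ^ (n + 1) = a ^ n * b ^ n * (c ^ (n.choose 2) * (a * b)) := by rw [pow_succ, ih, mul_assoc]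
      _ = a ^ n * (b ^ n * a) * b * c ^ (n.choose 2) := by rw [h5.eq]; group
      _ = a ^ n * a * b ^ n * (c ^ n * b) * c ^ (n.choose 2) := by rw [h1]; group
      _ = a ^ (n + 1) * b ^ (n + 1) * c ^ ((n + 1).choose 2) := by
        rw [h6.eq, h4, pow_add c, pow_succ a, pow_succ b]
        group

end pow

variable {S : Type*} [Group S] [Finite S] {p : ℕ} [hp : Fact p.Prime]

/-- The power map modulo `N`. -/
theorem pow_mod (h2 : p ≠ 2) {N : Subgroup S} [hN : N.Normal] {a b : S} (h1 : ⁅a, ⁅a, b⁆⁆ ∈ N) (h3 : ⁅b, ⁅a, b⁆⁆ ∈ N)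
    (h4 : ⁅a, b⁆ ^ p ∈ N) : (a ^ p * b ^ p)⁻¹ * (a * b) ^ p ∈ N := by
  rw [← QuotientGroup.eq]
  set A : S ⧸ N := QuotientGroup.mk a with hA
  set B : S ⧸ N := QuotientGroup.mk b with hB
  set C : S ⧸ N := QuotientGroup.mk ⁅a, b⁆ with hC
  have e1 : ⁅A, C⁆ = 1 := by
    rw [hA, hC]
    exact (QuotientGroup.eq_one_iff _).2 h1
  have e2 : ⁅B, C⁆ = 1 := by
    rw [hB, hC]
    exact (QuotientGroup.eq_one_iff _).2 h3
  have e3 : C ^ p = 1 := (QuotientGroup.eq_one_iff _).2 h4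
  have e4 : C = ⁅A, B⁆ := rfl
  rw [commutatorElement_eq_one_iff_mul_comm] at e1 e2
  have c1 : Commute C⁻¹ A := by
    have : Commute A C := e1
    exact this.symm.inv_left
  have c2 : Commute C⁻¹ B := by
    have : Commute B C := e2
    exact this.symm.inv_left
  have h5 : B * A = A * B * C⁻¹ := by
    have e5 : A * B = C * (B * A) := by
      rw [e4, commutatorElement_def]
      group
    rw [(c1.mul_right c2).symm.eq, e5, inv_mul_cancel_left]
  have h6 := mul_pow_of_comm h5 c1.eq c2.eq p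
  have hdvd : p ∣ p.choose 2 := hp.out.dvd_choose_self (by norm_num) (lt_of_le_of_ne hp.out.two_le (Ne.symm h2))
  obtain ⟨k, hk⟩ := hdvd
  have h7 : C⁻¹ ^ p.choose 2 = 1 := by
    rw [hk, pow_mul, inv_pow, e3, inv_one, one_pow]
  rw [h7, mul_one] at h6
  exact h6.symm

/-! ### Three subgroups -/

theorem comm_le_right {H K : Subgroup S} [hK : K.Normal] : ⁅H, K⁆ ≤ K := Subgroup.commutator_le_right H K

/-- three subgroups lemma modulo a normal subgroup -/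
theorem three {N : Subgroup S} [hN : N.Normal] {H1 H2 H3 : Subgroup S} (h1 : ⁅⁅H2, H3⁆, H1⁆ ≤ N) (h2 : ⁅⁅H3, H1⁆, H2⁆ ≤ N) :
    ⁅⁅H1, H2⁆, H3⁆ ≤ N := by
  have key : ∀ H : Subgroup S, H ≤ N ↔ H.map (QuotientGroup.mk' N) = ⊥ := by
    intro H
    rw [Subgroup.map_eq_bot_iff, QuotientGroup.ker_mk']
  rw [key, Subgroup.map_commutator, Subgroup.map_commutator] at h1 h2 ⊢
  exact Subgroup.commutator_commutator_eq_bot_of_rotate h1 h2

theorem three' {N M : Subgroup S} [hN : N.Normal] (h : ⁅⁅M, (⊤ : Subgroup S)⁆, (⊤ : Subgroup S)⁆ ≤ N) :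
    ⁅M, ⁅(⊤ : Subgroup S), (⊤ : Subgroup S)⁆⁆ ≤ N := by
  rw [Subgroup.commutator_comm]
  refine three ?_ h
  rw [Subgroup.commutator_comm ⊤ M]
  exact h

theorem three'' {N M : Subgroup S} [hN : N.Normal] [hM : M.Normal]
    (h : ⁅⁅⁅M, (⊤ : Subgroup S)⁆, (⊤ : Subgroup S)⁆, (⊤ : Subgroup S)⁆ ≤ N) :
    ⁅M, ⁅⁅(⊤ : Subgroup S), (⊤ : Subgroup S)⁆, (⊤ : Subgroup S)⁆⁆ ≤ N := by
  rw [Subgroup.commutator_comm]
  refine three ?_ ?_
  · rw [Subgroup.commutator_comm ⊤ M]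
    exact three' h
  · have h1 : ⁅M, ⁅(⊤ : Subgroup S), (⊤ : Subgroup S)⁆⁆ ≤ ⁅⁅M, (⊤ : Subgroup S)⁆, (⊤ : Subgroup S)⁆ := three' le_rfl
    exact (Subgroup.commutator_mono h1 le_rfl).trans h

/-! ### Index computations -/

theorem rel_pow (hS : IsPGroup p S) (N M : Subgroup S) : ∃ k, N.relIndex M = p ^ k := by
  have h1 : IsPGroup p M := hS.to_subgroup M
  exact h1.index (N.subgroupOf M)

theorem rel_step (hS : IsPGroup p S) {N M : Subgroup S} [hN : N.Normal] [hM : M.Normal] (hle : N ≤ M) {k : ℕ}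
    (hk : N.relIndex M ≤ p ^ (k + 1)) : N.relIndex (⁅M, (⊤ : Subgroup S)⁆ ⊔ N) ≤ p ^ k := by
  by_cases hne : N = M
  · have h1 : ⁅M, (⊤ : Subgroup S)⁆ ⊔ N ≤ N := by
      rw [hne]
      exact sup_le (Subgroup.commutator_le_left M ⊤) le_rfl
    have h2 : N.relIndex (⁅M, (⊤ : Subgroup S)⁆ ⊔ N) = 1 := by
      rw [Subgroup.relIndex_eq_one]
      exact h1
    rw [h2]
    exact Nat.one_le_pow _ _ hp.out.pos
  · have h1 := comm_ne hS hle hne
    have hle2 : ⁅M, (⊤ : Subgroup S)⁆ ⊔ N ≤ M := sup_le (Subgroup.commutator_le_left M ⊤) hle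
    have h3 := Subgroup.relIndex_mul_relIndex N (⁅M, (⊤ : Subgroup S)⁆ ⊔ N) M le_sup_right hle2
    obtain ⟨j, hj⟩ := rel_pow hS (⁅M, (⊤ : Subgroup S)⁆ ⊔ N) M
    have hj0 : j ≠ 0 := by
      rintro rfl
      rw [pow_zero, Subgroup.relIndex_eq_one] at hj
      exact h1 (le_antisymm hle2 hj)
    have hj1 : p ≤ p ^ j := by
      calc p = p ^ 1 := (pow_one p).symm
        _ ≤ p ^ j := Nat.pow_le_pow_right hp.out.pos (by omega)
    rw [← h3, hj] at hk
    have h4 : N.relIndex (⁅M, (⊤ : Subgroup S)⁆ ⊔ N) * p ≤ p ^ k * p := by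
      calc N.relIndex (⁅M, (⊤ : Subgroup S)⁆ ⊔ N) * p ≤ N.relIndex (⁅M, (⊤ : Subgroup S)⁆ ⊔ N) * p ^ j := Nat.mul_le_mul_left _ hj1
        _ ≤ p ^ (k + 1) := hk
        _ = p ^ k * p := pow_succ p k
    exact Nat.le_of_mul_le_mul_right h4 hp.out.pos

theorem comm_le_of_one {N M : Subgroup S} [hN : N.Normal] [hM : M.Normal] (h : N.relIndex (⁅M, (⊤ : Subgroup S)⁆ ⊔ N) ≤ 1) :
    ⁅M, (⊤ : Subgroup S)⁆ ≤ N := by
  have h1 : N.relIndex (⁅M, (⊤ : Subgroup S)⁆ ⊔ N) ≠ 0 :=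
    (N.subgroupOf (⁅M, (⊤ : Subgroup S)⁆ ⊔ N)).index_ne_zero_of_finite
  have h2 : N.relIndex (⁅M, (⊤ : Subgroup S)⁆ ⊔ N) = 1 := by omega
  rw [Subgroup.relIndex_eq_one] at h2
  exact le_sup_left.trans h2

theorem comm1 (hS : IsPGroup p S) {N M : Subgroup S} [hN : N.Normal] [hM : M.Normal] (hle : N ≤ M)
    (hk : N.relIndex M ≤ p) : ⁅M, (⊤ : Subgroup S)⁆ ≤ N := by
  apply comm_le_of_one
  have := rel_step hS hle (k := 0) (by rw [zero_add, pow_one]; exact hk)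
  rwa [pow_zero] at this

theorem comm2 (hS : IsPGroup p S) {N M : Subgroup S} [hN : N.Normal] [hM : M.Normal] (hle : N ≤ M)
    (hk : N.relIndex M ≤ p ^ 2) : ⁅⁅M, (⊤ : Subgroup S)⁆, (⊤ : Subgroup S)⁆ ≤ N := by
  have h1 := rel_step hS hle (k := 1) hk
  have h2 := comm1 hS (M := ⁅M, (⊤ : Subgroup S)⁆ ⊔ N) le_sup_right (by rwa [pow_one] at h1)
  exact (Subgroup.commutator_mono le_sup_left le_rfl).trans h2

theorem comm3 (hS : IsPGroup p S) {N M : Subgroup S} [hN : N.Normal] [hM : M.Normal] (hle : N ≤ M)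
    (hk : N.relIndex M ≤ p ^ 3) : ⁅⁅⁅M, (⊤ : Subgroup S)⁆, (⊤ : Subgroup S)⁆, (⊤ : Subgroup S)⁆ ≤ N := by
  have h1 := rel_step hS hle (k := 2) hk
  have h2 := comm2 hS (M := ⁅M, (⊤ : Subgroup S)⁆ ⊔ N) le_sup_right h1
  exact (Subgroup.commutator_mono (Subgroup.commutator_mono le_sup_left le_rfl) le_rfl).trans h2

/-! ### Involutions -/

theorem inv_sq {τ : MulAut S} (hτ : ∀ s, τ (τ s) = s) (s : S) : τ (s⁻¹ * τ s) = (s⁻¹ * τ s)⁻¹ := by
  rw [map_mul, map_inv, hτ, mul_inv_rev, inv_inv]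

/-- an involution trivial on two sections -/
theorem triv_trans (hS : IsPGroup p S) (h2 : p ≠ 2) {τ : MulAut S} (hτ : ∀ s, τ (τ s) = s) {N : Subgroup S} {s : S}
    (h : (s⁻¹ * τ s)⁻¹ * τ (s⁻¹ * τ s) ∈ N) : s⁻¹ * τ s ∈ N := by
  rw [inv_sq hτ] at h
  apply sq_mem hS h2
  have := N.inv_mem h
  rwa [mul_inv_rev, inv_inv] at this

/-- an involution inverting modulo `N` acts trivially only on `N` -/
theorem mem_of_inv_triv (hS : IsPGroup p S) (h2 : p ≠ 2) {τ : MulAut S} {N : Subgroup S} [hN : N.Normal] {s : S}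
    (h1 : τ s * s ∈ N) (h3 : s⁻¹ * τ s ∈ N) : s ∈ N := by
  apply sq_mem hS h2
  have h4 := hN.conj_mem _ h3 s
  have h5 := N.mul_mem (N.inv_mem h4) h1
  have e : (s * (s⁻¹ * τ s) * s⁻¹)⁻¹ * (τ s * s) = s * s := by group
  rwa [e] at h5

/-- restriction of an automorphism -/
noncomputable def resAut (τ : MulAut S) (M : Subgroup S) (h : ∀ m ∈ M, τ m ∈ M) : MulAut M :=
  MulEquiv.ofBijective (((τ : S ≃* S).toMonoidHom.comp M.subtype).codRestrict M (fun x => h x x.2))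
    ((Finite.injective_iff_bijective).1 (fun a b hab => Subtype.ext (τ.injective (congrArg (fun z : M => (z : S)) hab))))

theorem resAut_apply (τ : MulAut S) (M : Subgroup S) (h : ∀ m ∈ M, τ m ∈ M) (m : M) : (resAut τ M h m : S) = τ m := rfl

/-- An involution trivial modulo the Frattini subgroup is trivial. -/
theorem fix_of_Fr (hS : IsPGroup p S) (h2 : p ≠ 2) {τ : MulAut S} (hτ : ∀ s, τ (τ s) = s) {M : Subgroup S}
    (hM : ∀ m ∈ M, τ m ∈ M) (h : ∀ m ∈ M, m⁻¹ * τ m ∈ Fr M) : ∀ m ∈ M, τ m = m := by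
  intro m hm
  have h1 : resAut τ M hM = 1 := by
    apply Cfsg.Agent.H767.EssFrat.eq_one_of_mod_frattini (hS.to_subgroup M)
    · have h3 : orderOf (resAut τ M hM) ∣ 2 := by
        apply orderOf_dvd_of_pow_eq_one
        ext x
        rw [pow_two, MulAut.mul_apply, resAut_apply, resAut_apply, hτ]
        rfl
      apply Nat.Coprime.coprime_dvd_left h3
      rw [Nat.coprime_primes Nat.prime_two hp.out]
      exact Ne.symm h2
    · intro x
      have h4 := h x x.2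
      exact mem_Fr.1 h4
  have h3 := resAut_apply τ M hM ⟨m, hm⟩
  rw [h1] at h3
  exact h3.symm

/-! ### Commutator calculus modulo a normal subgroup -/

section calc'

variable {N : Subgroup S} [hN : N.Normal]

theorem cm_mul_left {a b c : S} (h1 : ⁅a, c⁆ ∈ N) (h2 : ⁅b, c⁆ ∈ N) : ⁅a * b, c⁆ ∈ N := by
  have e : ⁅a * b, c⁆ = a * ⁅b, c⁆ * a⁻¹ * ⁅a, c⁆ := by
    rw [commutatorElement_def, commutatorElement_def, commutatorElement_def]
    group
  rw [e]
  exact N.mul_mem (hN.conj_mem _ h2 a) h1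

theorem cm_symm {a b : S} (h : ⁅a, b⁆ ∈ N) : ⁅b, a⁆ ∈ N := by
  rw [← commutatorElement_inv]
  exact N.inv_mem h

theorem cm_inv_left {a c : S} (h1 : ⁅a, c⁆ ∈ N) : ⁅a⁻¹, c⁆ ∈ N := by
  have e : ⁅a⁻¹, c⁆ = a⁻¹ * (⁅a, c⁆)⁻¹ * a⁻¹⁻¹ := by
    rw [commutatorElement_def, commutatorElement_def]
    group
  rw [e]
  exact hN.conj_mem _ (N.inv_mem h1) _

theorem cm_mul_right {a b c : S} (h1 : ⁅c, a⁆ ∈ N) (h2 : ⁅c, b⁆ ∈ N) : ⁅c, a * b⁆ ∈ N :=
  cm_symm (cm_mul_left (cm_symm h1) (cm_symm h2))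

theorem cm_inv_right {a c : S} (h1 : ⁅c, a⁆ ∈ N) : ⁅c, a⁻¹⁆ ∈ N := cm_symm (cm_inv_left (cm_symm h1))

theorem cm_of_mem_left {a c : S} (h : a ∈ N) : ⁅a, c⁆ ∈ N := by
  rw [commutatorElement_def]
  have e : a * c * a⁻¹ * c⁻¹ = a * (c * a⁻¹ * c⁻¹) := by group
  rw [e]
  exact N.mul_mem h (hN.conj_mem _ (N.inv_mem h) c)

theorem cm_of_mem_right {a c : S} (h : c ∈ N) : ⁅a, c⁆ ∈ N := cm_symm (cm_of_mem_left h)

theorem cm_zpow_left {a c : S} (h1 : ⁅a, c⁆ ∈ N) (n : ℤ) : ⁅a ^ n, c⁆ ∈ N := by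
  let T : Subgroup S :=
    { carrier := {x | ⁅x, c⁆ ∈ N}
      mul_mem' := fun hx hy => cm_mul_left hx hy
      one_mem' := by
        show ⁅(1 : S), c⁆ ∈ N
        rw [commutatorElement_one_left]
        exact N.one_mem
      inv_mem' := fun hx => cm_inv_left hx }
  exact T.zpow_mem (show a ∈ T from h1) n

end calc'

end Cfsg.Agent.H767.TE
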