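import Cfsg.Agent.H944.TS.Iface
import Cfsg.Agent.S0991
import Cfsg.Agent.S0806
import Cfsg.Agent.S0387
import Cfsg.Agent.Schreier.MTwelve
import Cfsg.Agent.TwoFusion.SLTwoFacts

/-!
# S5741, task A2: subgroups of `A₁₂`, `A₈`, `A₉` (helper767)

`M₁₂`, `M₁₁`, `L₂(11)` in `A₁₂`, `L₂(7)` in `A₈`, `L₂(8)` in `A₉`.
-/

set_option autoImplicit false

namespace Cfsg.Agent.H767.TSAlt

open Cfsg Cfsg.Agent.OrdDiv Cfsg.Agent.H944.TS
open scoped Pointwise

universe u

/-- an injective homomorphism between models gives the relation `Sub` -/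
theorem sub_of_hom {g h : Grp} {n : ℕ} (hg : g = .alt n) {H : Type*} [Group H]
    (f : H →* ↥(alternatingGroup (Fin n))) (hf : Function.Injective f)
    (hh : ∀ (Y : Type u) [Group Y], Nonempty (Y ≃* H) → Real h Y) : Sub.{u} g h := by
  subst hg
  intro X _ hX
  obtain ⟨e⟩ : Nonempty (X ≃* ↥(alternatingGroup (Fin n))) := hX
  let f' : H →* X := e.symm.toMonoidHom.comp f
  have hf' : Function.Injective f' := e.symm.injective.comp hf
  exact ⟨f'.range, hh _ ⟨(MonoidHom.ofInjective hf').symm⟩⟩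

/-- a simple non-abelian group with a subgroup of index `n > 1` embeds in `A_n` -/
theorem exists_hom {H : Type*} [Group H] [Finite H] [IsSimpleGroup H] (hH : ¬ IsMulCommutative H) {n : ℕ}
    (h1 : n ≠ 1) (h2 : ∃ K : Subgroup H, K.index = n) :
    ∃ f : H →* ↥(alternatingGroup (Fin n)), Function.Injective f := by
  obtain ⟨K, rfl⟩ := h2
  exact Cfsg.Agent.S0991.result hH K (fun h => h1 (by rw [h, Subgroup.index_top]))

/-- the stabiliser of a dodecad and one of its points is `M₁₁` -/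
def eM11 : ↥(MulAction.stabilizer M24 Spor.squareDodecad ⊓ MulAction.stabilizer M24 (some 0 : GolayPt)) ≃*
    Spor.M11 where
  toFun g := ⟨((g : M24) : Equiv.Perm GolayPt), ⟨(g : M24).2, g.2.1⟩, g.2.2⟩
  invFun g := ⟨⟨(g : Equiv.Perm GolayPt), g.2.1.1⟩, g.2.1.2, g.2.2⟩
  left_inv _ := rfl
  right_inv _ := rfl
  map_mul' _ _ := rfl

theorem zero_mem : (some 0 : GolayPt) ∈ Spor.squareDodecad := by decide +kernel

theorem card_M11 : Nat.card Spor.M11 = 7920 := by
  rw [← Nat.card_congr eM11.toEquiv]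
  exact Cfsg.Agent.S0387.result _ Cfsg.Agent.Schreier.MTwelve.squareDodecad_mem _ zero_mem

theorem exists_index_M12 : ∃ K : Subgroup ↥Cfsg.Spor.M12, K.index = 12 := by
  refine ⟨Cfsg.Spor.M11.subgroupOf Cfsg.Spor.M12, ?_⟩
  have hle : Cfsg.Spor.M11 ≤ Cfsg.Spor.M12 := inf_le_left
  have h1 : Nat.card ↥(Cfsg.Spor.M11.subgroupOf Cfsg.Spor.M12) = 7920 := by
    rw [Nat.card_congr (Subgroup.subgroupOfEquivOfLe hle).toEquiv, card_M11]
  have h2 := (Cfsg.Spor.M11.subgroupOf Cfsg.Spor.M12).card_mul_index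
  rw [h1, Cfsg.Agent.MTwelveType.SylowModel.card_M12] at h2
  omega

theorem exists_hom_M12 : ∃ f : ↥Cfsg.Spor.M12 →* ↥(alternatingGroup (Fin 12)), Function.Injective f := by
  have := Cfsg.Agent.Schreier.MTwelve.isSimpleGroup
  exact exists_hom Cfsg.Agent.Schreier.MTwelve.not_isMulCommutative (by norm_num) exists_index_M12

/-- **A2.** `M₁₂ ≤ A₁₂` -/
theorem alt12_m12 : Sub.{u} (.alt 12) .m12 := by
  obtain ⟨f, hf⟩ := exists_hom_M12
  exact sub_of_hom rfl f hf (fun Y _ h => h)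

/-- **A2.** `M₁₁ ≤ A₁₂` -/
theorem alt12_m11 : Sub.{u} (.alt 12) .m11 := by
  obtain ⟨f, hf⟩ := exists_hom_M12
  have hle : Cfsg.Spor.M11 ≤ Cfsg.Spor.M12 := inf_le_left
  exact sub_of_hom rfl (f.comp (Subgroup.inclusion hle)) (hf.comp (Subgroup.inclusion_injective hle))
    (fun Y _ h => h)

section psl

variable {F : Type*} [Field F] [Fintype F]

theorem not_comm_psl (h3 : 3 < Fintype.card F) :
    ¬ IsMulCommutative (Matrix.ProjectiveSpecialLinearGroup (Fin 2) F) := by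
  intro h
  have h1 := TwoFusion.SLTwoFacts.commutator_eq_top h3
  have h2 := Subgroup.map_commutator (⊤ : Subgroup (Matrix.SpecialLinearGroup (Fin 2) F)) ⊤
    (QuotientGroup.mk' (Subgroup.center (Matrix.SpecialLinearGroup (Fin 2) F)))
  have h4 : ⁅(⊤ : Subgroup (Matrix.SpecialLinearGroup (Fin 2) F)), ⊤⁆ = ⊤ := h1
  have h6 : (⊤ : Subgroup (Matrix.SpecialLinearGroup (Fin 2) F)).map
      (QuotientGroup.mk' (Subgroup.center (Matrix.SpecialLinearGroup (Fin 2) F))) = ⊤ :=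
    Subgroup.map_top_of_surjective _ (QuotientGroup.mk'_surjective _)
  rw [h4, h6] at h2
  have h5 : ⁅(⊤ : Subgroup (Matrix.SpecialLinearGroup (Fin 2) F ⧸
      Subgroup.center (Matrix.SpecialLinearGroup (Fin 2) F))),
      (⊤ : Subgroup (Matrix.SpecialLinearGroup (Fin 2) F ⧸
        Subgroup.center (Matrix.SpecialLinearGroup (Fin 2) F)))⁆ = ⊥ := by
    rw [Subgroup.commutator_eq_bot_iff_le_centralizer]
    intro x _
    rw [Subgroup.mem_centralizer_iff]
    intro y _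
    exact h.is_comm.comm y x
  rw [h5] at h2
  have := (TwoFusion.SLTwoFacts.isSimpleGroup_psl h3).toNontrivial
  exact top_ne_bot (α := Subgroup (Matrix.ProjectiveSpecialLinearGroup (Fin 2) F)) h2

theorem exists_hom_psl (h3 : 3 < Fintype.card F) :
    ∃ f : Matrix.ProjectiveSpecialLinearGroup (Fin 2) F →* ↥(alternatingGroup (Fin (Fintype.card F + 1))),
      Function.Injective f := by
  have := TwoFusion.SLTwoFacts.isSimpleGroup_psl h3
  refine exists_hom (not_comm_psl h3) (by omega) ?_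
  obtain ⟨K, hK⟩ := Cfsg.Agent.S0806.exists_index (F := F)
  exact ⟨K, by rw [hK, Nat.card_eq_fintype_card]⟩

end psl

/-- `L₂(q) ≤ A_{q+1}` -/
theorem alt_psl {q : ℕ} (h3 : 3 < q) (hq : IsPrimePow q) : Sub.{u} (.alt (q + 1)) (.psl 2 q) := by
  obtain ⟨p, k, hp, hk, rfl⟩ := hq
  have : Fact p.Prime := ⟨hp.nat_prime⟩
  have : Finite (GaloisField p k) := by
    apply Nat.finite_of_card_ne_zero
    rw [GaloisField.card p k hk.ne']
    exact pow_ne_zero _ hp.nat_prime.ne_zero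
  have : Fintype (GaloisField p k) := Fintype.ofFinite _
  have hc : Fintype.card (GaloisField p k) = p ^ k := by
    rw [← Nat.card_eq_fintype_card]
    exact GaloisField.card p k hk.ne'
  obtain ⟨f, hf⟩ := exists_hom_psl (F := GaloisField p k) (by rw [hc]; exact h3)
  refine sub_of_hom (g := .alt (p ^ k + 1)) (n := Fintype.card (GaloisField p k) + 1) (by rw [hc]) f hf ?_
  intro Y _ h
  exact ⟨GaloisField p k, inferInstance, inferInstance, hc, h⟩

/-- **A2.** `L₂(11) ≤ A₁₂` -/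
theorem alt12_psl11 : Sub.{u} (.alt 12) (.psl 2 11) :=
  alt_psl (q := 11) (by norm_num) (Nat.Prime.isPrimePow (by norm_num))

/-- **A2.** `L₂(7) ≤ A₈` -/
theorem alt8_psl7 : Sub.{u} (.alt 8) (.psl 2 7) :=
  alt_psl (q := 7) (by norm_num) (Nat.Prime.isPrimePow (by norm_num))

/-- **A2.** `L₂(8) ≤ A₉` -/
theorem alt9_psl8 : Sub.{u} (.alt 9) (.psl 2 8) :=
  alt_psl (q := 8) (by norm_num) ⟨2, 3, Nat.prime_two.prime, by norm_num, by norm_num⟩

end Cfsg.Agent.H767.TSAlt
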